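import Groth.Agent.CycB.RelDim3
import Groth.Agent.CycA.SetupField
import Groth.Agent.Dix.ProjProper
import Groth.Prelude.Def_RelProj
import Mathlib.AlgebraicGeometry.ZariskisMainTheorem

/-!
# Basic facts for correspondences over a field: dimension function, H-projective morphisms
-/

set_option autoImplicit false

universe u

open AlgebraicGeometry CategoryTheory CategoryTheory.Limits

namespace K952.Basic

open Groth.Agent.CycB Groth.Agent.CycB.RelDim Groth.Agent.Dix.ProjProper

variable {X Y Z : Scheme.{u}}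

theorem isProper_of_isHProjective {f : X ⟶ Y} (h : RelProj.IsHProjective f) : IsProper f := by
  obtain ⟨n, i, hi, rfl⟩ := h
  infer_instance

theorem isSeparated_of_isHQuasiProjective {f : X ⟶ Y} (h : RelProj.IsHQuasiProjective f) :
    IsSeparated f := by
  obtain ⟨n, i, hi, hi', rfl⟩ := h
  infer_instance

theorem locallyOfFiniteType_of_isHQuasiProjective {f : X ⟶ Y} (h : RelProj.IsHQuasiProjective f) :
    LocallyOfFiniteType f := by
  obtain ⟨n, i, hi, hi', rfl⟩ := h
  infer_instance

theorem quasiCompact_of_isHQuasiProjective {f : X ⟶ Y} (h : RelProj.IsHQuasiProjective f) :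
    QuasiCompact f := by
  obtain ⟨n, i, hi, hi', rfl⟩ := h
  infer_instance

variable {k : Type u} [Field k]

/-- The transcendence degree of `κ(x)` over `k`, as a natural number. -/
noncomputable def dm (p : X ⟶ Spec (CommRingCat.of k)) (x : X) : ℕ :=
  Cardinal.toNat (rtd p x)

theorem rtd_eq_dm (p : X ⟶ Spec (CommRingCat.of k)) [LocallyOfFiniteType p] (x : X) :
    rtd p x = dm p x :=
  (Cardinal.cast_toNat_of_lt_aleph0 (rtd_lt_aleph0 p x)).symm

theorem deltaCompat_dm (p : X ⟶ Spec (CommRingCat.of k)) [LocallyOfFiniteType p] :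
    Cyc.DeltaCompat p (fun x => (dm p x : ℤ)) (fun _ => 0) := by
  rw [deltaCompat_iff]
  exact fun x => ⟨dm p x, rtd_eq_dm p x, by simp⟩

theorem delta_eq_dm {p : X ⟶ Spec (CommRingCat.of k)} [LocallyOfFiniteType p] {δ : X → ℤ}
    (hδ : Cyc.DeltaCompat p δ (fun _ => 0)) (x : X) : δ x = dm p x := by
  obtain ⟨n, hn, h⟩ := deltaCompat_iff.mp hδ x
  rw [rtd_eq_dm] at hn
  have : dm p x = n := by exact_mod_cast hn
  rw [h, this, zero_add]

theorem dm_comp_eq (f : X ⟶ Y) (q : Y ⟶ Spec (CommRingCat.of k)) [LocallyOfFiniteType f]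
    [LocallyOfFiniteType q] (x : X) :
    dm (f ≫ q) x = dm q (f x) + Cardinal.toNat (rtd f x) := by
  have h := rtd_comp f q x
  have h2 : rtd f x = (Cardinal.toNat (rtd f x) : ℕ) :=
    (Cardinal.cast_toNat_of_lt_aleph0 (rtd_lt_aleph0 f x)).symm
  rw [rtd_eq_dm, rtd_eq_dm, h2] at h
  exact_mod_cast h

theorem deltaCompat_dm_comp (f : X ⟶ Y) (q : Y ⟶ Spec (CommRingCat.of k)) [LocallyOfFiniteType f]
    [LocallyOfFiniteType q] :
    Cyc.DeltaCompat f (fun x => (dm (f ≫ q) x : ℤ)) (fun y => (dm q y : ℤ)) := by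
  rw [deltaCompat_iff]
  refine fun x => ⟨Cardinal.toNat (rtd f x),
    (Cardinal.cast_toNat_of_lt_aleph0 (rtd_lt_aleph0 f x)).symm, ?_⟩
  rw [dm_comp_eq]
  push_cast
  rfl

theorem dm_le_comp (f : X ⟶ Y) (q : Y ⟶ Spec (CommRingCat.of k)) [LocallyOfFiniteType f]
    [LocallyOfFiniteType q] (x : X) : dm q (f x) ≤ dm (f ≫ q) x := by
  rw [dm_comp_eq]; exact Nat.le_add_right _ _

theorem dm_comp_of_isPreimmersion (f : X ⟶ Y) (q : Y ⟶ Spec (CommRingCat.of k)) [IsPreimmersion f]
    (x : X) : dm (f ≫ q) x = dm q (f x) := by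
  unfold dm
  rw [rtd_comp, rtd_eq_zero_of_isPreimmersion f, add_zero]

theorem dm_lt_of_specializes (p : X ⟶ Spec (CommRingCat.of k)) [LocallyOfFiniteType p] {x x' : X}
    (h : x' ⤳ x) (hne : x' ≠ x) : dm p x < dm p x' := by
  have := RelDim.rtd_lt_of_specializes p h hne (Subsingleton.elim _ _)
  rw [rtd_eq_dm, rtd_eq_dm] at this
  exact_mod_cast this

theorem dm_le_of_specializes (p : X ⟶ Spec (CommRingCat.of k)) [LocallyOfFiniteType p] {x x' : X}
    (h : x' ⤳ x) : dm p x ≤ dm p x' := by
  by_cases hne : x' = x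
  · rw [hne]
  · exact (dm_lt_of_specializes p h hne).le

theorem dm_dim_closure (p : X ⟶ Spec (CommRingCat.of k)) [LocallyOfFiniteType p] (x : X) :
    topologicalKrullDim (closure {x} : Set X) = dm p x := by
  obtain ⟨n, hn, hn'⟩ := RelDim.exists_dim_closure p (isAffineOpen_top _)
    ((Scheme.ΓSpecIso (CommRingCat.of k)).commRingCatIsoToRingEquiv.toMulEquiv.isField
      (Field.toIsField _)) x
  rw [hn']
  rw [rtd_eq_dm] at hn
  have h2 : dm p x = n := by exact_mod_cast hn
  rw [h2]

theorem dm_genericPoint (p : X ⟶ Spec (CommRingCat.of k)) [LocallyOfFiniteType p]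
    [IrreducibleSpace X] {n : ℕ} (hn : topologicalKrullDim X = n) :
    dm p (genericPoint X) = n := by
  have h := dm_dim_closure p (genericPoint X)
  have h2 : (closure {genericPoint X} : Set X) = Set.univ := genericPoint_closure X
  rw [h2, IsHomeomorph.topologicalKrullDim_eq _ (Homeomorph.Set.univ X).isHomeomorph, hn] at h
  exact_mod_cast h.symm

theorem dm_eq_zero_iff_isClosed (p : X ⟶ Spec (CommRingCat.of k)) [LocallyOfFiniteType p] (x : X) :
    dm p x = 0 ↔ IsClosed ({x} : Set X) := by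
  constructor
  · intro h
    rw [← closure_subset_iff_isClosed]
    intro y hy
    by_contra hne
    have := dm_lt_of_specializes p (specializes_iff_mem_closure.mpr hy) (fun e => hne e.symm)
    omega
  · intro h
    have h1 := dm_dim_closure p x
    rw [h.closure_eq] at h1
    have h3 : topologicalKrullDim ({x} : Set X) ≤ 0 :=
      have : Subsingleton ({x} : Set X) := Set.subsingleton_coe _ |>.mpr Set.subsingleton_singleton
      topologicalKrullDim_zero_of_discreteTopology ({x} : Set X)
    rw [h1] at h3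
    have : dm p x ≤ 0 := by exact_mod_cast h3
    omega

theorem isSetup_dm (p : X ⟶ Spec (CommRingCat.of k)) [LocallyOfFiniteType p] :
    Cyc.IsSetup X (fun x => (dm p x : ℤ)) :=
  Groth.Agent.CycA.SetupField.isSetup_of_field p (deltaCompat_dm p)

end K952.Basic
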