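import Groth.Agent.CycA.MovRatZ
import Groth.Agent.CycB.PushRat
import Groth.Agent.CycB.Push
import Groth.Agent.S1855
import Groth.Agent.ZCorr.K952.Basic
import Mathlib.AlgebraicGeometry.AlgClosed.Basic

/-!
# Zero cycles over an algebraically closed field: rational equivalence of closed points

`RZ p` is the group of coefficient functions of the zero cycles rationally equivalent to zero.
-/

set_option autoImplicit false

universe u

open AlgebraicGeometry CategoryTheory CategoryTheory.Limits TopologicalSpace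

namespace K952.Pts

open Groth.Agent Groth.Agent.CycA.MovRatZ Basic

variable {X Y : Scheme.{u}} {K : Type u} [Field K]

/-- Finite sums of principal divisors of curves: the coefficient functions of zero cycles
rationally equivalent to zero. -/
noncomputable abbrev RZ (p : X ⟶ Spec (CommRingCat.of K)) : AddSubgroup (X → ℤ) :=
  RatZ (fun x => (dm p x : ℤ)) 0

theorem indicator_self (x : X) : (Set.indicator {x} 1 : X → ℤ) x = 1 := by simp

theorem indicator_ne {x y : X} (h : y ≠ x) : (Set.indicator {x} 1 : X → ℤ) y = 0 :=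
  Set.indicator_of_notMem (by simpa using h) _

/-- The residue degree of a closed point over an algebraically closed field is one. -/
theorem residueDegree_eq_one [IsAlgClosed K] (p : X ⟶ Spec (CommRingCat.of K))
    [LocallyOfFiniteType p] (x : X) (hx : IsClosed ({x} : Set X)) : p.residueDegree x = 1 := by
  let c : (Spec (CommRingCat.of K) : Scheme.{u}) := IsLocalRing.closedPoint K
  have h1 := CycB.Push.residueDegree_comp (pointOfClosedPoint p x hx) p c
  rw [pointOfClosedPoint_comp, Scheme.Hom.residueDegree_id] at h1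
  have h2 : (pointOfClosedPoint p x hx) c = x := pointOfClosedPoint_apply p x hx _
  rw [h2] at h1
  exact Nat.eq_one_of_mul_eq_one_right h1.symm

theorem residueDegree_map_eq_one [IsAlgClosed K] (f : X ⟶ Y) (q : Y ⟶ Spec (CommRingCat.of K))
    [LocallyOfFiniteType f] [LocallyOfFiniteType q] (x : X) (hx : IsClosed ({x} : Set X)) :
    f.residueDegree x = 1 := by
  have h1 := CycB.Push.residueDegree_comp f q x
  rw [residueDegree_eq_one (f ≫ q) x hx] at h1
  exact Nat.eq_one_of_mul_eq_one_left h1.symm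

theorem mapCoeff_eq_one [IsAlgClosed K] (f : X ⟶ Y) (q : Y ⟶ Spec (CommRingCat.of K))
    [LocallyOfFiniteType f] [LocallyOfFiniteType q] (x : X) (hx : dm (f ≫ q) x = 0) :
    AlgebraicCycle.mapCoeff f (fun x => (dm (f ≫ q) x : ℤ)) (fun y => (dm q y : ℤ)) x = 1 := by
  have h1 : dm q (f x) = 0 := Nat.le_zero.1 (hx ▸ dm_le_comp f q x)
  unfold AlgebraicCycle.mapCoeff
  rw [if_pos (by change ((dm (f ≫ q) x : ℤ)) = dm q (f x); rw [hx, h1])]
  exact residueDegree_map_eq_one f q x ((dm_eq_zero_iff_isClosed (f ≫ q) x).1 hx)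

/-- The pushforward of a zero cycle over an algebraically closed field. -/
theorem map_apply_zero [IsAlgClosed K] (f : X ⟶ Y) (q : Y ⟶ Spec (CommRingCat.of K))
    [QuasiCompact f] [LocallyOfFiniteType f] [LocallyOfFiniteType q] (z : AlgebraicCycle X ℤ)
    (hz : ∀ x, z x ≠ 0 → dm (f ≫ q) x = 0) (y : Y) :
    AlgebraicCycle.map f (fun x => (dm (f ≫ q) x : ℤ)) (fun y => (dm q y : ℤ)) z y =
      ∑ᶠ x ∈ {x : X | f x = y}, z x := by
  rw [CycB.Push.map_apply]
  refine finsum_mem_congr rfl fun x _ => ?_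
  by_cases hx : z x = 0
  · rw [hx, zero_mul]
  · rw [mapCoeff_eq_one f q x (hz x hx)]
    simp

theorem dm_eq_zero_of_mem_RZ {p : X ⟶ Spec (CommRingCat.of K)} [LocallyOfFiniteType p]
    {φ : X → ℤ} (h : φ ∈ RZ p) (x : X) (hx : φ x ≠ 0) : dm p x = 0 := by
  have hset := isSetup_dm p
  have hN : IsLocallyNoetherian X := hset.1
  obtain ⟨α, hα, hα'⟩ := exists_cycle_of_mem_ratZ hset.2.2 h
  have h2 := CycB.DivFun.RatEquivZero.mem_Zk hα'
  rw [← hα] at hx
  by_contra hne
  exact hx (h2 x (fun e => hne (Nat.cast_eq_zero.1 e)))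

/-- Proper pushforward of zero cycles preserves rational equivalence to zero. -/
theorem push_mem [IsAlgClosed K] (f : X ⟶ Y) (q : Y ⟶ Spec (CommRingCat.of K))
    [IsProper f] [LocallyOfFiniteType q] [CompactSpace Y] {φ : X → ℤ} (hφ : φ ∈ RZ (f ≫ q)) :
    (fun y => ∑ᶠ x ∈ {x : X | f x = y}, φ x) ∈ RZ q := by
  have hX := isSetup_dm (f ≫ q)
  have hY := isSetup_dm q
  have hN : IsLocallyNoetherian X := hX.1
  have hNY : IsLocallyNoetherian Y := hY.1
  have hcX : CompactSpace X := QuasiCompact.compactSpace_of_compactSpace f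
  obtain ⟨α, hα, hα'⟩ := exists_cycle_of_mem_ratZ hX.2.2 hφ
  have hαz := CycB.DivFun.RatEquivZero.mem_Zk hα'
  have h0z : (0 : AlgebraicCycle X ℤ) ∈ Cyc.Zk X (fun x => (dm (f ≫ q) x : ℤ)) 0 :=
    fun x hx => rfl
  have h1 : Cyc.RatEquiv (fun x => (dm (f ≫ q) x : ℤ)) 0 α 0 := by
    unfold Cyc.RatEquiv
    rwa [sub_zero]
  have h2 := S1855.result X Y _ _ hX hY f (deltaCompat_dm_comp f q) 0 α 0 hαz h0z h1
  have h3 : AlgebraicCycle.map f (fun x => (dm (f ≫ q) x : ℤ)) (fun y => (dm q y : ℤ))
      (0 : AlgebraicCycle X ℤ) = 0 := by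
    have h4 := CycB.PushRat.map_sub (fun x => (dm (f ≫ q) x : ℤ)) (fun y => (dm q y : ℤ)) f 0 0
    rw [sub_self, sub_self] at h4
    exact h4
  rw [h3] at h2
  have h5 : Cyc.RatEquivZero (fun y => (dm q y : ℤ)) 0
      (AlgebraicCycle.map f (fun x => (dm (f ≫ q) x : ℤ)) (fun y => (dm q y : ℤ)) α) := by
    unfold Cyc.RatEquiv at h2
    rwa [sub_zero] at h2
  have h6 := mem_ratZ_of_ratEquivZero h5
  have h7 : ⇑(AlgebraicCycle.map f (fun x => (dm (f ≫ q) x : ℤ)) (fun y => (dm q y : ℤ)) α) =
      fun y => ∑ᶠ x ∈ {x : X | f x = y}, φ x := by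
    funext y
    rw [map_apply_zero f q α (fun x hx => by
      by_contra hne
      exact hx (hαz x (fun e => hne (Nat.cast_eq_zero.1 e))))]
    rw [hα]
  rwa [h7] at h6

/-- Two points are rationally equivalent (as zero cycles). -/
def PtEq (p : X ⟶ Spec (CommRingCat.of K)) (x y : X) : Prop :=
  (Set.indicator {x} 1 - Set.indicator {y} 1 : X → ℤ) ∈ RZ p

theorem PtEq.refl (p : X ⟶ Spec (CommRingCat.of K)) (x : X) : PtEq p x x := by
  unfold PtEq
  rw [sub_self]
  exact zero_mem _

theorem PtEq.symm {p : X ⟶ Spec (CommRingCat.of K)} {x y : X} (h : PtEq p x y) : PtEq p y x := by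
  unfold PtEq
  rw [← neg_sub]
  exact neg_mem h

theorem PtEq.trans {p : X ⟶ Spec (CommRingCat.of K)} {x y z : X} (h : PtEq p x y)
    (h' : PtEq p y z) : PtEq p x z := by
  unfold PtEq
  rw [← sub_add_sub_cancel]
  exact add_mem h h'

theorem finsum_indicator (f : X → Y) (x : X) (y : Y) :
    ∑ᶠ x' ∈ {x' : X | f x' = y}, (Set.indicator {x} 1 : X → ℤ) x' =
      (Set.indicator {f x} 1 : Y → ℤ) y := by
  classical
  rw [finsum_mem_def, finsum_eq_single _ x]
  · by_cases h : f x = y
    · rw [Set.indicator_of_mem (show x ∈ {x' : X | f x' = y} from h), indicator_self, h,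
        indicator_self]
    · rw [Set.indicator_of_notMem (show x ∉ {x' : X | f x' = y} from h), indicator_ne
        (fun e => h e.symm)]
  · intro x' hx'
    by_cases h : f x' = y
    · rw [Set.indicator_of_mem (show x' ∈ {x' : X | f x' = y} from h), indicator_ne hx']
    · rw [Set.indicator_of_notMem (show x' ∉ {x' : X | f x' = y} from h)]

/-- The image of rationally equivalent closed points under a proper morphism. -/
theorem PtEq.push [IsAlgClosed K] {f : X ⟶ Y} {q : Y ⟶ Spec (CommRingCat.of K)}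
    [IsProper f] [LocallyOfFiniteType q] [CompactSpace Y] {x y : X}
    (h : PtEq (f ≫ q) x y) : PtEq q (f x) (f y) := by
  have h1 := push_mem f q h
  have h2 : (fun y' => ∑ᶠ x' ∈ {x' : X | f x' = y'},
      (Set.indicator {x} 1 - Set.indicator {y} 1 : X → ℤ) x') =
      (Set.indicator {f x} 1 - Set.indicator {f y} 1 : Y → ℤ) := by
    funext y'
    have h3 : ∀ x' : X, (Set.indicator {x} 1 - Set.indicator {y} 1 : X → ℤ) x' =
      (Set.indicator {x} 1 : X → ℤ) x' - (Set.indicator {y} 1 : X → ℤ) x' := fun _ => rfl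
    simp only [h3]
    have hfx : ∀ x : X, (Function.support (Set.indicator {x} 1 : X → ℤ)).Finite := fun x =>
      (Set.finite_singleton x).subset fun x' hx' => by
        by_contra hne
        exact hx' (indicator_ne hne)
    have h4 := finsum_mem_add_distrib' (s := {x' : X | f x' = y'})
      (f := fun x' => (Set.indicator {x} 1 : X → ℤ) x' - (Set.indicator {y} 1 : X → ℤ) x')
      (g := (Set.indicator {y} 1 : X → ℤ))
      ((((hfx x).union (hfx y)).subset (Function.support_sub _ _)).subset
        Set.inter_subset_right) ((hfx y).subset Set.inter_subset_right)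
    simp only [sub_add_cancel] at h4
    rw [finsum_indicator (⇑f), finsum_indicator (⇑f)] at h4
    rw [Pi.sub_apply, h4, add_sub_cancel_right]
  rwa [h2] at h1

/-- A zero cycle of degree zero whose points are pairwise rationally equivalent is rationally
equivalent to zero. -/
theorem mem_of_finsum_eq_zero {p : X ⟶ Spec (CommRingCat.of K)} {φ : X → ℤ}
    (hφ : (Function.support φ).Finite)
    (h : ∀ x y, φ x ≠ 0 → φ y ≠ 0 → PtEq p x y) (h0 : ∑ᶠ x, φ x = 0) :
    φ ∈ RZ p := by
  classical
  rw [finsum_eq_sum φ hφ] at h0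
  rcases (Function.support φ).eq_empty_or_nonempty with he | ⟨x₀, hx₀⟩
  · rw [Function.support_eq_empty_iff.1 he]
    exact zero_mem _
  have h1 : φ = ∑ x ∈ hφ.toFinset, φ x •
      (Set.indicator {x} 1 - Set.indicator {x₀} 1 : X → ℤ) := by
    simp only [smul_sub, Finset.sum_sub_distrib]
    rw [← Finset.sum_smul, h0, zero_smul, sub_zero]
    funext y
    rw [Finset.sum_apply]
    by_cases hy : φ y = 0
    · rw [hy]
      symm
      refine Finset.sum_eq_zero fun x hx => ?_
      have hne : y ≠ x := by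
        rintro rfl
        simp [hy] at hx
      rw [Pi.smul_apply, indicator_ne hne, smul_zero]
    · rw [Finset.sum_eq_single y]
      · rw [Pi.smul_apply, indicator_self, smul_eq_mul, mul_one]
      · intro x _ hne
        rw [Pi.smul_apply, indicator_ne hne.symm, smul_zero]
      · intro h
        simp [hy] at h
  rw [h1]
  refine AddSubgroup.sum_mem _ fun x hx => AddSubgroup.zsmul_mem _ (h x x₀ ?_ hx₀) _
  simpa using hx

theorem finite_support_of_mem {p : X ⟶ Spec (CommRingCat.of K)} [LocallyOfFiniteType p]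
    [CompactSpace X] {φ : X → ℤ} (h : φ ∈ RZ p) : (Function.support φ).Finite := by
  have hset := isSetup_dm p
  have hN : IsLocallyNoetherian X := hset.1
  obtain ⟨α, hα, hα'⟩ := exists_cycle_of_mem_ratZ hset.2.2 h
  rw [← hα]
  exact finite_support α

theorem RZ_spec {φ : (Spec (CommRingCat.of K) : Scheme.{u}) → ℤ}
    (h : φ ∈ RZ (𝟙 (Spec (CommRingCat.of K)))) : φ = 0 := by
  induction h using AddSubgroup.closure_induction with
  | mem φ hφ =>
    obtain ⟨ξ, g, hξ, -, -⟩ := hφ
    exfalso
    have h1 : IsClosed ({ξ} : Set (Spec (CommRingCat.of K) : Scheme.{u})) := by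
      have : ({ξ} : Set (Spec (CommRingCat.of K) : Scheme.{u})) = Set.univ :=
        Set.eq_univ_of_forall fun y => Subsingleton.elim (α := PrimeSpectrum K) y ξ
      rw [this]
      exact isClosed_univ
    have h2 := (dm_eq_zero_iff_isClosed (𝟙 (Spec (CommRingCat.of K))) ξ).2 h1
    have h3 : ((dm (𝟙 (Spec (CommRingCat.of K))) ξ : ℕ) : ℤ) = 0 + 1 := hξ
    rw [h2] at h3
    norm_num at h3
  | zero => rfl
  | add a b _ _ ha hb => rw [ha, hb, add_zero]
  | neg a _ ha => rw [ha, neg_zero]

/-- Zero cycles rationally equivalent to zero on a proper scheme have degree zero. -/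
theorem finsum_eq_zero_of_mem [IsAlgClosed K] {p : X ⟶ Spec (CommRingCat.of K)} [IsProper p]
    {φ : X → ℤ} (h : φ ∈ RZ p) : ∑ᶠ x, φ x = 0 := by
  have h1 : φ ∈ RZ (p ≫ 𝟙 (Spec (CommRingCat.of K))) := by rwa [Category.comp_id]
  have h2 := RZ_spec (push_mem p (𝟙 (Spec (CommRingCat.of K))) h1)
  have h3 := congrFun h2 (IsLocalRing.closedPoint K)
  rw [← finsum_mem_univ]
  rw [← show {x : X | p x = IsLocalRing.closedPoint K} = Set.univ from
    Set.eq_univ_of_forall fun x => Subsingleton.elim (α := PrimeSpectrum K) _ _]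
  exact h3

end K952.Pts
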