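import Groth.Agent.ZCorr.K952.P1Graph
import Groth.Agent.S1901
import Groth.Agent.Sga5.ProjSmooth

/-!
# Rational equivalence of zero-cycles through families over the projective line
-/

set_option autoImplicit false
universe u

open CategoryTheory CategoryTheory.Limits AlgebraicGeometry IsLocalRing AlgEqCyc

namespace K952.P1Core

open Basic Pts ExtPt FamRat P1Graph Groth.Agent Groth.Agent.Dix.ProjProper
  Groth.Agent.Lefpen.H726.ProjGeo Groth.Agent.CohqB.ProjBC

section line

variable (k : Type u) [Field k]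

theorem dim_P1 : topologicalKrullDim (CohB1.ProjSpace 1 k) = 1 := by
  refine le_antisymm (CohqA.ProjDim.topologicalKrullDim_le k 1) ?_
  have h1 := (Sga5.ProjSmooth.chart 1 k 0).isOpenEmbedding.isInducing.topologicalKrullDim_le
  refine le_trans ?_ h1
  have h2 : topologicalKrullDim (Spec (CommRingCat.of (MvPolynomial (Fin 1) k))) =
      ringKrullDim (MvPolynomial (Fin 1) k) :=
    PrimeSpectrum.topologicalKrullDim_eq_ringKrullDim _
  rw [h2, MvPolynomial.ringKrullDim_of_isNoetherianRing, ringKrullDim_eq_zero_of_field]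
  simp

/-- The points `0` and `∞` of the projective line. -/
noncomputable def tp (i : Fin (1 + 1)) : Spec (CommRingCat.of k) ⟶ CohB1.ProjSpace 1 k :=
  P1.sect _ i ≫ (projSpaceOverIso 1 k).hom

theorem tp_toSpec (i : Fin (1 + 1)) : tp k i ≫ CohB1.ProjSpace.toSpec 1 k = 𝟙 _ := by
  unfold tp
  rw [Category.assoc, projSpaceOverIso_hom_toSpec, CycB.P1PtClosure.sect_toBase]

variable {k} {X : Scheme.{u}} (p : X ⟶ Spec (CommRingCat.of k))

/-- The projective line over `X` as a product. -/
noncomputable def Θ : CohB1.ProjSpaceOver 1 X ≅ pullback p (CohB1.ProjSpace.toSpec 1 k) :=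
  (isPullback_prk p 1).flip.isoPullback

@[reassoc]
theorem Θ_fst : (Θ p).hom ≫ pullback.fst _ _ = CohB1.ProjSpaceOver.toBase 1 X :=
  (isPullback_prk p 1).flip.isoPullback_hom_fst

@[reassoc]
theorem Θ_snd : (Θ p).hom ≫ pullback.snd _ _ = prk p 1 :=
  (isPullback_prk p 1).flip.isoPullback_hom_snd

theorem sect_toZ (S : Scheme.{u}) (i : Fin (1 + 1)) :
    P1.sect S i ≫ toZ 1 S = specULiftZIsTerminal.from S ≫ P1.point i :=
  pullback.lift_fst _ _ _

theorem sect_mapBase {S' S : Scheme.{u}} (g : S' ⟶ S) (i : Fin (1 + 1)) :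
    P1.sect S' i ≫ mapBase 1 g = g ≫ P1.sect S i := by
  apply (isPullback_toZ 1 S).hom_ext
  · rw [Category.assoc, mapBase_toZ, Category.assoc, sect_toZ, sect_toZ, ← Category.assoc]
    congr 1
    exact specULiftZIsTerminal.hom_ext _ _
  · rw [Category.assoc, mapBase_toBase, Category.assoc, CycB.P1PtClosure.sect_toBase,
      ← Category.assoc, CycB.P1PtClosure.sect_toBase, Category.comp_id, Category.id_comp]

theorem sect_Θ (i : Fin (1 + 1)) :
    P1.sect X i ≫ (Θ p).hom = slice p (CohB1.ProjSpace.toSpec 1 k) (tp k i) (tp_toSpec k i) := by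
  apply pullback.hom_ext
  · rw [Category.assoc, Θ_fst, Slice.slice_fst, CycB.P1PtClosure.sect_toBase]
  · rw [Category.assoc, Θ_snd, Slice.slice_snd]
    unfold prk tp
    rw [← Category.assoc, sect_mapBase, Category.assoc]

end line

section core

variable {k : Type u} [Field k] {X : Scheme.{u}} (p : X ⟶ Spec (CommRingCat.of k)) [IsProper p]

theorem finite_fibre {ξ : ↥(pullback p (CohB1.ProjSpace.toSpec 1 k))}
    (hξ : pullback.snd p _ ξ = genericPoint (CohB1.ProjSpace 1 k))
    (hd : dm (pullback.snd p _ ≫ CohB1.ProjSpace.toSpec 1 k) ξ = 1) (w : CohB1.ProjSpace 1 k) :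
    (closure {ξ} ∩ pullback.snd p (CohB1.ProjSpace.toSpec 1 k) ⁻¹' {w}).Finite := by
  obtain ⟨Z, i, _, _, hη, hi⟩ := CycA.ClosurePt.exists_closure_subscheme ξ
  subst hη
  have h1 : topologicalKrullDim Z = 1 := by
    have h2 := dm_dim_closure ((i ≫ pullback.snd p _) ≫ CohB1.ProjSpace.toSpec 1 k)
      (genericPoint Z)
    rw [genericPoint_closure, IsHomeomorph.topologicalKrullDim_eq _
      (Homeomorph.Set.univ Z).isHomeomorph, Category.assoc, dm_comp_of_isPreimmersion, hd] at h2
    exact h2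
  have h3 := OneDim.finite_fibre_of_dominant (i ≫ pullback.snd p _) (CohB1.ProjSpace.toSpec 1 k)
    h1 (dim_P1 k) hξ w
  refine (h3.image i).subset ?_
  rintro z ⟨hz1, hz2⟩
  rw [← hi] at hz1
  obtain ⟨z', rfl⟩ := hz1
  exact ⟨z', hz2, rfl⟩

/-- The members of the family at points of positive dimension vanish. -/
theorem mem_eq_zero_of_dm {W : Scheme.{u}} (q : W ⟶ Spec (CommRingCat.of k)) [IsProper q]
    {ξ : ↥(pullback p q)} (hd : dm (pullback.snd p q ≫ q) ξ ≤ 1)
    (t : Spec (CommRingCat.of k) ⟶ W) (ht : t ≫ q = 𝟙 _) (hne : pullback.snd p q ξ ≠ Slice.pt t)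
    {x : X} (hx : dm p x ≠ 0) : mem p q ξ t ht x = 0 := by
  unfold mem
  split_ifs with hs
  · exfalso
    apply hx
    have h1 : ξ ≠ slice p q t ht x := by
      intro e
      apply hne
      rw [e, Slice.snd_slice]
    have h2 := dm_lt_of_specializes (pullback.snd p q ≫ q) hs h1
    rw [← pullback.condition] at h2 hd
    have h3 := dm_le_comp (pullback.fst p q) p (slice p q t ht x)
    rw [Slice.fst_slice] at h3
    omega
  · rfl

omit [IsProper p] in
theorem mem_eq_zero_of_isClosed {W : Scheme.{u}} (q : W ⟶ Spec (CommRingCat.of k))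
    {ξ : ↥(pullback p q)} (hc : IsClosed ({pullback.snd p q ξ} : Set W))
    (t : Spec (CommRingCat.of k) ⟶ W) (ht : t ≫ q = 𝟙 _) (hne : pullback.snd p q ξ ≠ Slice.pt t)
    (x : X) : mem p q ξ t ht x = 0 := by
  unfold mem
  split_ifs with hs
  · exfalso
    apply hne
    have h1 := hs.map (pullback.snd p q).continuous
    rw [Slice.snd_slice] at h1
    have h2 := h1.mem_closure
    rw [hc.closure_eq] at h2
    exact h2.symm
  · rfl

theorem exists_family {α : AlgebraicCycle X ℤ}
    (hα : Cyc.RatEquivZero (fun x => (dm p x : ℤ)) 0 α) :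
    ∃ (I : Type u) (_ : Fintype I) (w : I → ↥(pullback p (CohB1.ProjSpace.toSpec 1 k))),
      (∀ i, pullback.snd p _ (w i) = genericPoint (CohB1.ProjSpace 1 k)) ∧
      (∀ i, dm (pullback.snd p _ ≫ CohB1.ProjSpace.toSpec 1 k) (w i) = 1) ∧
      ∀ x, α x = ∑ i, (mem p (CohB1.ProjSpace.toSpec 1 k) (w i) (tp k 0) (tp_toSpec k 0) x -
        mem p (CohB1.ProjSpace.toSpec 1 k) (w i) (tp k 1) (tp_toSpec k 1) x) := by
  classical
  have hset := isSetup_dm p
  have hcX : CompactSpace X := QuasiCompact.compactSpace_of_compactSpace p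
  have hcP : CompactSpace ↥(CohB1.ProjSpaceOver 1 X) :=
    QuasiCompact.compactSpace_of_compactSpace (CohB1.ProjSpaceOver.toBase 1 X)
  have hmem0 : ∀ x, α x ≠ 0 → dm p x = 0 := by
    intro x hx
    by_contra h
    apply hx
    have h1 := CycB.DivFun.RatEquivZero.mem_Zk hα
    exact h1 x (by change ¬ ((dm p x : ℤ) = 0); exact_mod_cast h)
  obtain ⟨I, V, ι, _, _, hgen, hloc, hsum⟩ := Groth.Agent.S1901.result X _ hset _
    (deltaCompat_dm_comp (CohB1.ProjSpaceOver.toBase 1 X) p) 0 α
    (CycB.DivFun.RatEquivZero.mem_Zk hα) hα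
  have hI : Finite I := by
    have hlf : LocallyFinite (fun i => Set.range (ι i)) := fun x => by
      obtain ⟨U, hU, hx, hf⟩ := hloc x
      exact ⟨U, hU.mem_nhds hx, hf⟩
    have h1 := hlf.finite_of_compact fun i => Set.range_nonempty _
    exact Set.finite_univ_iff.1 h1
  have := Fintype.ofFinite I
  let w : I → ↥(pullback p (CohB1.ProjSpace.toSpec 1 k)) := fun i =>
    (ι i ≫ (Θ p).hom) (genericPoint (V i))
  have hwd : ∀ i, dm (pullback.snd p _ ≫ CohB1.ProjSpace.toSpec 1 k) (w i) = 1 := by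
    intro i
    have h1 := (hgen i).1
    have h2 : dm (CohB1.ProjSpaceOver.toBase 1 X ≫ p) (ι i (genericPoint (V i))) = 1 := by
      exact_mod_cast h1
    rw [← pullback.condition]
    have h3 := dm_comp_of_isPreimmersion (Θ p).hom
      (pullback.fst p (CohB1.ProjSpace.toSpec 1 k) ≫ p) (ι i (genericPoint (V i)))
    rw [Θ_fst_assoc, h2] at h3
    exact h3.symm
  have hne : ∀ i j, pullback.snd p _ (w i) ≠ Slice.pt (tp k j) := by
    intro i j h
    obtain ⟨x, hx⟩ := Slice.exists_slice p _ (tp k j) (tp_toSpec k j) h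
    have h1 : ι i (genericPoint (V i)) ∉ Set.range (P1.sect X j) := by
      fin_cases j
      · exact (hgen i).2.1
      · exact (hgen i).2.2
    apply h1
    refine ⟨x, ?_⟩
    rw [← sect_Θ] at hx
    exact (Θ p).hom.homeomorph.injective hx
  have hbr : ∀ i j x, dm p x = 0 → Cyc.subschemeFun (fun x => (dm p x : ℤ)) 0
      (pullback.snd (ι i) (P1.sect X j)) x =
        mem p (CohB1.ProjSpace.toSpec 1 k) (w i) (tp k j) (tp_toSpec k j) x := by
    intro i j x hx
    refine subschemeFun_eq p (CohB1.ProjSpace.toSpec 1 k) (ι i ≫ (Θ p).hom)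
      (pullback.fst (ι i) (P1.sect X j)) (pullback.snd (ι i) (P1.sect X j)) (tp k j)
      (tp_toSpec k j) ?_ (by exact_mod_cast hx)
    refine IsPullback.of_iso (IsPullback.of_hasPullback (ι i) (P1.sect X j)) (Iso.refl _)
      (Iso.refl _) (Iso.refl _) (Θ p) (by simp) (by simp) (by simp) ?_
    rw [sect_Θ]
    simp
  let J := {i : I // pullback.snd p _ (w i) = genericPoint (CohB1.ProjSpace 1 k)}
  refine ⟨J, inferInstance, fun j => w j.1, fun j => j.2, fun j => hwd j.1, fun x => ?_⟩
  have hgen0 : ∀ j, genericPoint (CohB1.ProjSpace 1 k) ≠ Slice.pt (tp k j) := by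
    intro j h
    have h1 : dm (CohB1.ProjSpace.toSpec 1 k) (genericPoint (CohB1.ProjSpace 1 k)) = 1 :=
      dm_genericPoint _ (n := 1) (dim_P1 k)
    have h2 : dm (CohB1.ProjSpace.toSpec 1 k) (Slice.pt (tp k j)) = 0 := by
      rw [dm_eq_zero_iff_isClosed]
      exact FibCycle.isClosed_pt _ _ (tp_toSpec k j)
    rw [h, h2] at h1
    omega
  by_cases hx : dm p x = 0
  · rw [hsum x, finsum_eq_sum_of_fintype]
    have h1 : ∀ i, (Cyc.subschemeFun (fun x => (dm p x : ℤ)) 0
        (pullback.snd (ι i) (P1.sect X 0)) x - Cyc.subschemeFun (fun x => (dm p x : ℤ)) 0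
        (pullback.snd (ι i) (P1.sect X 1)) x) =
        if pullback.snd p _ (w i) = genericPoint (CohB1.ProjSpace 1 k) then
          (mem p (CohB1.ProjSpace.toSpec 1 k) (w i) (tp k 0) (tp_toSpec k 0) x -
        mem p (CohB1.ProjSpace.toSpec 1 k) (w i) (tp k 1) (tp_toSpec k 1) x) else 0 := by
      intro i
      rw [hbr i 0 x hx, hbr i 1 x hx]
      split_ifs with h
      · rfl
      · have hcl : IsClosed ({pullback.snd p _ (w i)} : Set (CohB1.ProjSpace 1 k)) := by
          rw [← dm_eq_zero_iff_isClosed (CohB1.ProjSpace.toSpec 1 k)]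
          have h2 := dm_lt_of_specializes (CohB1.ProjSpace.toSpec 1 k)
            (genericPoint_specializes (pullback.snd p _ (w i))) (fun e => h e.symm)
          rw [dm_genericPoint _ (n := 1) (dim_P1 k)] at h2
          omega
        rw [mem_eq_zero_of_isClosed p _ hcl _ _ (hne i 0),
          mem_eq_zero_of_isClosed p _ hcl _ _ (hne i 1), sub_zero]
    rw [Finset.sum_congr rfl fun i _ => h1 i, ← Finset.sum_filter]
    exact Finset.sum_subtype _ (fun i => by simp) _
  · rw [not_imp_comm.1 (hmem0 x) hx]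
    symm
    apply Finset.sum_eq_zero
    intro j _
    have h1 : ∀ l, pullback.snd p _ (w j.1) ≠ Slice.pt (tp k l) := fun l => hne j.1 l
    rw [mem_eq_zero_of_dm p _ (hwd j.1).le _ _ (h1 0) hx,
      mem_eq_zero_of_dm p _ (hwd j.1).le _ _ (h1 1) hx, sub_zero]

end core

end K952.P1Core
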