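import Mathlib.AlgebraicGeometry.Morphisms.Integral
import Mathlib.AlgebraicGeometry.PullbackCarrier
import Mathlib.FieldTheory.IsAlgClosed.Basic
import Mathlib.Algebra.BigOperators.Finprod
import Mathlib.SetTheory.Cardinal.Finite

/-!
# Lifting rational points along integral surjective morphisms
-/

set_option autoImplicit false
universe u

open CategoryTheory CategoryTheory.Limits AlgebraicGeometry IsLocalRing

namespace K952.LiftPt

/-- An integral nonempty scheme over an algebraically closed field has a rational point. -/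
theorem exists_section {k : Type u} [Field k] [IsAlgClosed k] {T : Scheme.{u}}
    (f : T ⟶ Spec (CommRingCat.of k)) [IsIntegralHom f] [Nonempty T] :
    ∃ s : Spec (CommRingCat.of k) ⟶ T, s ≫ f = 𝟙 _ := by
  have : IsAffine T := isAffine_of_isAffineHom f
  let A : CommRingCat.{u} := Γ(T, ⊤)
  have hA : Nontrivial A := by
    by_contra h
    rw [not_nontrivial_iff_subsingleton] at h
    have : IsEmpty (Spec A) := inferInstanceAs (IsEmpty (PrimeSpectrum A))
    exact this.false (T.isoSpec.hom (Classical.arbitrary T))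
  let φ : CommRingCat.of k ⟶ A := (Scheme.ΓSpecIso (CommRingCat.of k)).inv ≫ f.appTop
  have hf : f = T.isoSpec.hom ≫ Spec.map φ := by
    rw [Spec.map_comp, Scheme.isoSpec_hom_naturality_assoc]
    have : (Spec (CommRingCat.of k)).isoSpec.hom ≫ Spec.map (Scheme.ΓSpecIso (CommRingCat.of k)).inv
        = 𝟙 _ := by
      rw [Scheme.isoSpec_Spec_hom, ← Spec.map_comp, Iso.inv_hom_id, Spec.map_id]
    rw [this, Category.comp_id]
  have hint : φ.hom.IsIntegral := by
    have h1 : f.appTop.hom.IsIntegral := IsIntegralHom.isIntegral_app f ⊤ (isAffineOpen_top _)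
    have h2 : (Scheme.ΓSpecIso (CommRingCat.of k)).inv.hom.IsIntegral :=
      RingHom.isIntegral_of_surjective _
        (ConcreteCategory.bijective_of_isIso (Scheme.ΓSpecIso (CommRingCat.of k)).inv).2
    exact RingHom.IsIntegral.trans _ _ h2 h1
  obtain ⟨𝔪, h𝔪⟩ := Ideal.exists_maximal A
  let _ : Field (A ⧸ 𝔪) := Ideal.Quotient.field 𝔪
  let _ : Algebra k (A ⧸ 𝔪) := ((Ideal.Quotient.mk 𝔪).comp φ.hom).toAlgebra
  have h3 : Algebra.IsIntegral k (A ⧸ 𝔪) := ⟨by
    have h4 : ((Ideal.Quotient.mk 𝔪).comp φ.hom).IsIntegral :=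
      RingHom.IsIntegral.trans _ _ hint
        (RingHom.isIntegral_of_surjective _ Ideal.Quotient.mk_surjective)
    exact h4⟩
  have h5 : Function.Bijective (algebraMap k (A ⧸ 𝔪)) :=
    IsAlgClosed.algebraMap_bijective_of_isIntegral
  let e : k ≃+* A ⧸ 𝔪 := RingEquiv.ofBijective _ h5
  let ψ : A ⟶ CommRingCat.of k :=
    CommRingCat.ofHom ((e.symm : (A ⧸ 𝔪) →+* k).comp (Ideal.Quotient.mk 𝔪))
  have hφψ : φ ≫ ψ = 𝟙 _ := by
    ext x
    change e.symm (Ideal.Quotient.mk 𝔪 (φ.hom x)) = x
    rw [RingEquiv.symm_apply_eq]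
    rfl
  refine ⟨Spec.map ψ ≫ T.isoSpec.inv, ?_⟩
  rw [hf, Category.assoc, Iso.inv_hom_id_assoc, ← Spec.map_comp, hφψ, Spec.map_id]

/-- Rational points lift along integral surjective morphisms. -/
theorem exists_lift {k : Type u} [Field k] [IsAlgClosed k] {N W : Scheme.{u}} (f : N ⟶ W)
    [IsIntegralHom f] (hf : Function.Surjective f) (u : Spec (CommRingCat.of k) ⟶ W) :
    ∃ u' : Spec (CommRingCat.of k) ⟶ N, u' ≫ f = u := by
  have : Nonempty ↥(pullback f u) := by
    obtain ⟨x, hx⟩ := hf (u (closedPoint k))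
    obtain ⟨z, -⟩ := Scheme.Pullback.exists_preimage_pullback (f := f) (g := u) x
      (closedPoint k) hx
    exact ⟨z⟩
  obtain ⟨s, hs⟩ := exists_section (pullback.snd f u)
  refine ⟨s ≫ pullback.fst f u, ?_⟩
  rw [Category.assoc, pullback.condition, ← Category.assoc, hs, Category.id_comp]

/-- The number of elements of a finite type is the sum of the numbers of elements of the fibres
of a map. -/
theorem finsum_card_fiber {I X : Type*} [Finite I] (f : I → X) :
    ∑ᶠ x, (Nat.card {i // f i = x} : ℤ) = Nat.card I := by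
  classical
  have := Fintype.ofFinite I
  have h1 : (Function.support fun x => (Nat.card {i // f i = x} : ℤ)) ⊆
      (Finset.univ.image f : Set X) := by
    intro x hx
    rw [Function.mem_support, Nat.cast_ne_zero, Nat.card_ne_zero] at hx
    obtain ⟨⟨i, rfl⟩⟩ := hx.1
    simp
  rw [finsum_eq_sum_of_support_subset _ h1]
  have h2 : ∀ x, Nat.card {i // f i = x} = (Finset.univ.filter fun i => f i = x).card := by
    intro x
    rw [Nat.card_eq_fintype_card, Fintype.card_subtype]
  simp only [h2]
  rw [← Nat.cast_sum, Nat.card_eq_fintype_card, ← Finset.card_univ]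
  congr 1
  exact (Finset.card_eq_sum_card_image f Finset.univ).symm

end K952.LiftPt
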