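import Groth.Agent.ZCorr.K952.QFin
import Groth.Agent.Ega43.DedekindOpen
import Groth.Agent.CurvesA.DimOne

/-!
# One-dimensional schemes and families over curves
-/

set_option autoImplicit false

universe u

open AlgebraicGeometry CategoryTheory CategoryTheory.Limits TopologicalSpace

namespace K952.OneDim

open Basic

/-- A closed subset of a Noetherian sober space all of whose points are closed is finite. -/
theorem finite_of_isClosed_singleton {T : Type*} [TopologicalSpace T] [NoetherianSpace T]
    [QuasiSober T] {S : Set T} (hS : IsClosed S) (h : ∀ x ∈ S, IsClosed ({x} : Set T)) :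
    S.Finite := by
  obtain ⟨F, hF, hirr, hFS⟩ := NoetherianSpace.exists_finite_set_isClosed_irreducible hS
  have : S = ⋃ t ∈ F, t := by rw [hFS.2, Set.sUnion_eq_biUnion]
  rw [this]
  refine hF.biUnion fun t ht => ?_
  obtain ⟨x, hx⟩ := QuasiSober.sober (hFS.1 t ht) (hirr t ht)
  have hxS : x ∈ S := by
    rw [hFS.2]
    exact ⟨t, ht, hx.mem⟩
  rw [← hx.def, (h x hxS).closure_eq]
  exact Set.finite_singleton x

variable {X Y Z : Scheme.{u}} {k : Type u} [Field k]

/-- In an irreducible scheme of dimension one locally of finite type over a field, a proper closed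
subset is finite. -/
theorem finite_of_isClosed_of_ne (p : X ⟶ Spec (CommRingCat.of k)) [LocallyOfFiniteType p]
    [QuasiCompact p] [IrreducibleSpace X] (hd : topologicalKrullDim X = 1) {S : Set X}
    (hS : IsClosed S) (h : genericPoint X ∉ S) : S.Finite := by
  have : IsLocallyNoetherian X := LocallyOfFiniteType.isLocallyNoetherian p
  have : CompactSpace X := QuasiCompact.compactSpace_of_compactSpace p
  have : IsNoetherian X := {}
  refine finite_of_isClosed_singleton hS fun x hx => ?_
  rw [← dm_eq_zero_iff_isClosed p]
  have h1 : dm p (genericPoint X) = 1 := dm_genericPoint p (n := 1) hd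
  have h2 := dm_lt_of_specializes p (genericPoint_specializes x) (fun e => h (e ▸ hx))
  omega

theorem finite_fibre_of_dominant (f : X ⟶ Y) (q : Y ⟶ Spec (CommRingCat.of k)) [IsProper f]
    [LocallyOfFiniteType q] [QuasiCompact q] [IrreducibleSpace X] [IrreducibleSpace Y]
    (hdX : topologicalKrullDim X = 1) (hdY : topologicalKrullDim Y = 1)
    (hf : f (genericPoint X) = genericPoint Y) (y : Y) : (f ⁻¹' {y}).Finite := by
  by_cases hy : y = genericPoint Y
  · refine (Set.finite_singleton (genericPoint X)).subset ?_
    apply QFin.fibre_subset_genericPoint f q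
    rw [dm_genericPoint _ (n := 1) hdX, hy, dm_genericPoint _ (n := 1) hdY]
  · have h1 : dm q (genericPoint Y) = 1 := dm_genericPoint q (n := 1) hdY
    have h2 := dm_lt_of_specializes q (genericPoint_specializes y) (fun e => hy e.symm)
    have h3 : IsClosed ({y} : Set Y) := by
      rw [← dm_eq_zero_iff_isClosed q]
      omega
    refine finite_of_isClosed_of_ne (f ≫ q) hdX (h3.preimage f.continuous) ?_
    intro h4
    apply hy
    rw [← hf]
    exact Eq.symm h4

theorem isFinite_of_dominant (f : X ⟶ Y) (q : Y ⟶ Spec (CommRingCat.of k)) [IsProper f]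
    [LocallyOfFiniteType q] [QuasiCompact q] [IrreducibleSpace X] [IrreducibleSpace Y]
    (hdX : topologicalKrullDim X = 1) (hdY : topologicalKrullDim Y = 1)
    (hf : f (genericPoint X) = genericPoint Y) : IsFinite f :=
  QFin.isFinite_of_finite_fibres f (finite_fibre_of_dominant f q hdX hdY hf)

/-- A dominant morphism from an integral scheme to a scheme with regular local rings of dimension
at most one is flat. -/
theorem flat_of_dominant (f : X ⟶ Y) [IsIntegral X] [IrreducibleSpace Y]
    (hY : ∀ y : Y, IsDomain (Y.presheaf.stalk y) ∧ IsPrincipalIdealRing (Y.presheaf.stalk y))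
    (hf : f (genericPoint X) = genericPoint Y) : Flat f := by
  refine Groth.Agent.Ega43.DedekindOpen.flat_of_isMaxPt f hY fun w hw => ?_
  have h1 : genericPoint X = w := hw _ (genericPoint_specializes w)
  rw [← h1, hf]
  intro y hy
  exact (hy.antisymm (genericPoint_specializes y)).eq

theorem map_genericPoint_of_surjective (f : X ⟶ Y) [IrreducibleSpace X] [IrreducibleSpace Y]
    (hf : Function.Surjective f) : f (genericPoint X) = genericPoint Y := by
  have h1 : DenseRange f := hf.denseRange
  have h2 : IsGenericPoint (f (genericPoint X)) Set.univ := by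
    have := (genericPoint_spec X).image f.continuous
    rwa [Set.image_univ, h1.closure_range] at this
  exact h2.eq (genericPoint_spec Y)

end K952.OneDim
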