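import Groth.Agent.ZCorr.K952.FibCycle

/-!
# A cycle with vanishing general fibre cycles vanishes
-/

set_option autoImplicit false

universe u

open AlgebraicGeometry CategoryTheory CategoryTheory.Limits

namespace K952.EqZero

theorem eq_zero {k : Type u} [Field k] [IsAlgClosed k] {X W : Scheme.{u}}
    (p : X ⟶ Spec (CommRingCat.of k)) (q : W ⟶ Spec (CommRingCat.of k)) [IsProper p]
    [IsSeparated q] [LocallyOfFiniteType q] [QuasiCompact q] [IrreducibleSpace W]
    (n : ℕ) (hdimW : topologicalKrullDim W = n)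
    (δ : ↥(pullback p q) → ℤ)
    (hδ : Cyc.DeltaCompat (pullback.fst p q ≫ p) δ (fun _ => 0))
    (Γ : AlgebraicCycle (pullback p q) ℤ) (hΓ : Γ ∈ Cyc.Zk (pullback p q) δ n)
    (hvert : ∀ ξ, Γ ξ ≠ 0 → pullback.snd p q ξ = genericPoint W)
    (U : W.Opens) (hU : (U : Set W).Nonempty)
    (hfin : ∀ ξ, Γ ξ ≠ 0 → ∀ w ∈ U, (closure {ξ} ∩ pullback.snd p q ⁻¹' {w}).Finite)
    (hzero : ∀ (u : Spec (CommRingCat.of k) ⟶ W) (hu : u ≫ q = 𝟙 _),
      u (IsLocalRing.closedPoint k) ∈ U →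
        ∀ x : X, AlgEqCyc.fibreFun p q Γ u hu x = 0) :
    Γ = 0 := by
  have hdm : ∀ z, δ z = K952.Basic.dm (K952.FibCycle.prodStr p q) z :=
    K952.Basic.delta_eq_dm hδ
  have hN : CompactSpace ↥(pullback p q) :=
    QuasiCompact.compactSpace_of_compactSpace (K952.FibCycle.prodStr p q)
  have hηW : K952.Basic.dm q (genericPoint W) = n := K952.Basic.dm_genericPoint q hdimW
  -- support points have dimension `n`
  have hdξ : ∀ ξ, Γ ξ ≠ 0 → K952.Basic.dm (K952.FibCycle.prodStr p q) ξ = n := by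
    intro ξ hξ
    have h1 : δ ξ = n := by
      by_contra h1
      exact hξ (hΓ ξ h1)
    rw [hdm] at h1
    exact_mod_cast h1
  by_contra hne
  obtain ⟨ξ₀, hξ₀⟩ : ∃ ξ₀, Γ ξ₀ ≠ 0 := by
    by_contra h
    push Not at h
    exact hne (DFunLike.ext _ _ h)
  -- the union of the other components
  set S : Set ↥(pullback p q) := {ξ | Γ ξ ≠ 0 ∧ ξ ≠ ξ₀} with hS
  have hSf : S.Finite := (K952.FibCycle.finite_support Γ).subset fun ξ h => h.1
  set T : Set ↥(pullback p q) := closure {ξ₀} ∩ ⋃ ξ ∈ S, closure {ξ} with hT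
  have hTc : IsClosed T := isClosed_closure.inter (hSf.isClosed_biUnion fun _ _ => isClosed_closure)
  have hTd : ∀ z ∈ T, K952.Basic.dm (K952.FibCycle.prodStr p q) z < n := by
    rintro z ⟨hz1, hz2⟩
    obtain ⟨ξ, hξS, hz3⟩ := Set.mem_iUnion₂.mp hz2
    have h1 : ξ₀ ⤳ z := specializes_iff_mem_closure.mpr hz1
    have h2 : ξ ⤳ z := specializes_iff_mem_closure.mpr hz3
    by_cases h3 : ξ₀ = z
    · have h4 := K952.Basic.dm_lt_of_specializes (K952.FibCycle.prodStr p q) h2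
        (fun e => hξS.2 (e.trans h3.symm))
      rwa [hdξ ξ hξS.1] at h4
    · have h4 := K952.Basic.dm_lt_of_specializes (K952.FibCycle.prodStr p q) h1 h3
      rwa [hdξ ξ₀ hξ₀] at h4
  have hTi : IsClosed (pullback.snd p q '' T) := (pullback.snd p q).isClosedMap _ hTc
  have hVne : ((U : Set W) ∩ (pullback.snd p q '' T)ᶜ).Nonempty := by
    refine ⟨genericPoint W, ((genericPoint_spec W).mem_open_set_iff U.isOpen).mpr
      (by simpa using hU), ?_⟩
    rintro ⟨z, hz, hz2⟩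
    have h1 := hTd z hz
    have h2 := K952.FibCycle.dm_snd_le p q z
    rw [hz2, hηW] at h2
    omega
  have hJ : JacobsonSpace W := K952.FibCycle.jacobsonSpace_of_field q
  obtain ⟨w, ⟨hwU, hwT⟩, hwc⟩ := nonempty_inter_closedPoints hVne
    (U.isOpen.inter hTi.isOpen_compl).isLocallyClosed
  obtain ⟨u, hu, huw⟩ := K952.FibCycle.exists_rational_point q hwc
  -- the component dominates `W`
  have hsurj : w ∈ pullback.snd p q '' closure {ξ₀} := by
    have h1 : IsClosed (pullback.snd p q '' closure {ξ₀}) :=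
      (pullback.snd p q).isClosedMap _ isClosed_closure
    have h2 : genericPoint W ∈ pullback.snd p q '' closure {ξ₀} :=
      ⟨ξ₀, subset_closure rfl, hvert ξ₀ hξ₀⟩
    exact (genericPoint_specializes w).mem_closed h1 h2
  obtain ⟨z, hz, hzw⟩ := hsurj
  obtain ⟨x, hx⟩ := K952.Slice.exists_slice p q u hu (z := z) (hzw.trans huw.symm)
  have hξz : ξ₀ ⤳ AlgEqCyc.slice p q u hu x := by
    rw [hx]; exact specializes_iff_mem_closure.mpr hz
  have hsingle : ∀ ξ, Γ ξ ≠ 0 → ξ ⤳ AlgEqCyc.slice p q u hu x → ξ = ξ₀ := by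
    intro ξ hξ h1
    by_contra h2
    apply hwT
    refine ⟨z, ⟨hz, Set.mem_biUnion (show ξ ∈ S from ⟨hξ, h2⟩) ?_⟩, hzw⟩
    rw [hx] at h1
    exact specializes_iff_mem_closure.mp h1
  have h1 := hzero u hu (by rw [← huw] at hwU; exact hwU) x
  rw [K952.FibCycle.fibreFun_eq_single p q Γ u hu x ξ₀ hξz hsingle] at h1
  have hsnd : pullback.snd p q (AlgEqCyc.slice p q u hu x) = w := by rw [hx, hzw]
  have h2 : AlgEqCyc.fibreMult (pullback.snd p q) (AlgEqCyc.slice p q u hu x) ξ₀ hξz ≠ 0 := by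
    apply K952.FibCycle.fibreMult_ne_zero p q hξz
    · rw [hsnd]; exact hwc
    · rw [hsnd]; exact hfin ξ₀ hξ₀ w hwU
  rcases mul_eq_zero.mp h1 with h3 | h3
  · exact hξ₀ h3
  · exact h2 (by exact_mod_cast h3)

end K952.EqZero
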