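import Groth.Agent.Krr.H496.ExcBundle
import Groth.Agent.Krr.H484.PBCharts
import Groth.Agent.S1676

/-!
# The exceptional divisor of the blow-up of a rational point is a projective space
-/

set_option autoImplicit false

universe u

open AlgebraicGeometry CategoryTheory CategoryTheory.Limits TopologicalSpace

namespace K952.ExcPt

open Groth.Agent Groth.Agent.Sga67

/-- The exceptional divisor of the blow-up of a rational point of a smooth scheme over a field. -/
theorem exists_isPullback {X X' : Scheme.{u}} {K : Type u} [Field K]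
    (p : X ⟶ Spec (CommRingCat.of K)) [Smooth p] [IsSeparated p]
    (t : Spec (CommRingCat.of K) ⟶ X) (ht : t ≫ p = 𝟙 _) (hopen : ¬ IsOpen (Set.range t))
    (π : X' ⟶ X) (hπ : BlowUp.IsBlowUp π t.ker) :
    ∃ (r : ℕ) (j : CohB1.ProjSpace r K ⟶ X'),
      IsPullback j (CohB1.ProjSpace.toSpec r K) π t := by
  have hci : IsClosedImmersion t := by
    have : IsClosedImmersion (t ≫ p) := by rw [ht]; infer_instance
    exact IsClosedImmersion.of_comp t p
  have hreg : Mor2.IsRegularClosedImmersion t := S1676.result p t ht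
  have hsq : IsPullback (pullback.fst π t) (pullback.snd π t) π t := IsPullback.of_hasPullback π t
  have B := Krr.H496.ExcBundle.isProjBundle_exc hreg hπ hsq
  let y : (Spec (CommRingCat.of K) : Scheme.{u}) := IsLocalRing.closedPoint K
  obtain ⟨c, hc, -⟩ := KosImm.exists_chart hreg y ⊤ trivial
  have hy : ∀ z : (Spec (CommRingCat.of K) : Scheme.{u}), z = y := fun z =>
    Subsingleton.elim (α := PrimeSpectrum K) z y
  have hV : c.V = ⊤ := by
    rw [eq_top_iff]
    intro z _
    rw [hy z]
    exact hc
  have hbasis := KosConormal.isLocBasis_fN c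
  have key : ∀ (V : (Spec (CommRingCat.of K) : Scheme.{u}).Opens) (hV : V = ⊤)
      (b : Fin c.l.length → Sga67.Sec.Sec (Omega.conormal t) V), LocBasis.IsLocBasis b →
      Nonempty (Omega.conormal t ≅ FlatMod.freeMod (Spec (CommRingCat.of K)) c.l.length) := by
    rintro V rfl b hb
    exact LocBasis.nonempty_iso_free hb
  obtain ⟨e⟩ := key _ hV _ hbasis
  obtain ⟨r, hr⟩ : ∃ r, c.l.length = r + 1 := by
    refine Nat.exists_eq_succ_of_ne_zero fun h0 => hopen ?_
    have h1 : c.l = [] := List.eq_nil_of_length_eq_zero h0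
    have h2 : t.ker.ideal ⟨c.U, c.hU⟩ = ⊥ := by
      rw [c.hker, h1, Ideal.ofList_nil]
    have h3 : Set.range t = c.U := by
      apply subset_antisymm
      · rintro _ ⟨z, rfl⟩
        rw [hy z]
        exact hc
      · intro x hx
        have h4 : x ∈ t.ker.support := by
          rw [Scheme.IdealSheafData.mem_support_iff_of_mem (U := ⟨c.U, c.hU⟩) hx, h2]
          simp
        rwa [← SetLike.mem_coe, Scheme.Hom.support_ker, t.isClosedEmbedding.isClosed_range.closure_eq] at h4
    rw [h3]
    exact c.U.isOpen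
  rw [hr] at e
  obtain ⟨j, hj, -⟩ := Krr.H484.PBCharts.exists_chart B (𝟙 (Spec (CommRingCat.of K)))
    ((Scheme.Modules.pullbackId _).app _ ≪≫ e)
  refine ⟨r, j ≫ pullback.fst π t, ?_⟩
  have h5 := hj.paste_horiz hsq
  rwa [Category.id_comp] at h5

end K952.ExcPt
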