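import Groth.Agent.ZCorr.K952.Pts
import Groth.Agent.CycB.AffRT
import Groth.Agent.Sga5.ProjHyper
import Groth.Agent.Dix.ProjProper

/-!
# Closed points of projective space are rationally equivalent
-/

set_option autoImplicit false

universe u

open AlgebraicGeometry CategoryTheory CategoryTheory.Limits TopologicalSpace

namespace K952.PnPts

open Groth.Agent Groth.Agent.CycA.MovRatZ Groth.Agent.Sga5.ProjHyper Groth.Agent.Sga5.ProjChart
  Groth.Agent.Sga5.ProjSmooth Basic Pts

variable {X Y : Scheme.{u}} {K : Type u} [Field K]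

/-- A closed point in an open subscheme isomorphic to affine space of positive dimension is
rationally equivalent to a zero cycle supported on the complement. -/
theorem exists_move_compl (p : X ⟶ Spec (CommRingCat.of K)) [LocallyOfFiniteType p]
    [CompactSpace X] (n : ℕ)
    (j : Spec (CommRingCat.of (MvPolynomial (Fin (n + 1)) K)) ⟶ X) [IsOpenImmersion j]
    (w : Spec (CommRingCat.of (MvPolynomial (Fin (n + 1)) K))) (hw : dm p (j w) = 0) :
    ∃ φ : X → ℤ, Set.indicator {j w} 1 - φ ∈ RZ p ∧ (Function.support φ).Finite ∧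
      ∀ x, φ x ≠ 0 → dm p x = 0 ∧ x ∉ Set.range j := by
  classical
  have hset := isSetup_dm p
  have hδ' : Cyc.IsDimFun _ (fun z => (dm p (j z) : ℤ)) :=
    CycB.FinRat.isDimFun_comp j hset.2.2 fun x y z _ hz =>
      hz.mem_open j.isOpenEmbedding.isOpen_range ⟨y, rfl⟩
  have hdom : IsDomain (MvPolynomial (Fin (n + 1)) K) := inferInstance
  have hclw : IsClosed ({w} : Set (Spec (CommRingCat.of (MvPolynomial (Fin (n + 1)) K)))) := by
    have h1 := (dm_eq_zero_iff_isClosed p (j w)).1 hw
    have h2 := h1.preimage j.continuous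
    have h3 : (j ⁻¹' {j w} : Set (Spec (CommRingCat.of (MvPolynomial (Fin (n + 1)) K)))) = {w} := by
      ext z
      exact j.isOpenEmbedding.injective.eq_iff
    rwa [h3] at h2
  have hgen : ∃ w' : Spec (CommRingCat.of (MvPolynomial (Fin (n + 1)) K)), w' ⤳ w ∧ w' ≠ w := by
    refine ⟨(⟨⊥, Ideal.isPrime_bot⟩ : PrimeSpectrum (MvPolynomial (Fin (n + 1)) K)), ?_, ?_⟩
    · exact (PrimeSpectrum.le_iff_specializes
        (⟨⊥, Ideal.isPrime_bot⟩ : PrimeSpectrum (MvPolynomial (Fin (n + 1)) K)) w).1
        (bot_le (a := w.asIdeal))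
    · rintro rfl
      have h4 : IsClosed ({(⟨⊥, Ideal.isPrime_bot⟩ :
          PrimeSpectrum (MvPolynomial (Fin (n + 1)) K))} :
          Set (PrimeSpectrum (MvPolynomial (Fin (n + 1)) K))) := hclw
      have h5 := (PrimeSpectrum.isClosed_singleton_iff_isMaximal _).1 h4
      have h6 : IsField (MvPolynomial (Fin (n + 1)) K) := by
        by_contra h7
        exact Ring.ne_bot_of_isMaximal_of_not_isField h5 h7 rfl
      obtain ⟨b, hb⟩ := h6.mul_inv_cancel (MvPolynomial.X_ne_zero (R := K) (0 : Fin (n + 1)))
      have h8 := congrArg (MvPolynomial.eval (fun _ => (0 : K))) hb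
      simp at h8
  have hmem := CycB.AffRT.RT_mvPoly_fin K (n + 1) _ hδ' w hgen
  rw [hw] at hmem
  obtain ⟨ι, hι, ξ, g, h1, h2, h3⟩ := CycB.FinRat.exists_family_of_mem j
    (fun x => (dm p x : ℤ)) hmem
  have := Fintype.ofFinite ι
  let ψ : X → ℤ := ∑ i, Cyc.divFun (fun x => (dm p x : ℤ)) (j (ξ i)) (g i)
  have hψ : ψ ∈ RZ p := AddSubgroup.sum_mem _ fun i _ => divFun_mem_ratZ (h1 i) (h2 i)
  have hψj : ∀ z, ψ (j z) = if z = w then 1 else 0 := by
    intro z
    have h4 := h3 z
    rw [finsum_eq_sum_of_fintype] at h4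
    change (∑ i, Cyc.divFun (fun x => (dm p x : ℤ)) (j (ξ i)) (g i)) (j z) = _
    rw [Finset.sum_apply, h4]
    rfl
  refine ⟨Set.indicator {j w} 1 - ψ, by rw [sub_sub_cancel]; exact hψ, ?_, ?_⟩
  · exact (((Set.finite_singleton (j w)).subset fun x hx => by
      by_contra hne
      exact hx (indicator_ne hne)).union (finite_support_of_mem hψ)).subset
      (Function.support_sub _ _)
  · intro x hx
    constructor
    · by_cases hxw : x = j w
      · rw [hxw, hw]
      · refine dm_eq_zero_of_mem_RZ hψ x fun h0 => hx ?_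
        rw [Pi.sub_apply, indicator_ne hxw, h0, sub_zero]
    · rintro ⟨z, rfl⟩
      apply hx
      rw [Pi.sub_apply, hψj]
      split_ifs with h
      · rw [h, indicator_self, sub_self]
      · rw [indicator_ne (fun e => h (j.isOpenEmbedding.injective e)), sub_zero]

variable [IsAlgClosed K]

theorem finsum_indicator_univ (x : X) : ∑ᶠ y, (Set.indicator {x} 1 : X → ℤ) y = 1 := by
  rw [finsum_eq_single _ x fun y hy => indicator_ne hy, indicator_self]

theorem finite_support_indicator (x : X) : (Function.support (Set.indicator {x} 1 : X → ℤ)).Finite :=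
  (Set.finite_singleton x).subset fun y hy => by
    by_contra hne
    exact hy (indicator_ne hne)

/-- Any two closed points of projective space are rationally equivalent. -/
theorem ptEq_projSpace (n : ℕ) : ∀ (x y : CohB1.ProjSpace n K),
    dm (CohB1.ProjSpace.toSpec n K) x = 0 → dm (CohB1.ProjSpace.toSpec n K) y = 0 →
    PtEq (CohB1.ProjSpace.toSpec n K) x y := by
  induction n with
  | zero =>
    intro x y _ _
    have h1 : ∀ x y : CohB1.ProjSpace 0 K, x = y := by
      intro x y
      obtain ⟨i, a, rfl⟩ := exists_mem_chart 0 K x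
      obtain ⟨i', b, rfl⟩ := exists_mem_chart 0 K y
      obtain rfl : i = i' := (inferInstance : Subsingleton (Fin 1)).elim i i'
      have h2 : ∀ a b : Spec (CommRingCat.of (MvPolynomial (Fin 0) K)), a = b := by
        intro a b
        have e := (MvPolynomial.isEmptyRingEquiv K (Fin 0)).symm
        have h3 : IsField (MvPolynomial (Fin 0) K) :=
          (MvPolynomial.isEmptyRingEquiv K (Fin 0)).toMulEquiv.isField (Field.toIsField K)
        let := h3.toField
        exact Subsingleton.elim (α := PrimeSpectrum (MvPolynomial (Fin 0) K)) a b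
      rw [h2 a b]
    rw [h1 x y]
    exact PtEq.refl _ _
  | succ n ih =>
    have hP : IsProper (CohB1.ProjSpace.toSpec (n + 1) K) := Dix.ProjProper.isProper_toSpec _ _
    have hcP : CompactSpace (CohB1.ProjSpace (n + 1) K) :=
      QuasiCompact.compactSpace_of_compactSpace (CohB1.ProjSpace.toSpec (n + 1) K)
    have hdm : ∀ z, dm (CohB1.ProjSpace.toSpec n K) z =
        dm (CohB1.ProjSpace.toSpec (n + 1) K) (hyper n K z) := by
      intro z
      rw [← dm_comp_of_isPreimmersion, hyper_toSpec]
    -- a closed point of the hyperplane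
    obtain ⟨h₀, hh₀⟩ : ∃ h₀ : CohB1.ProjSpace n K, dm (CohB1.ProjSpace.toSpec n K) h₀ = 0 := by
      have hP' : IsProper (CohB1.ProjSpace.toSpec n K) := Dix.ProjProper.isProper_toSpec _ _
      have hne : Nonempty (CohB1.ProjSpace n K) :=
        ⟨chart n K 0 (⟨⊥, Ideal.isPrime_bot⟩ : PrimeSpectrum (MvPolynomial (Fin n) K))⟩
      have hcP' : CompactSpace (CohB1.ProjSpace n K) :=
        QuasiCompact.compactSpace_of_compactSpace (CohB1.ProjSpace.toSpec n K)
      have hJ : JacobsonSpace (CohB1.ProjSpace n K) :=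
        LocallyOfFiniteType.jacobsonSpace (CohB1.ProjSpace.toSpec n K)
      obtain ⟨z, -, hz⟩ := nonempty_inter_closedPoints
        (Z := (Set.univ : Set (CohB1.ProjSpace n K))) Set.univ_nonempty
        isClosed_univ.isLocallyClosed
      exact ⟨z, (dm_eq_zero_iff_isClosed _ z).2 hz⟩
    have hHH : ∀ z z' : CohB1.ProjSpace n K, dm (CohB1.ProjSpace.toSpec n K) z = 0 →
        dm (CohB1.ProjSpace.toSpec n K) z' = 0 →
        PtEq (CohB1.ProjSpace.toSpec (n + 1) K) (hyper n K z) (hyper n K z') := by
      intro z z' hz hz'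
      have h1 := ih z z' hz hz'
      rw [← hyper_toSpec] at h1
      exact PtEq.push h1
    have key : ∀ x : CohB1.ProjSpace (n + 1) K, dm (CohB1.ProjSpace.toSpec (n + 1) K) x = 0 →
        PtEq (CohB1.ProjSpace.toSpec (n + 1) K) x (hyper n K h₀) := by
      intro x hx
      by_cases hxr : x ∈ Set.range (hyper n K)
      · obtain ⟨z, rfl⟩ := hxr
        exact hHH z h₀ (by rw [hdm]; exact hx) hh₀
      · rw [range_hyper, Set.notMem_compl_iff] at hxr
        obtain ⟨w, rfl⟩ := hxr
        obtain ⟨φ, h1, h2, h3⟩ := exists_move_compl (CohB1.ProjSpace.toSpec (n + 1) K) n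
          (chart (n + 1) K (Fin.last (n + 1))) w hx
        have h4 : φ - Set.indicator {hyper n K h₀} 1 ∈ RZ (CohB1.ProjSpace.toSpec (n + 1) K) := by
          have hH : ∀ x, (φ - Set.indicator {hyper n K h₀} 1 : CohB1.ProjSpace (n + 1) K → ℤ) x ≠ 0 →
              ∃ z, hyper n K z = x ∧ dm (CohB1.ProjSpace.toSpec n K) z = 0 := by
            intro x hx
            by_cases hx' : x = hyper n K h₀
            · exact ⟨h₀, hx'.symm, hh₀⟩
            · have h5 : φ x ≠ 0 := fun h0 => hx (by
                rw [Pi.sub_apply, h0, indicator_ne hx', sub_zero])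
              have h6 := (h3 x h5).2
              rw [← Set.mem_compl_iff, ← range_hyper] at h6
              obtain ⟨z, rfl⟩ := h6
              exact ⟨z, rfl, by rw [hdm]; exact (h3 _ h5).1⟩
          refine mem_of_finsum_eq_zero ((h2.union (finite_support_indicator _)).subset
            (Function.support_sub _ _)) ?_ ?_
          · intro a b ha hb
            obtain ⟨z, rfl, hz⟩ := hH a ha
            obtain ⟨z', rfl, hz'⟩ := hH b hb
            exact hHH z z' hz hz'
          · have h7 := finsum_eq_zero_of_mem h1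
            have h8 : ∑ᶠ x, (Set.indicator {chart (n + 1) K (Fin.last (n + 1)) w} 1 - φ :
                CohB1.ProjSpace (n + 1) K → ℤ) x =
              ∑ᶠ x, (Set.indicator {chart (n + 1) K (Fin.last (n + 1)) w} 1 :
                CohB1.ProjSpace (n + 1) K → ℤ) x - ∑ᶠ x, φ x :=
              finsum_sub_distrib (finite_support_indicator _) h2
            have h9 : ∑ᶠ x, (φ - Set.indicator {hyper n K h₀} 1 :
                CohB1.ProjSpace (n + 1) K → ℤ) x =
              ∑ᶠ x, φ x - ∑ᶠ x, (Set.indicator {hyper n K h₀} 1 :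
                CohB1.ProjSpace (n + 1) K → ℤ) x :=
              finsum_sub_distrib h2 (finite_support_indicator _)
            rw [h8, finsum_indicator_univ] at h7
            rw [h9, finsum_indicator_univ]
            linarith
        have h5 := add_mem h1 h4
        rwa [sub_add_sub_cancel] at h5
    intro x y hx hy
    exact (key x hx).trans (key y hy).symm

end K952.PnPts
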