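import Groth.Agent.ZCorr.K952.BlowPt
import Groth.Agent.ZCorr.K952.ExcPt
import Groth.Agent.ZCorr.K952.PnPts
import Groth.Agent.Flat2C.BlowProper
import Groth.Agent.Divis.BlowUpFormal
import Groth.Agent.CohqA.ProjDim

/-!
# Zero cycles and the blow-up of a closed point
-/

set_option autoImplicit false

universe u

open AlgebraicGeometry CategoryTheory CategoryTheory.Limits TopologicalSpace

namespace K952.BlowPt

open Groth.Agent Basic Pts

variable {X X' : Scheme.{u}} {K : Type u} [Field K] [IsAlgClosed K]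

omit [IsAlgClosed K] in
/-- The kernel of a morphism with reduced source is the vanishing ideal of the closure
of its range. -/
theorem ker_eq_vanishingIdeal {Z : Scheme.{u}} (f : Z ⟶ X) [IsReduced Z] :
    f.ker = Scheme.IdealSheafData.vanishingIdeal ⟨closure (Set.range f), isClosed_closure⟩ := by
  have h1 := Scheme.IdealSheafData.map_vanishingIdeal f ⊤
  rw [Scheme.IdealSheafData.vanishingIdeal_top, Scheme.nilradical_eq_bot,
    Scheme.IdealSheafData.map_bot] at h1
  rw [h1]
  congr 1
  ext x
  simp [TopologicalSpace.Closeds.closure]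

theorem main_blowUp (p : X ⟶ Spec (CommRingCat.of K)) [IsProper p] [Smooth p]
    [AlgebraicGeometry.IsIntegral X] (hdim : 1 ≤ topologicalKrullDim X)
    (x : X) (hx : IsClosed ({x} : Set X)) (π : X' ⟶ X) [QuasiCompact π]
    (hπ : BlowUp.IsBlowUp π (Scheme.IdealSheafData.vanishingIdeal ⟨{x}, hx⟩))
    {δ : X → ℤ} (hδ : Cyc.DeltaCompat p δ (fun _ => 0))
    {δ' : X' → ℤ} (hδ' : Cyc.DeltaCompat (π ≫ p) δ' (fun _ => 0)) :
    (∀ z : AlgebraicCycle X' ℤ, z ∈ Cyc.Zk X' δ' 0 →
        Cyc.RatEquivZero δ 0 (AlgebraicCycle.map π δ' δ z) → Cyc.RatEquivZero δ' 0 z) ∧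
      ∀ α : AlgebraicCycle X ℤ, α ∈ Cyc.Zk X δ 0 →
        ∃ z : AlgebraicCycle X' ℤ, z ∈ Cyc.Zk X' δ' 0 ∧
          Cyc.RatEquiv δ 0 (AlgebraicCycle.map π δ' δ z) α := by
  have hN : IsLocallyNoetherian X := (isSetup_dm p).1
  have hsupp : ((Scheme.IdealSheafData.vanishingIdeal ⟨{x}, hx⟩).support : Set X) = {x} := by
    rw [Scheme.IdealSheafData.coe_support_vanishingIdeal]
    rfl
  have hprop : IsProper π := Flat2C.BlowProper.isProper_of_isBlowUp hπ fun U => by
    have : IsNoetherianRing Γ(X, U.1) := IsLocallyNoetherian.component_noetherian U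
    exact IsNoetherian.noetherian _
  have hiso : IsIso (π ∣_ compl hx) :=
    Divis.BlowUpFormal.isIso_morphismRestrict_compl_support hπ (compl hx) (by
      rw [hsupp]
      exact Set.disjoint_left.2 fun y hy hy' => hy hy')
  -- the rational point
  let t : Spec (CommRingCat.of K) ⟶ X := pointOfClosedPoint p x hx
  have ht : t ≫ p = 𝟙 _ := pointOfClosedPoint_comp p x hx
  have hta : ∀ z, t z = x := fun z => pointOfClosedPoint_apply p x hx z
  let c₀ : (Spec (CommRingCat.of K) : Scheme.{u}) := IsLocalRing.closedPoint K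
  have hrt : Set.range t = {x} := by
    ext y
    constructor
    · rintro ⟨z, rfl⟩
      exact hta z
    · rintro rfl
      exact ⟨c₀, hta _⟩
  have hci : IsClosedImmersion t := by
    have : IsClosedImmersion (t ≫ p) := by rw [ht]; infer_instance
    exact IsClosedImmersion.of_comp t p
  have hker : t.ker = Scheme.IdealSheafData.vanishingIdeal ⟨{x}, hx⟩ := by
    rw [ker_eq_vanishingIdeal t]
    congr 1
    ext y
    change y ∈ closure (Set.range t) ↔ y ∈ ({x} : Set X)
    rw [hrt, hx.closure_eq]
  have hopen : ¬ IsOpen (Set.range t) := by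
    rw [hrt]
    intro hop
    have h1 : genericPoint X = x :=
      ((genericPoint_spec X).mem_open_set_iff hop).2 (by simp)
    have h2 := dm_dim_closure p (genericPoint X)
    have h3 : (closure {genericPoint X} : Set X) = Set.univ := genericPoint_closure X
    rw [(dm_eq_zero_iff_isClosed p (genericPoint X)).2 (h1 ▸ hx), h3,
      IsHomeomorph.topologicalKrullDim_eq _ (Homeomorph.Set.univ X).isHomeomorph] at h2
    rw [h2] at hdim
    exact absurd hdim (by norm_num)
  rw [← hker] at hπ
  obtain ⟨r, j, hj⟩ := ExcPt.exists_isPullback p t ht hopen π hπ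
  have hjc : IsClosedImmersion j :=
    MorphismProperty.of_isPullback (P := @IsClosedImmersion) hj.flip inferInstance
  have hjp : j ≫ (π ≫ p) = CohB1.ProjSpace.toSpec r K := by
    rw [← Category.assoc, hj.w, Category.assoc, ht, Category.comp_id]
  have hjr : ∀ a, π a = x → ∃ a', j a' = a := by
    intro a ha
    obtain ⟨c, hc, -⟩ := Scheme.Pullback.exists_preimage_pullback (f := π) (g := t) a
      c₀ (by rw [ha, hta])
    refine ⟨hj.isoPullback.inv c, ?_⟩
    rw [← Scheme.Hom.comp_apply, hj.isoPullback_inv_fst, hc]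
  have hcX' : CompactSpace X' := by
    have hcX : CompactSpace X := QuasiCompact.compactSpace_of_compactSpace p
    exact QuasiCompact.compactSpace_of_compactSpace π
  refine main π p hx ?_ ?_ hδ hδ'
  · intro a b ha hb hac hbc
    obtain ⟨a', rfl⟩ := hjr a ha
    obtain ⟨b', rfl⟩ := hjr b hb
    have hdm : ∀ z, dm (CohB1.ProjSpace.toSpec r K) z = dm (π ≫ p) (j z) := by
      intro z
      rw [← dm_comp_of_isPreimmersion, hjp]
    have h1 := PnPts.ptEq_projSpace (K := K) r a' b'
      (by rw [hdm]; exact (dm_eq_zero_iff_isClosed _ _).2 hac)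
      (by rw [hdm]; exact (dm_eq_zero_iff_isClosed _ _).2 hbc)
    rw [← hjp] at h1
    exact PtEq.push h1
  · have hint : IsIntegral (CohB1.ProjSpace r K) := inferInstance
    refine ⟨j (genericPoint _), ?_⟩
    rw [← Scheme.Hom.comp_apply, hj.w, Scheme.Hom.comp_apply, hta]

end K952.BlowPt
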