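import Groth.Agent.ZCorr.K952.RatCurve
import Groth.Agent.Pi1C.LefFinal
import Groth.Agent.Fdesc.LocGen

/-!
# Rational curves on surfaces with an ample section vanishing on rational curves
-/

set_option autoImplicit false

universe u

open AlgebraicGeometry CategoryTheory CategoryTheory.Limits TopologicalSpace

namespace K952.RatCurve

open Groth.Agent Basic Pts PnPts

/-- The zero cycles of two closed points are rationally equivalent iff the points are. -/
theorem ratEquiv_of_ptEq {X : Scheme.{u}} {K : Type u} [Field K]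
    (p : X ⟶ Spec (CommRingCat.of K)) [LocallyOfFiniteType p] {δ : X → ℤ}
    (hδ : Cyc.DeltaCompat p δ (fun _ => 0)) {x y : X} (h : PtEq p x y)
    {cx cy : AlgebraicCycle X ℤ} (hcx : ⇑cx = Set.indicator {x} 1)
    (hcy : ⇑cy = Set.indicator {y} 1) : Cyc.RatEquiv δ 0 cx cy := by
  obtain rfl : δ = fun x => (dm p x : ℤ) := funext (delta_eq_dm hδ)
  have hN : IsLocallyNoetherian X := (isSetup_dm p).1
  refine Groth.Agent.CycA.MovRatZ.ratEquivZero_of_mem_ratZ (isSetup_dm p).2.2 ?_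
  have h4 : ⇑(cx - cy) = ⇑cx - ⇑cy := rfl
  rw [h4, hcx, hcy]
  exact h

open Groth.Agent.Fdesc.LocGen in
/-- On a reduced scheme a section of an invertible module with empty nonvanishing locus is zero
(after `Groth.Agent.CurvesC.DegZeroSec512`). -/
theorem eq_zero_of_genLocus_eq_bot {X : Scheme.{u}} [IsReduced X] {L : X.Modules}
    (hL : PicF.IsInvertible L)
    (s : Coh.structureModule X ⟶ L) (h : CohB1.genLocus L s = ⊥) : s = 0 := by
  rw [isInvertible_iff] at hL
  choose U e hxU he using hL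
  choose a ha using fun x => (he x).exists_eq (sec s (U x))
  have hz : ∀ x, a x = 0 := fun x => by
    have h1 := genLocus_inf_eq s (he x) (ha x)
    rw [h, bot_inf_eq] at h1
    exact (basicOpen_eq_bot_iff _).mp h1.symm
  apply hom_ext_sec
  refine res_ext L U (fun x => le_top) (fun x _ => Opens.mem_iSup.mpr ⟨x, hxU x⟩) fun x => ?_
  rw [res_sec, res_sec, ha x, hz x, zero_smul]
  rfl

theorem main {X : Scheme.{u}} {K : Type u} [Field K] [IsAlgClosed K]
    (p : X ⟶ Spec (CommRingCat.of K)) [IsProper p] [AlgebraicGeometry.IsIntegral X]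
    (hdim : topologicalKrullDim X = 2)
    (L : X.Modules) (hL : CohB1.IsAmple L) (s : Coh.structureModule X ⟶ L) (hs : s ≠ 0)
    (hconn : _root_.IsConnected ((CohB1.genLocus L s : Set X)ᶜ))
    (hrat : ∀ h ∈ ((CohB1.genLocus L s : Set X)ᶜ), IsClosed ({h} : Set X) →
      ∃ g : CohB1.ProjSpace 1 K ⟶ X, g ≫ p = CohB1.ProjSpace.toSpec 1 K ∧
        (Set.range ⇑g).Nontrivial ∧
        h ∈ Set.range ⇑g ∧ Set.range ⇑g ⊆ (CohB1.genLocus L s : Set X)ᶜ)
    (x y : X) (hx : IsClosed ({x} : Set X)) (hy : IsClosed ({y} : Set X))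
    (hxr : ∃ g : CohB1.ProjSpace 1 K ⟶ X, g ≫ p = CohB1.ProjSpace.toSpec 1 K ∧
      (Set.range ⇑g).Nontrivial ∧ x ∈ Set.range ⇑g)
    (hyr : ∃ g : CohB1.ProjSpace 1 K ⟶ X, g ≫ p = CohB1.ProjSpace.toSpec 1 K ∧
      (Set.range ⇑g).Nontrivial ∧ y ∈ Set.range ⇑g)
    (δ : X → ℤ) (hδ : Cyc.DeltaCompat p δ (fun _ => 0))
    (cx cy : AlgebraicCycle X ℤ) (hcx : ⇑cx = Set.indicator {x} 1)
    (hcy : ⇑cy = Set.indicator {y} 1) :
    Cyc.RatEquiv δ 0 cx cy := by
  have hU : IsAffineOpen (CohB1.genLocus L s) := Pi1C.LefFinal.isAffineOpen_genLocus p hL s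
  have hd : dm p (genericPoint X) = 2 := dm_genericPoint p hdim
  refine ratEquiv_of_ptEq p hδ ?_ hcx hcy
  by_cases hUne : (CohB1.genLocus L s : Set X).Nonempty
  · exact ptEq p _ hU hUne hconn hd.le hrat x y hx hy hxr hyr
  · exfalso
    apply hs
    apply eq_zero_of_genLocus_eq_bot hL.1
    rw [Set.not_nonempty_iff_eq_empty] at hUne
    exact TopologicalSpace.Opens.ext hUne

end K952.RatCurve
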