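import Groth.Agent.CycA.MovMain
import Groth.Agent.CycA.MovRatZ
import Groth.Agent.CycA.MovFin
import Groth.Agent.CycA.FibreComp
import Groth.Agent.CohqB.ProjBC
import Groth.Agent.S1900
import Groth.Agent.Dix.ProjProper
import Groth.Agent.ZCorr.K952.Basic

/-!
# Moving zero cycles into an open subset
-/

set_option autoImplicit false

universe u

open AlgebraicGeometry CategoryTheory CategoryTheory.Limits TopologicalSpace

namespace K952.MoveZero

open Groth.Agent Groth.Agent.CycA Groth.Agent.CycA.MovRatZ Groth.Agent.CycA.MovFin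

/-- Every point outside an open set is a specialization of a point of a finite set outside it. -/
theorem exists_finite_generic {X : Scheme.{u}} [NoetherianSpace X] (δ : X → ℤ)
    (hδ : Cyc.IsDimFun X δ) (n : ℤ) (hn : ∀ x, δ x ≤ n) (U : X.Opens) :
    ∃ T : Set X, T.Finite ∧ (∀ τ ∈ T, τ ∉ U) ∧ ∀ x, x ∉ U → ∃ τ ∈ T, τ ⤳ x := by
  refine ⟨{x : X | x ∈ (U : Set X)ᶜ ∧ ∀ y ∈ (U : Set X)ᶜ, y ⤳ x → y = x},
    finite_maximal U.isOpen.isClosed_compl, fun τ hτ => hτ.1, ?_⟩
  suffices h : ∀ (m : ℕ) (x : X), x ∉ U → (n - δ x).toNat ≤ m →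
      ∃ τ ∈ {x : X | x ∈ (U : Set X)ᶜ ∧ ∀ y ∈ (U : Set X)ᶜ, y ⤳ x → y = x}, τ ⤳ x from
    fun x hx => h _ x hx le_rfl
  intro m
  induction m with
  | zero =>
    intro x hx h0
    refine ⟨x, ⟨hx, fun y _ hyx => ?_⟩, specializes_rfl⟩
    by_contra hne
    have h1 := (hδ y x hyx hne).1
    have h2 := hn y
    omega
  | succ m ih =>
    intro x hx hm
    by_cases h : ∀ y ∈ (U : Set X)ᶜ, y ⤳ x → y = x
    · exact ⟨x, ⟨hx, h⟩, specializes_rfl⟩
    · push Not at h
      obtain ⟨y, hy, hyx, hne⟩ := h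
      have h1 := (hδ y x hyx hne).1
      have h2 := hn y
      obtain ⟨τ, hτ, hτy⟩ := ih y hy (by omega)
      exact ⟨τ, hτ, hτy.trans hyx⟩

/-- A closed point can be moved into a given nonempty open subset. -/
theorem exists_move_point {K : Type u} [Field K] [IsAlgClosed K] {X : Scheme.{u}}
    (f : X ⟶ Spec (CommRingCat.of K)) [Smooth f] [AlgebraicGeometry.IsIntegral X]
    (hX : RelProj.IsHProjective f)
    (δ : X → ℤ) (hδ : Cyc.DeltaCompat f δ (fun _ => 0)) (U : X.Opens)
    (hU : (U : Set X).Nonempty) (η : X) (hη : δ η = 0) :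
    ∃ φ : X → ℤ, Set.indicator {η} 1 - φ ∈ RatZ δ 0 ∧ (Function.support φ).Finite ∧
      ∀ x, φ x ≠ 0 → δ x = 0 ∧ x ∈ U := by
  classical
  have hset : Cyc.IsSetup X δ := SetupField.isSetup_of_field f hδ
  have hdf := hset.2.2
  have hN : IsLocallyNoetherian X := hset.1
  have hprop : IsProper f := Basic.isProper_of_isHProjective hX
  have hcpt : CompactSpace X := QuasiCompact.compactSpace_of_compactSpace f
  have hNX : NoetherianSpace X := by
    have : IsNoetherian X := {}
    infer_instance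
  have hle : ∀ x, δ x ≤ δ (genericPoint X) := MovZ.delta_le hdf
  have h0le : ∀ x, 0 ≤ δ x := fun x => MovZ.delta_nonneg hδ x
  have hgU : genericPoint X ∈ U := (genericPoint_spec X).mem_open_set_iff U.isOpen |>.2 (by simp [hU])
  by_cases hn : δ (genericPoint X) = 0
  · -- `X` is a point
    refine ⟨Set.indicator {η} 1, by rw [sub_self]; exact (RatZ δ 0).zero_mem,
      (Set.finite_singleton η).subset (by simp), fun x hx => ?_⟩
    have hxη : x = η := by
      by_contra hne
      exact hx (Set.indicator_of_notMem (by simpa using hne) _)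
    have hηg : genericPoint X = η := by
      by_contra hne
      have := (hdf _ _ (genericPoint_specializes η) hne).1
      omega
    exact ⟨by rw [hxη, hη], by rw [hxη, ← hηg]; exact hgU⟩
  have hpos : 0 < δ (genericPoint X) := lt_of_le_of_ne (h0le _) (Ne.symm hn)
  obtain ⟨T, hT, hTU, hTgen⟩ := exists_finite_generic δ hdf _ hle U
  have hTn : ∀ τ ∈ T, δ τ < δ (genericPoint X) := by
    intro τ hτ
    have hne : genericPoint X ≠ τ := by
      rintro rfl
      exact hTU _ hτ hgU
    exact (hdf _ _ (genericPoint_specializes τ) hne).1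
  -- the dimension function of `P^1_X`
  have hprp : IsProper (CohB1.ProjSpaceOver.toBase 1 X) := Dix.ProjProper.isProper_toBase 1 X
  have hPcpt : CompactSpace ↥(CohB1.ProjSpaceOver 1 X) :=
    QuasiCompact.compactSpace_of_compactSpace (CohB1.ProjSpaceOver.toBase 1 X)
  obtain ⟨δP, hP⟩ := CycB.SetupLft.exists_deltaCompat (CohB1.ProjSpaceOver.toBase 1 X) δ
  -- the embedding
  obtain ⟨N, ι, hι, hιf⟩ := hX
  have hM : MovLemmaM.Moves f δ (δ (genericPoint X)) δP η T := by
    let ι' : X ⟶ Proj (MvPolynomial.homogeneousSubmodule (Fin (N + 1)) K) :=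
      ι ≫ (Groth.Agent.CohqB.ProjBC.projSpaceOverIso N K).hom
    have hci : IsClosedImmersion ι' := by
      have : IsClosedImmersion (ι ≫ (Groth.Agent.CohqB.ProjBC.projSpaceOverIso N K).hom) :=
        inferInstance
      exact this
    have hι' : f = ι' ≫ Groth.Agent.VarietyB.ProjStd.toSpec (Fin (N + 1)) K := by
      have h1 : ι ≫ (Groth.Agent.CohqB.ProjBC.projSpaceOverIso N K).hom ≫
          CohB1.ProjSpace.toSpec N K = f := by
        rw [Groth.Agent.CohqB.ProjBC.projSpaceOverIso_hom_toSpec]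
        exact hιf
      rw [← h1, ← Category.assoc]
      rfl
    clear_value ι'
    clear hιf
    subst hι'
    exact MovMain.moves ι' δ hset hδ _ rfl δP hP η (by rw [hη]; exact hpos) T hT
  obtain ⟨m, W, ιW, hWint, hWcl, c, b, hW, hdom, hsum, -, hb, h1, hbf, hf0, hf1⟩ := hM
  let F : Fin m → Fin (1 + 1) → X → ℤ := fun k i =>
    Cyc.subschemeFun δ 0 (pullback.snd (ιW k) (P1.sect X i))
  rw [hη] at hW hsum hb h1 hf0 hf1
  have hrat : ∀ k, F k 0 - F k 1 ∈ RatZ δ 0 := by
    intro k
    have := hWint k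
    have := hWcl k
    have hgen := FibreComp.notMem_range_of_dominates K f (ιW k) (hdom k)
    obtain ⟨α, hα⟩ := exists_cycle_of_finite_support (hf0 k)
    obtain ⟨β, hβ⟩ := exists_cycle_of_finite_support (hf1 k)
    have h := S1900.result X δ hset δP hP 0 (W k) (ιW k) (hW k) (hgen 0) (hgen 1) α β hα hβ
    have h2 := mem_ratZ_of_ratEquivZero (α := α - β) h
    have h3 : ⇑(α - β) = F k 0 - F k 1 := by
      have h4 : ⇑(α - β) = ⇑α - ⇑β := rfl
      rw [h4, hα, hβ]
    rwa [h3] at h2
  refine ⟨(∑ k, c k • F k 1) - b, ?_, ?_, ?_⟩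
  · have h2 : Set.indicator {η} 1 - ((∑ k, c k • F k 1) - b) = ∑ k, c k • (F k 0 - F k 1) := by
      funext x
      have h3 := hsum x
      simp only [Pi.sub_apply, Finset.sum_apply, Pi.smul_apply, smul_eq_mul, mul_sub,
        Finset.sum_sub_distrib]
      linarith
    rw [h2]
    exact AddSubgroup.sum_mem _ fun k _ => AddSubgroup.zsmul_mem _ (hrat k) _
  · refine ((Set.finite_iUnion fun k => hf1 k).union hbf).subset fun x hx => ?_
    by_contra hcon
    simp only [Set.mem_union, Set.mem_iUnion, Function.mem_support, not_or, not_exists,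
      not_not] at hcon
    apply hx
    simp only [Pi.sub_apply, Finset.sum_apply, Pi.smul_apply, smul_eq_mul]
    rw [hcon.2, sub_zero]
    exact Finset.sum_eq_zero fun k _ => by rw [show F k 1 x = 0 from hcon.1 k, mul_zero]
  · intro x hx
    have h3 : b x ≠ 0 ∨ ∃ k, F k 1 x ≠ 0 := by
      by_contra hcon
      simp only [not_or, not_exists, not_not] at hcon
      apply hx
      simp only [Pi.sub_apply, Finset.sum_apply, Pi.smul_apply, smul_eq_mul]
      rw [hcon.1, sub_zero]
      exact Finset.sum_eq_zero fun k _ => by rw [hcon.2 k, mul_zero]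
    rcases h3 with h3 | ⟨k, h3⟩
    · have h4 := hb x h3
      refine ⟨h4.1, ?_⟩
      by_contra hxU
      obtain ⟨τ, hτ, hτx⟩ := hTgen x hxU
      have h5 := hTn τ hτ
      rcases h4.2 τ hτ x specializes_rfl hτx with h6 | ⟨ζ', h7, -, h8⟩
      · have := h4.1
        omega
      · have h9 : δ ζ' ≤ δ η := by
          by_cases h10 : η = ζ'
          · rw [h10]
          · exact (hdf _ _ h7 h10).1.le
        have := h4.1
        omega
    · have h4 : δ x = 0 := by
        by_contra hcon
        apply h3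
        change Cyc.subschemeFun δ 0 (pullback.snd (ιW k) (P1.sect X 1)) x = 0
        rw [Cyc.subschemeFun, if_neg hcon]
      refine ⟨h4, ?_⟩
      by_contra hxU
      obtain ⟨τ, hτ, hτx⟩ := hTgen x hxU
      have h5 := hTn τ hτ
      have h6 := h1 k x h3 τ hτ x specializes_rfl hτx
      omega

/-- **Moving zero cycles into an open subset.** -/
theorem exists_move {K : Type u} [Field K] [IsAlgClosed K] {X : Scheme.{u}}
    (f : X ⟶ Spec (CommRingCat.of K)) [Smooth f] [AlgebraicGeometry.IsIntegral X]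
    (hX : RelProj.IsHProjective f)
    (δ : X → ℤ) (hδ : Cyc.DeltaCompat f δ (fun _ => 0)) (U : X.Opens)
    (hU : (U : Set X).Nonempty) (z : AlgebraicCycle X ℤ) (hz : z ∈ Cyc.Zk X δ 0) :
    ∃ z' : AlgebraicCycle X ℤ, z' ∈ Cyc.Zk X δ 0 ∧ (∀ w, z' w ≠ 0 → w ∈ U) ∧
      Cyc.RatEquiv δ 0 z z' := by
  classical
  have hset : Cyc.IsSetup X δ := SetupField.isSetup_of_field f hδ
  have hdf := hset.2.2
  have hN : IsLocallyNoetherian X := hset.1
  have hprop : IsProper f := Basic.isProper_of_isHProjective hX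
  have hcpt : CompactSpace X := QuasiCompact.compactSpace_of_compactSpace f
  have hfin : (Function.support ⇑z).Finite := finite_support z
  have hmv : ∀ η : X, ∃ φ : X → ℤ, δ η = 0 → (Set.indicator {η} 1 - φ ∈ RatZ δ 0 ∧
      (Function.support φ).Finite ∧ ∀ x, φ x ≠ 0 → δ x = 0 ∧ x ∈ U) := by
    intro η
    by_cases h : δ η = 0
    · obtain ⟨φ, hφ⟩ := exists_move_point f hX δ hδ U hU η h
      exact ⟨φ, fun _ => hφ⟩
    · exact ⟨0, fun h' => absurd h' h⟩
  choose φ hφ using hmv
  have hz0 : ∀ η ∈ hfin.toFinset, δ η = 0 := fun η hη => by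
    by_contra hne
    exact (by simpa using hη : z η ≠ 0) (hz η hne)
  let ψ : X → ℤ := ∑ η ∈ hfin.toFinset, z η • φ η
  have hψ : (Function.support ψ).Finite := by
    refine (hfin.toFinset.finite_toSet.biUnion fun η hη => (hφ η (hz0 η hη)).2.1).subset
      fun x hx => ?_
    have hx' : ∑ η ∈ hfin.toFinset, (z η • φ η) x ≠ 0 := by
      rw [← Finset.sum_apply]
      exact hx
    obtain ⟨η, hη, hne⟩ := Finset.exists_ne_zero_of_sum_ne_zero hx'
    refine Set.mem_biUnion hη ?_
    exact right_ne_zero_of_mul (a := z η) hne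
  obtain ⟨z', hz'⟩ := exists_cycle_of_finite_support hψ
  have hmem : ∀ x, z' x ≠ 0 → δ x = 0 ∧ x ∈ U := by
    intro x hx
    rw [hz'] at hx
    have hx' : ∑ η ∈ hfin.toFinset, (z η • φ η) x ≠ 0 := by
      rw [← Finset.sum_apply]
      exact hx
    obtain ⟨η, hη, hne⟩ := Finset.exists_ne_zero_of_sum_ne_zero hx'
    exact (hφ η (hz0 η hη)).2.2 x (right_ne_zero_of_mul (a := z η) hne)
  refine ⟨z', fun x hx => ?_, fun x hx => (hmem x hx).2, ?_⟩
  · by_contra hne
    exact hx (hmem x hne).1
  refine ratEquivZero_of_mem_ratZ hdf ?_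
  have h2 : ∀ (s : Finset X), (∀ x, x ∈ s ↔ z x ≠ 0) →
      ⇑z = ∑ η ∈ s, z η • (Set.indicator {η} 1 : X → ℤ) := by
    intro s hs
    funext x
    rw [Finset.sum_apply]
    by_cases hx : z x = 0
    · rw [hx]
      symm
      refine Finset.sum_eq_zero fun η hη => ?_
      have hne : x ≠ η := by
        rintro rfl
        exact (hs x).1 hη hx
      rw [Pi.smul_apply, Set.indicator_of_notMem (show x ∉ ({η} : Set X) by simpa using hne),
        smul_zero]
    · rw [Finset.sum_eq_single x]
      · simp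
      · intro η _ hne
        rw [Pi.smul_apply,
          Set.indicator_of_notMem (show x ∉ ({η} : Set X) by simpa using hne.symm), smul_zero]
      · intro h
        exact absurd ((hs x).2 hx) h
  have h3 : ⇑(z - z') = ∑ η ∈ hfin.toFinset, z η • ((Set.indicator {η} 1 : X → ℤ) - φ η) := by
    have h4 : ⇑(z - z') = ⇑z - ⇑z' := rfl
    simp only [smul_sub, Finset.sum_sub_distrib]
    rw [h4, hz', ← h2 hfin.toFinset (fun x => by simp)]
  rw [h3]
  exact AddSubgroup.sum_mem _ fun η hη => AddSubgroup.zsmul_mem _ (hφ η (hz0 η hη)).1 _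

end K952.MoveZero
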