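import Groth.Prelude.Def_SymProd
import Mathlib.AlgebraicGeometry.Morphisms.Proper

/-!
# Properties of fibre powers
-/

set_option autoImplicit false
universe u

open CategoryTheory CategoryTheory.Limits AlgebraicGeometry

namespace K952.FibPow

variable {X S : Scheme.{u}} (f : X ⟶ S)

/-- Fibre powers of successive exponents. -/
noncomputable def succHom (d : ℕ) : SymProd.fibPow f (d + 1) ⟶
    pullback (WidePullback.base (fun _ : Fin d => f)) f :=
  pullback.lift (WidePullback.lift (WidePullback.base _)
    (fun i => WidePullback.π _ i.castSucc) (by simp)) (WidePullback.π _ (Fin.last d)) (by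
      rw [WidePullback.lift_base, WidePullback.π_arrow])

/-- The inverse comparison. -/
noncomputable def succInv (d : ℕ) : pullback (WidePullback.base (fun _ : Fin d => f)) f ⟶
    SymProd.fibPow f (d + 1) :=
  WidePullback.lift (pullback.snd _ f ≫ f)
    (fun i => Fin.lastCases (motive := fun _ => pullback (WidePullback.base (fun _ : Fin d => f)) f ⟶ X)
      (pullback.snd _ f) (fun j => pullback.fst _ f ≫ WidePullback.π _ j) i) (by
      intro i
      induction i using Fin.lastCases with
      | last => simp
      | cast j => simp [pullback.condition])

lemma succInv_π_last (d : ℕ) : succInv f d ≫ WidePullback.π _ (Fin.last d) = pullback.snd _ f := by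
  unfold succInv
  rw [WidePullback.lift_π]
  simp

lemma succInv_π_castSucc (d : ℕ) (j : Fin d) :
    succInv f d ≫ WidePullback.π _ j.castSucc = pullback.fst _ f ≫ WidePullback.π _ j := by
  unfold succInv
  rw [WidePullback.lift_π]
  simp

lemma succInv_base (d : ℕ) : succInv f d ≫ WidePullback.base _ = pullback.snd _ f ≫ f := by
  unfold succInv
  rw [WidePullback.lift_base]

lemma succHom_fst_π (d : ℕ) (j : Fin d) : succHom f d ≫ pullback.fst _ f ≫ WidePullback.π _ j =
    WidePullback.π _ j.castSucc := by
  unfold succHom
  rw [pullback.lift_fst_assoc, WidePullback.lift_π]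

lemma succHom_fst_base (d : ℕ) : succHom f d ≫ pullback.fst _ f ≫ WidePullback.base _ =
    WidePullback.base _ := by
  unfold succHom
  rw [pullback.lift_fst_assoc, WidePullback.lift_base]

lemma succHom_snd (d : ℕ) : succHom f d ≫ pullback.snd _ f = WidePullback.π _ (Fin.last d) := by
  unfold succHom
  rw [pullback.lift_snd]

instance (d : ℕ) : IsIso (succHom f d) := by
  refine ⟨succInv f d, ?_, ?_⟩
  · apply WidePullback.hom_ext
    · intro i
      induction i using Fin.lastCases with
      | last => rw [Category.assoc, succInv_π_last, succHom_snd, Category.id_comp]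
      | cast j => rw [Category.assoc, succInv_π_castSucc, succHom_fst_π, Category.id_comp]
    · rw [Category.assoc, succInv_base, Category.id_comp, ← Category.assoc, succHom_snd,
        WidePullback.π_arrow]
  · apply pullback.hom_ext
    · apply WidePullback.hom_ext
      · intro j
        rw [Category.assoc, Category.assoc, succHom_fst_π, succInv_π_castSucc, Category.id_comp]
      · rw [Category.assoc, Category.assoc, succHom_fst_base, succInv_base, Category.id_comp,
          pullback.condition]
    · rw [Category.assoc, succHom_snd, succInv_π_last, Category.id_comp]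

instance : IsIso (WidePullback.base (fun _ : Fin 0 => f)) := by
  refine ⟨WidePullback.lift (𝟙 S) (fun i => i.elim0) (fun i => i.elim0), ?_, ?_⟩
  · apply WidePullback.hom_ext
    · intro i
      exact i.elim0
    · rw [Category.assoc, WidePullback.lift_base, Category.comp_id, Category.id_comp]
  · rw [WidePullback.lift_base]

/-- Properties of morphisms pass to fibre powers. -/
theorem base_mem (P : MorphismProperty Scheme.{u})
    [P.IsStableUnderBaseChange] [P.IsMultiplicative] (hf : P f) (d : ℕ) :
    P (WidePullback.base (fun _ : Fin d => f)) := by
  induction d with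
  | zero => exact MorphismProperty.of_isIso P _
  | succ d ih =>
    rw [← succHom_fst_base]
    exact P.comp_mem _ _ (MorphismProperty.of_isIso P _)
      (P.comp_mem _ _ (P.pullback_fst _ _ hf) ih)

instance [LocallyOfFiniteType f] (d : ℕ) :
    LocallyOfFiniteType (WidePullback.base (fun _ : Fin d => f)) :=
  base_mem f (@LocallyOfFiniteType : MorphismProperty Scheme.{u}) inferInstance d

instance [IsProper f] (d : ℕ) : IsProper (WidePullback.base (fun _ : Fin d => f)) :=
  base_mem f (@IsProper : MorphismProperty Scheme.{u}) inferInstance d

end K952.FibPow
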