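import Groth.Agent.ZCorr.K952.OneDim
import Groth.Agent.CycB.LocQuot
import Groth.Prelude.Def_AlgEqCyc

/-!
# Multiplicities of fibres
-/

set_option autoImplicit false

universe u

open AlgebraicGeometry CategoryTheory CategoryTheory.Limits

namespace K952.Mult

open Groth.Agent.CycB.LocQuot

variable {P C : Scheme.{u}}

/-- The ideal of the fibre over `g v` in the local ring at `v` of the closure of `w`. -/
noncomputable def fibJ (g : P ⟶ C) (v w : P) (h : w ⤳ v) : Ideal (Cyc.LocQuot v w h) :=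
  (IsLocalRing.maximalIdeal (C.presheaf.stalk (g v))).map
    ((Ideal.Quotient.mk (RingHom.ker (Cyc.specMap v w h))).comp (g.stalkMap v).hom)

theorem fibreMult_eq (g : P ⟶ C) (v w : P) (h : w ⤳ v) :
    AlgEqCyc.fibreMult g v w h =
      (Module.length (P.presheaf.stalk v) (Cyc.LocQuot v w h ⧸ fibJ g v w h)).toNat := rfl

theorem fibJ_le (g : P ⟶ C) (v w : P) (h : w ⤳ v) :
    fibJ g v w h ≤ IsLocalRing.maximalIdeal (Cyc.LocQuot v w h) := by
  rw [fibJ, Ideal.map_le_iff_le_comap]
  intro a ha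
  rw [Ideal.mem_comap]
  have h1 : (g.stalkMap v).hom a ∈ IsLocalRing.maximalIdeal (P.presheaf.stalk v) := by
    rw [IsLocalRing.mem_maximalIdeal, mem_nonunits_iff] at ha ⊢
    intro hu
    exact ha (isUnit_of_map_unit (g.stalkMap v).hom a hu)
  have h2 : IsLocalHom (Ideal.Quotient.mk (RingHom.ker (Cyc.specMap v w h))) :=
    .of_surjective _ Ideal.Quotient.mk_surjective
  rw [IsLocalRing.mem_maximalIdeal, mem_nonunits_iff] at h1 ⊢
  intro hu
  exact h1 (isUnit_of_map_unit (Ideal.Quotient.mk (RingHom.ker (Cyc.specMap v w h))) _ hu)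

theorem nontrivial_quot (g : P ⟶ C) (v w : P) (h : w ⤳ v) :
    Nontrivial (Cyc.LocQuot v w h ⧸ fibJ g v w h) := by
  rw [Ideal.Quotient.nontrivial_iff]
  intro h1
  have := fibJ_le g v w h
  rw [h1, top_le_iff] at this
  exact (IsLocalRing.maximalIdeal.isMaximal _).ne_top this

theorem length_ne_zero (g : P ⟶ C) (v w : P) (h : w ⤳ v) :
    Module.length (P.presheaf.stalk v) (Cyc.LocQuot v w h ⧸ fibJ g v w h) ≠ 0 := by
  have := nontrivial_quot g v w h
  rw [Ne, Module.length_eq_zero_iff]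
  exact not_subsingleton _

/-- A point `z` between `w` and `v` at which the fibre ideal vanishes lies over `g v`. -/
theorem map_eq_of_le (g : P ⟶ C) {v z : P} (hz : z ⤳ v)
    (h : (IsLocalRing.maximalIdeal (C.presheaf.stalk (g v))).map (g.stalkMap v).hom ≤
      RingHom.ker (Cyc.specMap v z hz)) : g z = g v := by
  have h1 : g z ⤳ g v := hz.map g.continuous
  have h2 : IsLocalRing.maximalIdeal (C.presheaf.stalk (g v)) ≤
      RingHom.ker (Cyc.specMap (g v) (g z) h1) := by
    intro a ha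
    rw [mem_ker_specMap_iff]
    intro hu
    have h3 : (g.stalkMap v).hom a ∈ RingHom.ker (Cyc.specMap v z hz) :=
      h (Ideal.mem_map_of_mem _ ha)
    rw [mem_ker_specMap_iff] at h3
    apply h3
    have h5 : (P.presheaf.stalkSpecializes hz).hom ((g.stalkMap v).hom a) =
        (g.stalkMap z).hom ((C.presheaf.stalkSpecializes h1).hom a) :=
      (Scheme.Hom.stalkSpecializes_stalkMap_apply g z v hz a).symm
    rw [h5]
    exact hu.map _
  have h6 := (IsLocalRing.maximalIdeal.isMaximal (C.presheaf.stalk (g v))).eq_of_le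
    (ker_isPrime h1).ne_top h2
  rw [← ker_refl, ker_inj] at h6
  exact h6.symm

theorem krullDimLE (g : P ⟶ C) (v w : P) (h : w ⤳ v)
    (hiso : ∀ z, w ⤳ z → z ⤳ v → g z = g v → z = v) :
    Ring.KrullDimLE 0 (Cyc.LocQuot v w h ⧸ fibJ g v w h) := by
  rw [Ring.krullDimLE_zero_iff]
  intro Q hQ
  obtain ⟨z, hz, hwz, hQz⟩ := exists_comap_eq_ker h (Q.comap (Ideal.Quotient.mk (fibJ g v w h)))
  have h1 : g z = g v := by
    refine map_eq_of_le g hz ?_
    rw [← hQz, Ideal.map_le_iff_le_comap]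
    intro a ha
    rw [Ideal.mem_comap, Ideal.mem_comap, Ideal.mem_comap]
    have : (Ideal.Quotient.mk (fibJ g v w h)) ((Ideal.Quotient.mk
        (RingHom.ker (Cyc.specMap v w h))) ((g.stalkMap v).hom a)) = 0 := by
      rw [Ideal.Quotient.eq_zero_iff_mem]
      exact Ideal.mem_map_of_mem _ ha
    rw [this]
    exact Q.zero_mem
  have h2 := hiso z hwz hz h1
  subst h2
  have h3 : ((Q.comap (Ideal.Quotient.mk (fibJ g z w h))).comap
      (Ideal.Quotient.mk (RingHom.ker (Cyc.specMap z w h)))).IsMaximal := by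
    have e : RingHom.ker (Cyc.specMap z z hz) = IsLocalRing.maximalIdeal _ := ker_refl z
    have hQz' := hQz.trans e
    erw [hQz']
    infer_instance
  have h4 : (Q.comap (Ideal.Quotient.mk (fibJ g z w h))).IsMaximal := by
    have := Ideal.map_eq_top_or_isMaximal_of_surjective
      (Ideal.Quotient.mk (RingHom.ker (Cyc.specMap z w h))) Ideal.Quotient.mk_surjective h3
    rw [Ideal.map_comap_of_surjective _ Ideal.Quotient.mk_surjective] at this
    exact this.resolve_left (Ideal.comap_isPrime _ _).ne_top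
  have := Ideal.map_eq_top_or_isMaximal_of_surjective
    (Ideal.Quotient.mk (fibJ g z w h)) Ideal.Quotient.mk_surjective h4
  rw [Ideal.map_comap_of_surjective _ Ideal.Quotient.mk_surjective] at this
  exact this.resolve_left hQ.ne_top

theorem length_ne_top [IsLocallyNoetherian P] (g : P ⟶ C) (v w : P) (h : w ⤳ v)
    (hiso : ∀ z, w ⤳ z → z ⤳ v → g z = g v → z = v) :
    Module.length (P.presheaf.stalk v) (Cyc.LocQuot v w h ⧸ fibJ g v w h) ≠ ⊤ := by
  have := krullDimLE g v w h hiso
  have h0 : IsNoetherianRing (Cyc.LocQuot v w h ⧸ fibJ g v w h) :=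
    @Ideal.Quotient.isNoetherianRing (Cyc.LocQuot v w h) _ (isNoetherianRing_locQuot v w h) _
  have h1 : IsArtinianRing (Cyc.LocQuot v w h ⧸ fibJ g v w h) :=
    isArtinianRing_iff_krullDimLE_zero.mpr this
  rw [Module.length_ne_top_iff, isFiniteLength_iff_isNoetherian_isArtinian]
  refine ⟨inferInstance, ?_⟩
  have hs : Function.Surjective (algebraMap (P.presheaf.stalk v)
      (Cyc.LocQuot v w h ⧸ fibJ g v w h)) :=
    Ideal.Quotient.mk_surjective.comp Ideal.Quotient.mk_surjective
  exact isArtinian_of_surjective_algebraMap hs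

theorem fibreMult_ne_zero [IsLocallyNoetherian P] (g : P ⟶ C) (v w : P) (h : w ⤳ v)
    (hiso : ∀ z, w ⤳ z → z ⤳ v → g z = g v → z = v) :
    AlgEqCyc.fibreMult g v w h ≠ 0 := by
  rw [fibreMult_eq, Ne, ENat.toNat_eq_zero]
  push Not
  exact ⟨length_ne_zero g v w h, length_ne_top g v w h hiso⟩

end K952.Mult
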