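import Groth.Agent.ZCorr.K952.Basic

/-!
# Finite fibres of proper morphisms
-/

set_option autoImplicit false

universe u

open AlgebraicGeometry CategoryTheory CategoryTheory.Limits

namespace K952.QFin

variable {X Y Z : Scheme.{u}}

/-- A fibre is finite iff the morphism is quasi-finite at all its points. -/
theorem finite_fibre_iff (f : X ⟶ Y) [LocallyOfFiniteType f] [QuasiCompact f] (y : Y) :
    (f ⁻¹' {y}).Finite ↔ ∀ x, f x = y → f.QuasiFiniteAt x := by
  constructor
  · intro h
    have h1 : Finite (f.fiber y) := by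
      have : Finite (f ⁻¹' {y}) := h
      exact Finite.of_equiv _ (f.fiberHomeo y).symm.toEquiv
    have h0 : LocallyOfFiniteType (f.fiberToSpecResidueField y) :=
      inferInstanceAs (LocallyOfFiniteType (pullback.snd _ _))
    have h2 : LocallyQuasiFinite (f.fiberToSpecResidueField y) :=
      .of_finite_preimage_singleton _ fun x => Set.toFinite _
    rintro x rfl
    rw [Scheme.Hom.quasiFiniteAt_iff_isOpen_singleton_asFiber]
    have h3 : IsLocallyArtinian (f.fiber (f x)) :=
      .of_locallyQuasiFinite (f.fiberToSpecResidueField (f x))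
    exact isOpen_discrete _
  · intro h
    have h1 : ∀ z : f.fiber y, IsOpen ({z} : Set (f.fiber y)) := by
      intro z
      obtain ⟨x, hx⟩ : ∃ x, f.fiberι y z = x := ⟨_, rfl⟩
      have hxy : f x = y := by
        have := (f.range_fiberι y).le ⟨z, rfl⟩
        rw [← hx]
        exact this
      subst hxy
      have h2 := (Scheme.Hom.quasiFiniteAt_iff_isOpen_singleton_asFiber).mp (h x rfl)
      have h3 : f.asFiber x = z := by
        apply (f.fiberι (f x)).isEmbedding.injective
        rw [f.fiberι_asFiber, hx]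
      rwa [h3] at h2
    have h2 : DiscreteTopology (f.fiber y) := discreteTopology_iff_isOpen_singleton.mpr h1
    have h3 : CompactSpace (f.fiber y) := inferInstance
    have h4 : Finite (f.fiber y) := finite_of_compact_of_discrete
    have h5 : Finite (f ⁻¹' {y}) := Finite.of_equiv _ (f.fiberHomeo y).toEquiv
    exact h5

theorem isFinite_of_finite_fibres (f : X ⟶ Y) [IsProper f] (h : ∀ y, (f ⁻¹' {y}).Finite) :
    IsFinite f := by
  have : LocallyQuasiFinite f := .of_finite_preimage_singleton _ h
  exact .of_isProper_of_locallyQuasiFinite f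

/-- The open set of points of the target with finite fibre. -/
def finLocus (f : X ⟶ Y) [IsProper f] : Y.Opens where
  carrier := (f '' (f.quasiFiniteLocus : Set X)ᶜ)ᶜ
  is_open' := (f.isClosedMap _ f.quasiFiniteLocus.isOpen.isClosed_compl).isOpen_compl

theorem mem_finLocus (f : X ⟶ Y) [IsProper f] (y : Y) :
    y ∈ finLocus f ↔ (f ⁻¹' {y}).Finite := by
  rw [finite_fibre_iff]
  change y ∉ f '' (f.quasiFiniteLocus : Set X)ᶜ ↔ _
  constructor
  · intro h x hx
    by_contra h2
    exact h ⟨x, h2, hx⟩
  · rintro h ⟨x, hx, hxy⟩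
    exact hx (h x hxy)

theorem coe_finLocus (f : X ⟶ Y) [IsProper f] :
    (finLocus f : Set Y) = {y | (f ⁻¹' {y}).Finite} := by
  ext y
  exact mem_finLocus f y

theorem isFinite_restrict_finLocus (f : X ⟶ Y) [IsProper f] : IsFinite (f ∣_ finLocus f) := by
  apply isFinite_of_finite_fibres
  intro y
  have h := (mem_finLocus f y.1).mp y.2
  have h2 : ((f ∣_ finLocus f) ⁻¹' {y}) ⊆ (f ⁻¹ᵁ finLocus f).ι ⁻¹' (f ⁻¹' {y.1}) := by
    intro x hx
    have h3 : (f ∣_ finLocus f) x = y := hx
    change f ((f ⁻¹ᵁ finLocus f).ι x) = y.1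
    have h5 : f ((f ⁻¹ᵁ finLocus f).ι x) = (finLocus f).ι ((f ∣_ finLocus f) x) := by
      rw [← Scheme.Hom.comp_apply, ← Scheme.Hom.comp_apply, morphismRestrict_ι]
    rw [h5, h3]
    rfl
  exact (h.preimage (f ⁻¹ᵁ finLocus f).ι.isOpenEmbedding.injective.injOn).subset h2

open Basic

/-- A fibre over a point of dimension at least that of the (irreducible) source is contained in
the generic point. -/
theorem fibre_subset_genericPoint {k : Type u} [Field k] (f : X ⟶ Y)
    (q : Y ⟶ Spec (CommRingCat.of k)) [LocallyOfFiniteType f] [LocallyOfFiniteType q]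
    [IrreducibleSpace X] (y : Y) (h : dm (f ≫ q) (genericPoint X) ≤ dm q y) :
    f ⁻¹' {y} ⊆ {genericPoint X} := by
  intro x hx
  have hx' : f x = y := hx
  by_contra hne
  have h1 := dm_lt_of_specializes (f ≫ q) (genericPoint_specializes x) (fun e => hne e.symm)
  have h2 := dm_le_comp f q x
  rw [hx'] at h2
  omega

end K952.QFin
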