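import Groth.Agent.ZCorr.K952.EmbCount
import Groth.Agent.ZCorr.K952.QFin
import Groth.Agent.ZCorr.K952.Mult
import Groth.Agent.CycB.DivNat
import Groth.Agent.CycB.PushFinite
import Groth.Agent.CycA.ClosurePt

/-!
# Extension of points with values in a Galois extension of the function field
-/

set_option autoImplicit false
universe u

open CategoryTheory CategoryTheory.Limits AlgebraicGeometry IsLocalRing

namespace K952.ExtPt

open GalQuot EmbCount

variable {W P : Scheme.{u}} [IsIntegral W] (g : P ⟶ W) (L : Type u) [Field L]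
  [Algebra W.functionField L]

/-- The `L`-valued points of `P` over the generic `L`-valued point of `W`, located at `ξ`. -/
def PPt (ξ : P) : Type u :=
  {lam : Spec (CommRingCat.of L) ⟶ P // lam ≫ g = pt W L ∧ lam (closedPoint L) = ξ}

/-- The morphism `φ` extends the point `lam` to the normalization. -/
structure IsExt (φ : N W L ⟶ P) (lam : Spec (CommRingCat.of L) ⟶ P) : Prop where
  left : (pt W L).toNormalization ≫ φ = lam
  right : φ ≫ g = ν W L

variable {g L}

instance : IsReduced (N W L) := inferInstance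

theorem hom_unique [IsSeparated g] {φ φ' : N W L ⟶ P} (h1 : φ ≫ g = φ' ≫ g)
    (h2 : (pt W L).toNormalization ≫ φ = (pt W L).toNormalization ≫ φ') : φ = φ' :=
  ext_of_isDominant_of_isSeparated g h1 (pt W L).toNormalization h2

theorem IsExt.unique [IsSeparated g] {φ φ' : N W L ⟶ P} {lam : Spec (CommRingCat.of L) ⟶ P}
    (h : IsExt g L φ lam) (h' : IsExt g L φ' lam) : φ = φ' :=
  hom_unique (h.right.trans h'.right.symm) (h.left.trans h'.left.symm)

theorem IsExt.apply_mem_closure {φ : N W L ⟶ P} {lam : Spec (CommRingCat.of L) ⟶ P}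
    (h : IsExt g L φ lam) (x : N W L) : φ x ∈ closure {lam (closedPoint L)} := by
  have h1 : x ∈ closure (Set.range (pt W L).toNormalization) := by
    rw [(pt W L).toNormalization.denseRange.closure_range]
    trivial
  have h2 := image_closure_subset_closure_image φ.continuous ⟨x, h1, rfl⟩
  refine closure_mono ?_ h2
  rintro _ ⟨_, ⟨y, rfl⟩, rfl⟩
  have h3 : φ ((pt W L).toNormalization y) = lam y := by
    rw [← h.left]
    rfl
  rw [h3]
  have : y = closedPoint L := by
    have : Subsingleton (Spec (CommRingCat.of L)) :=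
      inferInstanceAs (Subsingleton (PrimeSpectrum L))
    exact Subsingleton.elim _ _
  rw [this]
  rfl

section closure

variable {Z : Scheme.{u}} [IsIntegral Z] (i : Z ⟶ P) [IsClosedImmersion i]

/-- Points of `Z` are points of `P`. -/
theorem exists_lift (lam : PPt g L (i (genericPoint Z))) :
    ∃ lam' : LPt (i ≫ g) L, lam'.1 ≫ i = lam.1 := by
  have hr : Set.range lam.1 ⊆ Set.range i := by
    rintro _ ⟨y, rfl⟩
    have : y = closedPoint L := by
      have : Subsingleton (Spec (CommRingCat.of L)) :=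
        inferInstanceAs (Subsingleton (PrimeSpectrum L))
      exact Subsingleton.elim _ _
    rw [this, lam.2.2]
    exact ⟨_, rfl⟩
  obtain ⟨l, hl⟩ := Groth.Agent.Ega1.ReducedSub.exists_factor_of_range_subset lam.1 i hr
  refine ⟨⟨l, ?_, ?_⟩, hl⟩
  · rw [← Category.assoc, hl, lam.2.1]
  · apply i.isEmbedding.injective
    rw [← lam.2.2, ← hl]
    rfl

/-- The comparison of points. -/
noncomputable def ptEquiv : LPt (i ≫ g) L ≃ PPt g L (i (genericPoint Z)) :=
  Equiv.ofBijective (fun lam => ⟨lam.1 ≫ i, by rw [Category.assoc, lam.2.1], by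
    have h1 : (lam.1 ≫ i) (closedPoint L) = i (lam.1 (closedPoint L)) := rfl
    rw [h1, lam.2.2]⟩) ⟨by
      intro a b hab
      have h1 : a.1 ≫ i = b.1 ≫ i := congrArg Subtype.val hab
      exact Subtype.ext ((cancel_mono i).1 h1), by
      intro lam
      obtain ⟨lam', h⟩ := exists_lift i lam
      exact ⟨lam', Subtype.ext h⟩⟩

theorem ptEquiv_val (lam : LPt (i ≫ g) L) : (ptEquiv i lam).1 = lam.1 ≫ i := rfl

theorem isExt_desc [IsIntegralHom (i ≫ g)] (lam : LPt (i ≫ g) L) :
    IsExt g L (desc (i ≫ g) lam.1 lam.2.1 ≫ i) (ptEquiv i lam).1 where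
  left := by rw [← Category.assoc, toN_desc, ptEquiv_val]
  right := by rw [Category.assoc, desc_h]

end closure

omit [IsIntegral W] in
theorem isFinite_comp [IsProper g] {Z : Scheme.{u}} (i : Z ⟶ P) [IsClosedImmersion i] {ξ : P}
    (hi : Set.range i = closure {ξ}) (hfin : ∀ w : W, (closure {ξ} ∩ g ⁻¹' {w}).Finite) :
    IsFinite (i ≫ g) := by
  apply QFin.isFinite_of_finite_fibres
  intro w
  have h1 : ((i ≫ g) ⁻¹' {w}) ⊆ i ⁻¹' (closure {ξ} ∩ g ⁻¹' {w}) := by
    intro z hz
    exact ⟨by rw [← hi]; exact ⟨z, rfl⟩, hz⟩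
  exact ((hfin w).preimage i.isEmbedding.injective.injOn).subset h1

/-- Every point extends to the normalization. -/
theorem exists_ext [IsProper g] {ξ : P} (hfin : ∀ w : W, (closure {ξ} ∩ g ⁻¹' {w}).Finite)
    (lam : PPt g L ξ) : ∃ φ : N W L ⟶ P, IsExt g L φ lam.1 := by
  obtain ⟨Z, i, _, _, hη, hi⟩ := Groth.Agent.CycA.ClosurePt.exists_closure_subscheme ξ
  subst hη
  have := isFinite_comp i hi hfin
  have h1 := isExt_desc i ((ptEquiv i).symm lam)
  rw [Equiv.apply_symm_apply] at h1
  exact ⟨_, h1⟩

theorem length_ringEquiv {R S : Type u} [CommRing R] [CommRing S] (e : R ≃+* S) :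
    Module.length R R = Module.length S S := by
  let _ : Algebra R S := e.toRingHom.toAlgebra
  have h1 : Module.length R S = Module.length S S :=
    Module.length_eq_of_surjective (S := R) (R := S) (M := S) e.surjective
  rw [← h1]
  let e' : R ≃ₗ[R] S :=
    { e.toAddEquiv with
      map_smul' := fun a b => by
        change e (a * b) = e a * e b
        exact map_mul e a b }
  exact e'.length_eq

section mult

open Groth.Agent.CycB

variable {W' Z : Scheme.{u}} [IsIntegral Z] (i : Z ⟶ P) [IsClosedImmersion i] (g' : P ⟶ W')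
  (z : Z)

/-- The local ring of `Z`. -/
noncomputable def eqv : Cyc.LocQuot (i z) (i (genericPoint Z))
    ((genericPoint_specializes z).map i.continuous) ≃+* Z.presheaf.stalk z :=
  (DivNat.locQuotEquiv i z (genericPoint Z) (genericPoint_specializes z)).trans
    (PushFinite.stalkEquivLocQuot rfl (genericPoint_specializes z)).symm

theorem eqv_mk (a : P.presheaf.stalk (i z)) :
    eqv i z (Ideal.Quotient.mk _ a) = (i.stalkMap z).hom a := by
  unfold eqv
  rw [RingEquiv.trans_apply, DivNat.locQuotEquiv_mk, RingEquiv.symm_apply_eq]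
  rfl

omit [IsIntegral Z] [IsClosedImmersion i] in
theorem stalkMap_hom : ((i ≫ g').stalkMap z).hom =
    (i.stalkMap z).hom.comp (g'.stalkMap (i z)).hom := by
  rw [Scheme.Hom.stalkMap_comp]
  rfl

theorem eqv_comp : ((eqv i z).toRingHom.comp
    ((Ideal.Quotient.mk (RingHom.ker (Cyc.specMap (i z) (i (genericPoint Z))
      ((genericPoint_specializes z).map i.continuous)))).comp (g'.stalkMap (i z)).hom)) =
    ((i ≫ g').stalkMap z).hom := by
  rw [stalkMap_hom]
  ext x
  exact eqv_mk i z _

theorem map_fibJ : (Mult.fibJ g' (i z) (i (genericPoint Z))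
    ((genericPoint_specializes z).map i.continuous)).map (eqv i z).toRingHom =
      (maximalIdeal (W'.presheaf.stalk ((i ≫ g') z))).map ((i ≫ g').stalkMap z).hom := by
  unfold Mult.fibJ
  rw [Ideal.map_map, eqv_comp]
  rfl

theorem fibreMult_eq_length :
    AlgEqCyc.fibreMult g' (i z) (i (genericPoint Z))
      ((genericPoint_specializes z).map i.continuous) =
      (Module.length (Z.presheaf.stalk z ⧸
          (maximalIdeal (W'.presheaf.stalk ((i ≫ g') z))).map ((i ≫ g').stalkMap z).hom)
        (Z.presheaf.stalk z ⧸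
          (maximalIdeal (W'.presheaf.stalk ((i ≫ g') z))).map ((i ≫ g').stalkMap z).hom)).toNat := by
  rw [Mult.fibreMult_eq]
  congr 1
  have h1 : Module.length (P.presheaf.stalk (i z)) (Cyc.LocQuot (i z) (i (genericPoint Z))
      ((genericPoint_specializes z).map i.continuous) ⧸ Mult.fibJ g' (i z) (i (genericPoint Z))
      ((genericPoint_specializes z).map i.continuous)) =
      Module.length (Cyc.LocQuot (i z) (i (genericPoint Z))
      ((genericPoint_specializes z).map i.continuous) ⧸ Mult.fibJ g' (i z) (i (genericPoint Z))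
      ((genericPoint_specializes z).map i.continuous)) (Cyc.LocQuot (i z) (i (genericPoint Z))
      ((genericPoint_specializes z).map i.continuous) ⧸ Mult.fibJ g' (i z) (i (genericPoint Z))
      ((genericPoint_specializes z).map i.continuous)) := by
    apply Module.length_eq_of_surjective
    exact Ideal.Quotient.mk_surjective.comp Ideal.Quotient.mk_surjective
  rw [h1]
  exact length_ringEquiv (Ideal.quotientEquiv _ _ (eqv i z) (map_fibJ i g' z).symm)

theorem flat_of_flat
    (h : ((Ideal.Quotient.mk (RingHom.ker (Cyc.specMap (i z) (i (genericPoint Z))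
      ((genericPoint_specializes z).map i.continuous)))).comp (g'.stalkMap (i z)).hom).Flat) :
    ((i ≫ g').stalkMap z).hom.Flat := by
  have h1 : (eqv i z).toRingHom.Flat :=
    RingHom.Flat.of_bijective (f := (eqv i z).toRingHom) (eqv i z).bijective
  have h2 := h.comp h1
  rw [eqv_comp] at h2
  exact h2

end mult

section card

variable [FiniteDimensional W.functionField L]
  [IsGalois W.functionField L] {k : Type u} [Field k] [IsAlgClosed k] [CharZero k]
  (qW : W ⟶ Spec (CommRingCat.of k)) (u' : Spec (CommRingCat.of k) ⟶ N W L)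
  (hu' : (u' ≫ ν W L) ≫ qW = 𝟙 _)

include hu' in
/-- The number of conjugates specializing to a given point is the multiplicity of the fibre. -/
theorem card_eq [IsProper g] {ξ : P} (hξ : g ξ = genericPoint W)
    (hfin : ∀ w : W, (closure {ξ} ∩ g ⁻¹' {w}).Finite)
    (v : P) (hv : g v = (u' ≫ ν W L) (closedPoint k)) (hs : ξ ⤳ v)
    (hflat : ∀ (z : P) (h : ξ ⤳ z), g z = g v →
      ((Ideal.Quotient.mk (RingHom.ker (Cyc.specMap z ξ h))).comp (g.stalkMap z).hom).Flat)
    (hne : Nonempty (PPt g L ξ)) (φ : PPt g L ξ → (N W L ⟶ P))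
    (hφ : ∀ lam, IsExt g L (φ lam) lam.1) :
    Nat.card {lam : PPt g L ξ // (u' ≫ φ lam) (closedPoint k) = v} =
      AlgEqCyc.fibreMult g v ξ hs := by
  obtain ⟨Z, i, _, _, hη, hi⟩ := Groth.Agent.CycA.ClosurePt.exists_closure_subscheme ξ
  subst hη
  obtain ⟨z, rfl⟩ : v ∈ Set.range i := by
    rw [hi]
    exact hs.mem_closure
  have hfinite := isFinite_comp i hi hfin
  have h1 := fibreMult_eq_length i g z
  rw [h1, ← EmbCount.card_eq (i ≫ g) hξ qW u' hu' z hv (fun z' hz' => flat_of_flat i g z'
    (hflat (i z') ((genericPoint_specializes z').map i.continuous) hz'))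
    ⟨(ptEquiv i).symm hne.some⟩]
  refine Nat.card_congr (Equiv.subtypeEquiv (ptEquiv i) fun lam => ?_).symm
  have h2 : φ (ptEquiv i lam) = desc (i ≫ g) lam.1 lam.2.1 ≫ i :=
    (hφ _).unique (isExt_desc i lam)
  rw [h2]
  have h3 : (u' ≫ desc (i ≫ g) lam.1 lam.2.1 ≫ i) (closedPoint k) =
      i ((u' ≫ desc (i ≫ g) lam.1 lam.2.1) (closedPoint k)) := rfl
  rw [h3]
  exact (i.isEmbedding.injective.eq_iff).symm

omit [FiniteDimensional W.functionField L] [IsGalois W.functionField L] [IsAlgClosed k]
  [CharZero k] in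
theorem card_eq_zero {ξ v : P} (hs : ¬ ξ ⤳ v) (φ : PPt g L ξ → (N W L ⟶ P))
    (hφ : ∀ lam, IsExt g L (φ lam) lam.1) :
    Nat.card {lam : PPt g L ξ // (u' ≫ φ lam) (closedPoint k) = v} = 0 := by
  have : IsEmpty {lam : PPt g L ξ // (u' ≫ φ lam) (closedPoint k) = v} := by
    refine ⟨fun lam => hs ?_⟩
    have h1 := (hφ lam.1).apply_mem_closure (u' (closedPoint k))
    rw [lam.1.2.2] at h1
    have h2 : φ lam.1 (u' (closedPoint k)) = v := lam.2
    rw [h2] at h1
    exact specializes_iff_mem_closure.2 h1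
  exact Nat.card_of_isEmpty

end card

end K952.ExtPt
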