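import Groth.Agent.ZCorr.K952.Basic
import Groth.Agent.ZCorr.K952.ExtPt
import Groth.Agent.Sga2lef.H134.DimCl
import Groth.Agent.S1535
import Groth.Agent.S2821

/-!
# Normality of smooth schemes, and dimensions of finite correspondences
-/

set_option autoImplicit false
universe u

open CategoryTheory CategoryTheory.Limits AlgebraicGeometry IsLocalRing

namespace K952.SymDim

open Basic ExtPt

theorem isIntegrallyClosed_stalk {k : Type u} [Field k] {W : Scheme.{u}}
    (q : W ⟶ Spec (CommRingCat.of k)) [Smooth q] (x : W) :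
    IsIntegrallyClosed (W.presheaf.stalk x) := by
  let _ : W.Over (Spec (CommRingCat.of k)) := ⟨q⟩
  have hs : Smooth (W ↘ Spec (CommRingCat.of k)) := ‹Smooth q›
  have h1 : IsRegularLocalRing (W.presheaf.stalk x) := Groth.Agent.S1535.result k W x
  obtain ⟨h2, h3⟩ := Groth.Agent.S2821.result (W.presheaf.stalk x)
  infer_instance

variable {k : Type u} [Field k] {P W : Scheme.{u}} (g : P ⟶ W) (q : W ⟶ Spec (CommRingCat.of k))
  [LocallyOfFiniteType q] [IsProper g]

/-- A point whose closure is finite over the base has the dimension of its image. -/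
theorem dm_eq {ξ : P} (hfin : ∀ w : W, (closure {ξ} ∩ g ⁻¹' {w}).Finite) :
    dm (g ≫ q) ξ = dm q (g ξ) := by
  obtain ⟨Z, i, _, _, hη, hi⟩ := Groth.Agent.CycA.ClosurePt.exists_closure_subscheme ξ
  subst hη
  have := isFinite_comp i hi hfin
  have h1 := dm_comp_eq (i ≫ g) q (genericPoint Z)
  rw [Groth.Agent.Sga2lef.H134.DimCl.rtd_eq_zero_of_isIntegralHom, Cardinal.zero_toNat,
    add_zero, Category.assoc, dm_comp_of_isPreimmersion i] at h1
  exact h1

theorem eq_genericPoint [IsIntegral W] {n : ℕ} (hn : topologicalKrullDim W = n) {ξ : P}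
    (hfin : ∀ w : W, (closure {ξ} ∩ g ⁻¹' {w}).Finite) (hd : dm (g ≫ q) ξ = n) :
    g ξ = genericPoint W := by
  by_contra h
  have h1 := dm_lt_of_specializes q (genericPoint_specializes (g ξ)) (fun e => h e.symm)
  rw [dm_genericPoint q hn, ← dm_eq g q hfin, hd] at h1
  omega

end K952.SymDim
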