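import Groth.Agent.ZCorr.K952.FamCount
import Groth.Agent.S2925
import Groth.Prelude.Def_W4c5zerocyclessurfSym

/-!
# Families of effective zero-cycles and morphisms to symmetric products
-/

set_option autoImplicit false
universe u

open CategoryTheory CategoryTheory.Limits AlgebraicGeometry IsLocalRing AlgEqCyc

namespace K952.SymFam

open GalQuot EmbCount ExtPt GalExist FamCount

variable {k : Type u} [Field k] [IsAlgClosed k] [CharZero k] {X W : Scheme.{u}}
  (p : X ⟶ Spec (CommRingCat.of k)) (q : W ⟶ Spec (CommRingCat.of k))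

omit [CharZero k] in
theorem exists_pt [LocallyOfFiniteType q] [Nonempty W] [CompactSpace W] :
    ∃ u : Spec (CommRingCat.of k) ⟶ W, u ≫ q = 𝟙 _ := by
  obtain ⟨x, -, hx⟩ := IsClosed.exists_closed_singleton (X := W) isClosed_univ Set.univ_nonempty
  obtain ⟨t, ht, -⟩ := FibCycle.exists_rational_point q hx
  exact ⟨t, ht⟩

theorem main [IsProper p] [LocallyOfFiniteType q] [IsIntegral W] [CompactSpace W]
    (hW : ∀ x : W, IsIntegrallyClosed (W.presheaf.stalk x)) (d : ℕ) {Sy : Scheme.{u}}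
    (qs : SymProd.fibPow p d ⟶ Sy) (gs : Sy ⟶ Spec (CommRingCat.of k))
    (hS : SymProd.IsSymProd p d qs gs) (Γ : AlgebraicCycle (pullback p q) ℤ)
    (hΓ0 : ∀ ξ, 0 ≤ Γ ξ)
    (hgen : ∀ ξ, Γ ξ ≠ 0 → pullback.snd p q ξ = genericPoint W)
    (hfin : ∀ ξ, Γ ξ ≠ 0 → ∀ w : W, (closure {ξ} ∩ pullback.snd p q ⁻¹' {w}).Finite)
    (hflat : ∀ ξ, Γ ξ ≠ 0 → ∀ (z : ↥(pullback p q)) (h : ξ ⤳ z),
      ((Ideal.Quotient.mk (RingHom.ker (Cyc.specMap z ξ h))).comp
        ((pullback.snd p q).stalkMap z).hom).Flat)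
    (hdeg : ∀ (u : Spec (CommRingCat.of k) ⟶ W) (hu : u ≫ q = 𝟙 _),
      ∑ᶠ x, fibreFun p q Γ u hu x = (d : ℤ)) :
    ∃ F : W ⟶ Sy, F ≫ gs = q ∧
      ∀ (u : Spec (CommRingCat.of k) ⟶ W) (hu : u ≫ q = 𝟙 _),
        ZCorr.IsCycleOfSymPt p d qs (u ≫ F) (fibreFun p q Γ u hu) := by
  classical
  have hchar : CharZero W.functionField := charZero_functionField q
  have hcompP : CompactSpace ↥(pullback p q) := by
    have h1 : QuasiCompact (pullback.snd p q) := inferInstance
    exact QuasiCompact.compactSpace_of_compactSpace (pullback.snd p q)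
  have hfs : (Function.support ⇑Γ).Finite := FibCycle.finite_support Γ
  have : Finite {w : ↥(pullback p q) // Γ w ≠ 0} := hfs
  obtain ⟨L, _, _, hLfd, hLgal, hne'⟩ := exists_galois_ppt (pullback.snd p q)
    (fun w : {w : ↥(pullback p q) // Γ w ≠ 0} => w.1) (fun w => hgen w.1 w.2)
    (fun w => hfin w.1 w.2)
  have hne : ∀ ξ, Γ ξ ≠ 0 → Nonempty (PPt (pullback.snd p q) L ξ) := fun ξ h => hne' ⟨ξ, h⟩
  have hfinite : ∀ w, Γ w ≠ 0 → Finite (PPt (pullback.snd p q) L w) := fun w h =>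
    finite_ppt (pullback.snd p q) L (hfin w h)
  -- the extensions
  have hext : ∀ (w : ↥(pullback p q)) (lam : PPt (pullback.snd p q) L w),
      ∃ φ : N W L ⟶ pullback p q, Γ w ≠ 0 → IsExt (pullback.snd p q) L φ lam.1 := by
    intro w lam
    by_cases h : Γ w = 0
    · have : Nonempty ↥(pullback p q) := ⟨w⟩
      obtain ⟨t, ht⟩ := exists_pt (pullback.snd p q ≫ q)
      exact ⟨ν W L ≫ q ≫ t, fun h' => absurd h h'⟩
    · obtain ⟨φ, hφ⟩ := exists_ext (hfin w h) lam
      exact ⟨φ, fun _ => hφ⟩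
  choose φ hφ' using hext
  have hφ : ∀ w, Γ w ≠ 0 → ∀ lam, IsExt (pullback.snd p q) L (φ w lam) lam.1 :=
    fun w h lam => hφ' w lam h
  have hν := isQuot_ν (L := L) W hW
  have hνs := Groth.Agent.Sga1.QuotBasic.surjective_of_isQuot hν
  -- counting
  have hcount : ∀ (u : Spec (CommRingCat.of k) ⟶ W) (hu : u ≫ q = 𝟙 _)
      (u' : Spec (CommRingCat.of k) ⟶ N W L) (_ : u' ≫ ν W L = u) (x : X),
      fibreFun p q Γ u hu x = (Nat.card {i : Idx p q Γ L //
        (u' ≫ φ i.1.1 i.2.2 ≫ pullback.fst p q) (closedPoint k) = x} : ℤ) := by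
    intro u hu u' huu x
    rw [fibreFun_eq p q Γ φ u' u huu hu hφ hgen hfin (fun ξ h z h' _ => hflat ξ h z h') hne x,
      ← card_idx p q Γ φ u' hfs hΓ0 hfinite]
    congr 1
    refine Nat.card_congr (Equiv.subtypeEquivRight fun i => ?_)
    exact apply_eq_slice_iff p q u' u huu hu (hφ i.1.1 i.1.2 i.2.2).right x
  have hIfin : Finite (Idx p q Γ L) := by
    have : ∀ w : {w : ↥(pullback p q) // Γ w ≠ 0}, Finite (Fin (Γ w.1).toNat ×
        PPt (pullback.snd p q) L w.1) := by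
      intro w
      have := hfinite w.1 w.2
      infer_instance
    exact inferInstanceAs (Finite (Σ w : {w : ↥(pullback p q) // Γ w ≠ 0},
      Fin (Γ w.1).toNat × PPt (pullback.snd p q) L w.1))
  have hcard : Nat.card (Idx p q Γ L) = d := by
    obtain ⟨u, hu⟩ := exists_pt q
    obtain ⟨u', hu'⟩ := LiftPt.exists_lift (ν W L) hνs u
    have h1 := hdeg u hu
    rw [finsum_congr (hcount u hu u' hu')] at h1
    rw [LiftPt.finsum_card_fiber (fun i : Idx p q Γ L =>
        (u' ≫ φ i.1.1 i.2.2 ≫ pullback.fst p q) (closedPoint k))] at h1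
    exact_mod_cast h1
  let e : Fin d ≃ Idx p q Γ L := (finCongr hcard.symm).trans (Finite.equivFin _).symm
  -- the morphism to the fibre power
  let comp : Fin d → (N W L ⟶ X) := fun i => φ (e i).1.1 (e i).2.2 ≫ pullback.fst p q
  have hcomp : ∀ i, comp i ≫ p = ν W L ≫ q := by
    intro i
    change (φ (e i).1.1 (e i).2.2 ≫ pullback.fst p q) ≫ p = _
    rw [Category.assoc, pullback.condition, ← Category.assoc,
      (hφ (e i).1.1 (e i).1.2 (e i).2.2).right]
  let Φ : N W L ⟶ SymProd.fibPow p d := WidePullback.lift (ν W L ≫ q) comp hcomp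
  have hΦπ : ∀ i, Φ ≫ WidePullback.π _ i = comp i := fun i =>
    WidePullback.lift_π _ _ _ _ i
  have hΦb : Φ ≫ WidePullback.base _ = ν W L ≫ q := WidePullback.lift_base _ _ _ _
  -- equivariance
  let act : (L ≃ₐ[W.functionField] L) → Idx p q Γ L → Idx p q Γ L := fun σ i =>
    ⟨i.1, i.2.1, gal (pullback.snd p q) σ i.2.2⟩
  have hact_inj : ∀ σ, Function.Injective (act σ) := by
    rintro σ ⟨w, a, lam⟩ ⟨w', a', lam'⟩ h
    have h1 : w = w' := congrArg Sigma.fst h
    subst h1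
    have h2 := eq_of_heq (Sigma.mk.inj h).2
    have h3 : a = a' := congrArg Prod.fst h2
    have h4 : gal (pullback.snd p q) σ lam = gal (pullback.snd p q) σ lam' := congrArg Prod.snd h2
    have h5 : lam = lam' := by
      apply Subtype.ext
      have h6 : sp W σ ≫ lam.1 = sp W σ ≫ lam'.1 := congrArg Subtype.val h4
      have h7 : sp W σ⁻¹ ≫ sp W σ = 𝟙 _ := by
        rw [← sp_mul, inv_mul_cancel, sp_one]
      rw [← Category.id_comp lam.1, ← h7, Category.assoc, h6, ← Category.assoc, h7,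
        Category.id_comp]
    rw [h3, h5]
  let actE : (L ≃ₐ[W.functionField] L) → Equiv.Perm (Idx p q Γ L) := fun σ =>
    Equiv.ofBijective (act σ) (Finite.injective_iff_bijective.1 (hact_inj σ))
  let perm : (L ≃ₐ[W.functionField] L) → Equiv.Perm (Fin d) := fun σ =>
    (e.trans (actE σ)).trans e.symm
  have hequiv : ∀ (σ : L ≃ₐ[W.functionField] L) (i : Fin d),
      r W σ ≫ comp i = comp (perm σ i) := by
    intro σ i
    have h1 : e (perm σ i) = act σ (e i) := by
      change e (e.symm (actE σ (e i))) = _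
      rw [Equiv.apply_symm_apply]
      rfl
    have h2 : r W σ ≫ φ (e i).1.1 (e i).2.2 = φ (act σ (e i)).1.1 (act σ (e i)).2.2 :=
      (isExt_gal (pullback.snd p q) σ (hφ (e i).1.1 (e i).1.2 (e i).2.2)).unique
        (hφ (act σ (e i)).1.1 (act σ (e i)).1.2 (act σ (e i)).2.2)
    change r W σ ≫ φ (e i).1.1 (e i).2.2 ≫ pullback.fst p q =
      φ (e (perm σ i)).1.1 (e (perm σ i)).2.2 ≫ pullback.fst p q
    rw [h1, ← Category.assoc, h2]
  have hΦr : ∀ σ : L ≃ₐ[W.functionField] L, r W σ ≫ Φ = Φ ≫ SymProd.permHom p d (perm σ).symm := by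
    intro σ
    apply WidePullback.hom_ext
    · intro i
      rw [Category.assoc, hΦπ, hequiv, Category.assoc, SymProd.permHom_π, hΦπ]
      rfl
    · rw [Category.assoc, hΦb, Category.assoc, SymProd.permHom_base, hΦb, ← Category.assoc, r_ν]
  have hinv : ∀ γ : L ≃ₐ[W.functionField] L, (ρ W γ).hom ≫ (Φ ≫ qs) = Φ ≫ qs := by
    intro γ
    rw [ρ_hom, ← Category.assoc, hΦr, Category.assoc]
    congr 1
    exact hS.isQuot.inv ⟨(perm γ⁻¹).symm⟩
  obtain ⟨F, hF, -⟩ := Groth.Agent.S2925.result (ρ W) (ν W L) hν Sy (Φ ≫ qs) hinv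
  refine ⟨F, ?_, ?_⟩
  · obtain ⟨_, -, huniq⟩ := Groth.Agent.S2925.result (ρ W) (ν W L) hν _ (ν W L ≫ q)
      (fun γ => by rw [← Category.assoc, inv])
    have h1 : ν W L ≫ F ≫ gs = ν W L ≫ q := by
      rw [← Category.assoc, hF, Category.assoc, hS.over, hΦb]
    exact (huniq (F ≫ gs) h1).trans (huniq q rfl).symm
  · intro u hu
    obtain ⟨u', hu'⟩ := LiftPt.exists_lift (ν W L) hνs u
    refine ⟨u' ≫ Φ, ?_, fun x => ?_⟩
    · rw [Category.assoc, ← hF, ← Category.assoc, hu']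
    · rw [hcount u hu u' hu' x]
      congr 1
      refine (Nat.card_congr (Equiv.subtypeEquiv e fun i => ?_)).symm
      rw [Category.assoc, hΦπ]

end K952.SymFam
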