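import Groth.Agent.ZCorr.K952.FamCount
import Groth.Agent.ZCorr.K952.FibPow
import Groth.Agent.ZCorr.K952.SymDim
import Groth.Agent.ZCorr.K952.SymFam
import Groth.Agent.CycA.MovRatZ
import Groth.Prelude.Def_W4c5zerocyclessurfSym

/-!
# The correspondence attached to a morphism to a symmetric product
-/

set_option autoImplicit false
universe u

open CategoryTheory CategoryTheory.Limits AlgebraicGeometry IsLocalRing AlgEqCyc

namespace K952.SymCorr

open GalQuot EmbCount ExtPt GalExist FamCount Basic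

theorem exists_equiv_of_fibres {A B J : Type*} (f : A → J) (g : B → J)
    (h : ∀ j, Nonempty ({a // f a = j} ≃ {b // g b = j})) : ∃ e : A ≃ B, ∀ a, g (e a) = f a := by
  refine ⟨(Equiv.sigmaFiberEquiv f).symm.trans ((Equiv.sigmaCongrRight fun j => (h j).some).trans
    (Equiv.sigmaFiberEquiv g)), fun a => ?_⟩
  exact ((h (f a)).some ⟨a, rfl⟩).2

section lift

variable {k : Type u} [Field k] [IsAlgClosed k] [CharZero k] {X W : Scheme.{u}}
  (p : X ⟶ Spec (CommRingCat.of k)) (q : W ⟶ Spec (CommRingCat.of k)) [IsProper p]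
  [LocallyOfFiniteType q] [IsIntegral W]
  (d : ℕ) {Sy : Scheme.{u}} (qs : SymProd.fibPow p d ⟶ Sy) (gs : Sy ⟶ Spec (CommRingCat.of k))
  (hS : SymProd.IsSymProd p d qs gs) (F : W ⟶ Sy)

include hS q in
/-- The generic point of `F` lifts to the fibre power over a finite Galois extension, and the
lift extends to the normalization. -/
theorem exists_lift : ∃ (L : Type u) (_ : Field L) (_ : Algebra W.functionField L)
    (_ : FiniteDimensional W.functionField L) (_ : IsGalois W.functionField L)
    (Φ : N W L ⟶ SymProd.fibPow p d), Φ ≫ qs = ν W L ≫ F := by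
  have hchar : CharZero W.functionField := charZero_functionField q
  have hint : IsIntegralHom qs := Groth.Agent.Sga1.QuotBasic.isIntegralHom_of_isQuot hS.isQuot
  have hlft : LocallyOfFiniteType qs := by
    have h1 : LocallyOfFiniteType (qs ≫ gs) := by
      rw [hS.over]
      infer_instance
    exact locallyOfFiniteType_of_comp qs gs
  have hfin : IsFinite qs := (IsFinite.iff_isIntegralHom_and_locallyOfFiniteType qs).2 ⟨hint, hlft⟩
  obtain ⟨y, hy⟩ := Groth.Agent.Sga1.QuotBasic.surjective_of_isQuot hS.isQuot (F (genericPoint W))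
  obtain ⟨e, -, he⟩ := Scheme.Pullback.exists_preimage_pullback (f := qs) (g := F) y
    (genericPoint W) hy
  have hff : ∀ w : W, (pullback.snd qs F ⁻¹' {w}).Finite := fun w =>
    (pullback.snd qs F).finite_preimage_singleton w
  obtain ⟨L, h1, h2, h3, h4, h5⟩ := exists_galois_ppt (pullback.snd qs F) (fun _ : Unit => e)
    (fun _ => he) (fun _ w => (hff w).subset Set.inter_subset_right)
  obtain ⟨lam⟩ := h5 ()
  obtain ⟨Ψ, hΨ⟩ := exists_ext (fun w => (hff w).subset Set.inter_subset_right) lam
  refine ⟨L, h1, h2, h3, h4, Ψ ≫ pullback.fst qs F, ?_⟩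
  rw [Category.assoc, pullback.condition, ← Category.assoc, hΨ.right]

end lift

section corr

variable {k : Type u} [Field k] [IsAlgClosed k] [CharZero k] {X W : Scheme.{u}}
  (p : X ⟶ Spec (CommRingCat.of k)) (q : W ⟶ Spec (CommRingCat.of k)) [IsProper p]
  [LocallyOfFiniteType q] [IsIntegral W]
  (d : ℕ) {Sy : Scheme.{u}} (qs : SymProd.fibPow p d ⟶ Sy) (gs : Sy ⟶ Spec (CommRingCat.of k))
  (hS : SymProd.IsSymProd p d qs gs) (F : W ⟶ Sy) (hF : F ≫ gs = q)
  {L : Type u} [Field L] [Algebra W.functionField L] [FiniteDimensional W.functionField L]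
  [IsGalois W.functionField L] (Φ : N W L ⟶ SymProd.fibPow p d) (hΦ : Φ ≫ qs = ν W L ≫ F)

omit [IsAlgClosed k] [CharZero k] [IsProper p] [LocallyOfFiniteType q]
  [FiniteDimensional W.functionField L] [IsGalois W.functionField L] in
include hS hF hΦ in
theorem Φ_base : Φ ≫ WidePullback.base _ = ν W L ≫ q := by
  rw [← hS.over, ← Category.assoc, hΦ, Category.assoc, hF]

/-- The components of the lift as morphisms to the product. -/
noncomputable def cmp (i : Fin d) : N W L ⟶ pullback p q :=
  pullback.lift (Φ ≫ WidePullback.π _ i) (ν W L) (by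
    rw [Category.assoc, WidePullback.π_arrow, Φ_base p q d qs gs hS F hF Φ hΦ])

local notation "cm" => cmp p q d qs gs hS F hF Φ hΦ

omit [IsAlgClosed k] [CharZero k] [IsProper p] [LocallyOfFiniteType q]
  [FiniteDimensional W.functionField L] [IsGalois W.functionField L] in
theorem cmp_fst (i : Fin d) : cm i ≫ pullback.fst p q = Φ ≫ WidePullback.π _ i := by
  unfold cmp
  rw [pullback.lift_fst]

omit [IsAlgClosed k] [CharZero k] [IsProper p] [LocallyOfFiniteType q]
  [FiniteDimensional W.functionField L] [IsGalois W.functionField L] in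
theorem cmp_snd (i : Fin d) : cm i ≫ pullback.snd p q = ν W L := by
  unfold cmp
  rw [pullback.lift_snd]

/-- The generic values of the components. -/
noncomputable def gp (i : Fin d) : Spec (CommRingCat.of L) ⟶ pullback p q :=
  (pt W L).toNormalization ≫ cm i

local notation "gpt" => gp p q d qs gs hS F hF Φ hΦ

omit [IsAlgClosed k] [CharZero k] [IsProper p] [LocallyOfFiniteType q]
  [FiniteDimensional W.functionField L] [IsGalois W.functionField L] in
theorem gp_snd (i : Fin d) : gpt i ≫ pullback.snd p q = pt W L := by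
  unfold gp
  rw [Category.assoc, cmp_snd, Scheme.Hom.toNormalization_fromNormalization]

/-- The point of the product. -/
noncomputable def gx (i : Fin d) : ↥(pullback p q) := gpt i (closedPoint L)

local notation "gxx" => gx p q d qs gs hS F hF Φ hΦ

/-- The point as a point over the generic point. -/
noncomputable def gl (i : Fin d) : PPt (pullback.snd p q) L (gxx i) :=
  ⟨gpt i, gp_snd p q d qs gs hS F hF Φ hΦ i, rfl⟩

omit [IsAlgClosed k] [CharZero k] [IsProper p] [LocallyOfFiniteType q]
  [FiniteDimensional W.functionField L] [IsGalois W.functionField L] in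
theorem isExt_cmp (i : Fin d) : IsExt (pullback.snd p q) L (cm i) (gpt i) :=
  ⟨rfl, cmp_snd p q d qs gs hS F hF Φ hΦ i⟩

omit [IsAlgClosed k] [CharZero k] [IsProper p] [LocallyOfFiniteType q]
  [FiniteDimensional W.functionField L] [IsGalois W.functionField L] in
/-- The Galois group permutes the generic values. -/
theorem exists_perm (σ : L ≃ₐ[W.functionField] L) :
    ∃ π : Equiv.Perm (Fin d), ∀ i, sp W σ ≫ gpt i = gpt (π i) := by
  have h1 : (sp W σ ≫ (pt W L).toNormalization ≫ Φ) ≫ qs =
      ((pt W L).toNormalization ≫ Φ) ≫ qs := by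
    rw [Category.assoc, Category.assoc, hΦ,
      Scheme.Hom.toNormalization_fromNormalization_assoc, ← Category.assoc, sp_pt]
  obtain ⟨g, hg⟩ := Groth.Agent.Sga1.Transit.exists_comp_eq hS.isQuot _ _ h1
  refine ⟨g.down.symm, fun i => ?_⟩
  apply pullback.hom_ext
  · unfold gp
    rw [Category.assoc, Category.assoc, cmp_fst, Category.assoc, cmp_fst]
    have h2 := congr($hg ≫ WidePullback.π _ i)
    simp only [Category.assoc] at h2
    rw [h2, SymProd.permActU_hom, SymProd.permHom_π]
  · rw [Category.assoc, gp_snd, gp_snd, sp_pt]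

/-- The multiplicity of a point. -/
noncomputable def mlt (lam : Spec (CommRingCat.of L) ⟶ pullback p q) : ℕ :=
  Nat.card {i : Fin d // gpt i = lam}

omit [IsAlgClosed k] [CharZero k] [IsProper p] [LocallyOfFiniteType q]
  [FiniteDimensional W.functionField L] [IsGalois W.functionField L] in
theorem mlt_sp (σ : L ≃ₐ[W.functionField] L) (lam : Spec (CommRingCat.of L) ⟶ pullback p q) :
    mlt p q d qs gs hS F hF Φ hΦ (sp W σ ≫ lam) = mlt p q d qs gs hS F hF Φ hΦ lam := by
  obtain ⟨π, hπ⟩ := exists_perm p q d qs gs hS F hF Φ hΦ σ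
  unfold mlt
  refine (Nat.card_congr (Equiv.subtypeEquiv π fun i => ?_)).symm
  rw [← hπ]
  have h7 : sp W σ⁻¹ ≫ sp W σ = 𝟙 _ := by
    rw [← sp_mul, inv_mul_cancel, sp_one]
  constructor
  · intro h
    rw [h]
  · intro h
    have h8 := congr(sp W σ⁻¹ ≫ $h)
    rw [← Category.assoc, h7, Category.id_comp, ← Category.assoc, h7, Category.id_comp] at h8
    exact h8

open Classical in
/-- The coefficients of the correspondence. -/
noncomputable def coef (ξ : ↥(pullback p q)) : ℤ :=
  if h : Nonempty (PPt (pullback.snd p q) L ξ) then mlt p q d qs gs hS F hF Φ hΦ h.some.1 else 0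

local notation "co" => coef p q d qs gs hS F hF Φ hΦ

omit [IsAlgClosed k] [CharZero k] [IsProper p] [LocallyOfFiniteType q] in
theorem coef_eq {ξ : ↥(pullback p q)} (lam : PPt (pullback.snd p q) L ξ) :
    co ξ = mlt p q d qs gs hS F hF Φ hΦ lam.1 := by
  have h : Nonempty (PPt (pullback.snd p q) L ξ) := ⟨lam⟩
  unfold coef
  rw [dif_pos h]
  obtain ⟨σ, hσ⟩ := exists_gal_eq (pullback.snd p q) lam h.some
  rw [← hσ]
  exact_mod_cast mlt_sp p q d qs gs hS F hF Φ hΦ σ lam.1

omit [IsAlgClosed k] [CharZero k] [IsProper p] [LocallyOfFiniteType q]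
  [FiniteDimensional W.functionField L] [IsGalois W.functionField L] in
theorem coef_nonneg (ξ : ↥(pullback p q)) : 0 ≤ co ξ := by
  unfold coef
  split_ifs
  · exact Nat.cast_nonneg _
  · exact le_rfl

omit [IsAlgClosed k] [CharZero k] [IsProper p] [LocallyOfFiniteType q]
  [FiniteDimensional W.functionField L] [IsGalois W.functionField L] in
theorem exists_of_coef_ne_zero {ξ : ↥(pullback p q)} (h : co ξ ≠ 0) :
    ∃ i, gxx i = ξ := by
  unfold coef at h
  split_ifs at h with h1
  · have h2 : mlt p q d qs gs hS F hF Φ hΦ h1.some.1 ≠ 0 := by exact_mod_cast h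
    unfold mlt at h2
    rw [Nat.card_ne_zero] at h2
    obtain ⟨⟨i, hi⟩⟩ := h2.1
    refine ⟨i, ?_⟩
    change gpt i (closedPoint L) = ξ
    rw [hi, h1.some.2.2]
  · exact absurd rfl h

omit [IsAlgClosed k] [CharZero k] [IsProper p] [LocallyOfFiniteType q] in
theorem coef_gx_ne_zero (i : Fin d) : co (gxx i) ≠ 0 := by
  rw [coef_eq p q d qs gs hS F hF Φ hΦ (gl p q d qs gs hS F hF Φ hΦ i)]
  unfold mlt
  have : Nonempty {j : Fin d // gpt j = (gl p q d qs gs hS F hF Φ hΦ i).1} := ⟨⟨i, rfl⟩⟩
  exact_mod_cast Nat.card_pos.ne'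

omit [IsAlgClosed k] [CharZero k] [IsProper p] [LocallyOfFiniteType q]
  [FiniteDimensional W.functionField L] [IsGalois W.functionField L] in
theorem support_finite : (Function.support co).Finite := by
  refine (Set.finite_range (gxx)).subset ?_
  intro ξ hξ
  exact exists_of_coef_ne_zero p q d qs gs hS F hF Φ hΦ hξ

omit [IsAlgClosed k] [CharZero k] [IsProper p] [LocallyOfFiniteType q]
  [FiniteDimensional W.functionField L] [IsGalois W.functionField L] in
theorem snd_gx (i : Fin d) : pullback.snd p q (gxx i) = genericPoint W := by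
  have h1 : pullback.snd p q (gxx i) = (gpt i ≫ pullback.snd p q) (closedPoint L) := rfl
  rw [h1, gp_snd]
  exact pt_apply W _

omit [IsAlgClosed k] [CharZero k] [LocallyOfFiniteType q] in
/-- The closures of the points of the correspondence have finite fibres. -/
theorem finite_closure (hW : ∀ x : W, IsIntegrallyClosed (W.presheaf.stalk x)) (i : Fin d) (w : W) :
    (closure {gxx i} ∩ pullback.snd p q ⁻¹' {w}).Finite := by
  have h1 : IsIntegralHom (cm i) := by
    have h2 : IsIntegralHom (cm i ≫ pullback.snd p q) := by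
      rw [cmp_snd]
      infer_instance
    exact IsIntegralHom.of_comp (cm i) (pullback.snd p q)
  have h3 : closure {gxx i} ⊆ Set.range (cm i) := by
    apply closure_minimal
    · rintro _ rfl
      exact ⟨(pt W L).toNormalization (closedPoint L), rfl⟩
    · exact (cm i).isClosedMap.isClosed_range
  have h4 : (ν W L ⁻¹' {w}).Finite := by
    by_cases hne : (ν W L ⁻¹' {w}).Nonempty
    · obtain ⟨y, hy⟩ := hne
      have hfin : Finite (L ≃ₐ[W.functionField] L) := inferInstance
      refine (Set.finite_range fun g : (L ≃ₐ[W.functionField] L) => (ρ W g).hom y).subset ?_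
      intro y' hy'
      have h5 : ν W L y = ν W L y' := hy.trans hy'.symm
      obtain ⟨g, hg⟩ := Groth.Agent.Sga1.QuotBasic.exists_apply_eq_of_isQuot
        (isQuot_ν (L := L) W hW) h5
      exact ⟨g, hg⟩
    · rw [Set.not_nonempty_iff_eq_empty] at hne
      rw [hne]
      exact Set.finite_empty
  refine (h4.image (cm i)).subset ?_
  rintro z ⟨hz1, hz2⟩
  obtain ⟨y, rfl⟩ := h3 hz1
  refine ⟨y, ?_, rfl⟩
  have h6 : ν W L y = pullback.snd p q (cm i y) := by
    rw [← cmp_snd p q d qs gs hS F hF Φ hΦ i]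
    rfl
  exact h6.trans hz2

include hS hF hΦ in
/-- The correspondence of a morphism to the symmetric product induces the morphism over the points
over which it is flat. -/
theorem exists_corr (hW : ∀ x : W, IsIntegrallyClosed (W.presheaf.stalk x)) [CompactSpace W]
    (n : ℕ) (hn : topologicalKrullDim W = n) :
    ∃ Γ : AlgebraicCycle (pullback p q) ℤ,
      (∀ ξ, Γ ξ ≠ 0 → dm (pullback.snd p q ≫ q) ξ = n) ∧ (∀ ξ, 0 ≤ Γ ξ) ∧
      (∀ ξ, Γ ξ ≠ 0 → ∀ w : W, (closure {ξ} ∩ pullback.snd p q ⁻¹' {w}).Finite) ∧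
      (∀ ξ, Γ ξ ≠ 0 → pullback.snd p q ξ = genericPoint W) ∧
      ∀ (u : Spec (CommRingCat.of k) ⟶ W) (hu : u ≫ q = 𝟙 _),
        (∀ ξ, Γ ξ ≠ 0 → ∀ (z : ↥(pullback p q)) (h : ξ ⤳ z),
          pullback.snd p q z = u (closedPoint k) →
            ((Ideal.Quotient.mk (RingHom.ker (Cyc.specMap z ξ h))).comp
              ((pullback.snd p q).stalkMap z).hom).Flat) →
        ZCorr.IsCycleOfSymPt p d qs (u ≫ F) (fibreFun p q Γ u hu) := by
  classical
  have hchar : CharZero W.functionField := charZero_functionField q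
  obtain ⟨Γ, hΓ⟩ := Groth.Agent.CycA.MovRatZ.exists_cycle_of_finite_support
    (support_finite p q d qs gs hS F hF Φ hΦ)
  have hΓ' : ∀ ξ, Γ ξ = co ξ := fun ξ => congrFun hΓ ξ
  have hgen : ∀ ξ, Γ ξ ≠ 0 → pullback.snd p q ξ = genericPoint W := by
    intro ξ h
    rw [hΓ'] at h
    obtain ⟨i, rfl⟩ := exists_of_coef_ne_zero p q d qs gs hS F hF Φ hΦ h
    exact snd_gx p q d qs gs hS F hF Φ hΦ i
  have hfin : ∀ ξ, Γ ξ ≠ 0 → ∀ w : W, (closure {ξ} ∩ pullback.snd p q ⁻¹' {w}).Finite := by
    intro ξ h w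
    rw [hΓ'] at h
    obtain ⟨i, rfl⟩ := exists_of_coef_ne_zero p q d qs gs hS F hF Φ hΦ h
    exact finite_closure p q d qs gs hS F hF Φ hΦ hW i w
  have hΓ0 : ∀ ξ, 0 ≤ Γ ξ := fun ξ => by
    rw [hΓ']
    exact coef_nonneg p q d qs gs hS F hF Φ hΦ ξ
  have hne : ∀ ξ, Γ ξ ≠ 0 → Nonempty (PPt (pullback.snd p q) L ξ) := by
    intro ξ h
    rw [hΓ'] at h
    obtain ⟨i, rfl⟩ := exists_of_coef_ne_zero p q d qs gs hS F hF Φ hΦ h
    exact ⟨gl p q d qs gs hS F hF Φ hΦ i⟩
  have hfinite : ∀ w, Γ w ≠ 0 → Finite (PPt (pullback.snd p q) L w) := fun w h =>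
    finite_ppt (pullback.snd p q) L (hfin w h)
  have hfs : (Function.support ⇑Γ).Finite := by
    rw [hΓ]
    exact support_finite p q d qs gs hS F hF Φ hΦ
  refine ⟨Γ, ?_, hΓ0, hfin, hgen, ?_⟩
  · intro ξ h
    rw [SymDim.dm_eq (pullback.snd p q) q (hfin ξ h), hgen ξ h, dm_genericPoint q hn]
  · intro u hu hflat
    -- the extensions
    have hext : ∀ (w : ↥(pullback p q)) (lam : PPt (pullback.snd p q) L w),
        ∃ φ : N W L ⟶ pullback p q, Γ w ≠ 0 → IsExt (pullback.snd p q) L φ lam.1 := by
      intro w lam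
      by_cases h : Γ w = 0
      · have : Nonempty ↥(pullback p q) := ⟨w⟩
        have hcompP : CompactSpace ↥(pullback p q) := by
          have h1 : QuasiCompact (pullback.snd p q) := inferInstance
          exact QuasiCompact.compactSpace_of_compactSpace (pullback.snd p q)
        obtain ⟨t, ht⟩ := SymFam.exists_pt (pullback.snd p q ≫ q)
        exact ⟨ν W L ≫ q ≫ t, fun h' => absurd h h'⟩
      · obtain ⟨φ, hφ⟩ := exists_ext (hfin w h) lam
        exact ⟨φ, fun _ => hφ⟩
    choose φ hφ' using hext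
    have hφ : ∀ w, Γ w ≠ 0 → ∀ lam, IsExt (pullback.snd p q) L (φ w lam) lam.1 :=
      fun w h lam => hφ' w lam h
    have hνs := Groth.Agent.Sga1.QuotBasic.surjective_of_isQuot (isQuot_ν (L := L) W hW)
    obtain ⟨u', hu'⟩ := LiftPt.exists_lift (ν W L) hνs u
    -- the comparison of index sets
    let J := Σ w : {w : ↥(pullback p q) // Γ w ≠ 0}, PPt (pullback.snd p q) L w.1
    let f : Fin d → J := fun i =>
      ⟨⟨gxx i, by rw [hΓ']; exact coef_gx_ne_zero p q d qs gs hS F hF Φ hΦ i⟩,
        gl p q d qs gs hS F hF Φ hΦ i⟩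
    let g : Idx p q Γ L → J := fun x => ⟨x.1, x.2.2⟩
    obtain ⟨e, he⟩ := exists_equiv_of_fibres f g (by
      rintro ⟨⟨w, hw⟩, lam⟩
      have hcard : Nat.card {i // f i = ⟨⟨w, hw⟩, lam⟩} = (Γ w).toNat := by
        rw [hΓ', coef_eq p q d qs gs hS F hF Φ hΦ lam, Int.toNat_natCast]
        refine Nat.card_congr (Equiv.subtypeEquivRight fun i => ?_)
        constructor
        · intro h
          have h1 : ∀ (a b : J), a = b → a.2.1 = b.2.1 := by
            rintro a _ rfl
            rfl
          exact h1 _ _ h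
        · intro h
          have h1 : gxx i = w := by
            have h2 : gxx i = gpt i (closedPoint L) := rfl
            rw [h2, h, lam.2.2]
          subst h1
          refine Sigma.ext rfl (heq_of_eq ?_)
          exact Subtype.ext h
      have e2 : {x : Idx p q Γ L // g x = ⟨⟨w, hw⟩, lam⟩} ≃ Fin (Γ w).toNat :=
        { toFun := fun x => by
            have h1 : x.1.1 = ⟨w, hw⟩ := congrArg Sigma.fst x.2
            exact Fin.cast (by rw [h1]) x.1.2.1
          invFun := fun a => ⟨⟨⟨w, hw⟩, a, lam⟩, rfl⟩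
          left_inv := by
            rintro ⟨⟨w', a', lam'⟩, hx⟩
            have h1 : w' = ⟨w, hw⟩ := congrArg Sigma.fst hx
            subst h1
            have h2 : lam' = lam := eq_of_heq (Sigma.mk.inj hx).2
            subst h2
            rfl
          right_inv := fun a => rfl }
      rw [← hcard] at e2
      exact ⟨(Finite.equivFin _).trans e2.symm⟩)
    refine ⟨u' ≫ Φ, ?_, fun x => ?_⟩
    · rw [Category.assoc, hΦ, ← Category.assoc, hu']
    · rw [fibreFun_eq p q Γ φ u' u hu' hu hφ hgen hfin hflat hne x,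
        ← card_idx p q Γ φ u' hfs hΓ0 hfinite]
      congr 1
      refine (Nat.card_congr (Equiv.subtypeEquiv e fun i => ?_)).symm
      have h1 : IsExt (pullback.snd p q) L (φ (e i).1.1 (e i).2.2) (gpt i) := by
        have h2 : ∀ (a b : J), a = b → a.2.1 = b.2.1 := by
          rintro a _ rfl
          rfl
        have h3 : (e i).2.2.1 = gpt i := h2 _ _ (he i)
        rw [← h3]
        exact hφ _ (e i).1.2 _
      have h4 : φ (e i).1.1 (e i).2.2 = cm i := h1.unique (isExt_cmp p q d qs gs hS F hF Φ hΦ i)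
      rw [h4, apply_eq_slice_iff p q u' u hu' hu (cmp_snd p q d qs gs hS F hF Φ hΦ i) x, cmp_fst,
        Category.assoc]

end corr

end K952.SymCorr
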