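import Groth.Agent.Sga1.Transit
import Groth.Prelude.Def_W4c5zerocyclessurfSym

/-!
# Uniqueness of the cycle of a point of a symmetric product
-/

set_option autoImplicit false
universe u

open CategoryTheory CategoryTheory.Limits AlgebraicGeometry

namespace K952.SymUniq

theorem eq_of_isCycleOfSymPt {k : Type u} [Field k] {X Sy : Scheme.{u}}
    {p : X ⟶ Spec (CommRingCat.of k)} {d : ℕ} {q : SymProd.fibPow p d ⟶ Sy}
    {g : Sy ⟶ Spec (CommRingCat.of k)} (hS : SymProd.IsSymProd p d q g)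
    {y : Spec (CommRingCat.of k) ⟶ Sy} {α β : X → ℤ} (hα : ZCorr.IsCycleOfSymPt p d q y α)
    (hβ : ZCorr.IsCycleOfSymPt p d q y β) : α = β := by
  obtain ⟨t, ht, ht'⟩ := hα
  obtain ⟨s, hs, hs'⟩ := hβ
  obtain ⟨σ, hσ⟩ := Groth.Agent.Sga1.Transit.exists_comp_eq hS.isQuot t s (ht.trans hs.symm)
  ext x
  rw [ht', hs']
  congr 1
  refine Nat.card_congr (Equiv.subtypeEquiv σ.down.symm fun i => ?_)
  have h1 : t ≫ WidePullback.π (fun _ => p) i =
      s ≫ WidePullback.π (fun _ => p) (σ.down.symm i) := by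
    rw [hσ, Category.assoc, SymProd.permActU_hom, SymProd.permHom_π]
  rw [h1]

end K952.SymUniq
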