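import Groth.Agent.ZCorr.K952.P1Core
import Groth.Agent.ZCorr.K952.SymCorr
import Groth.Agent.ZCorr.K952.SymUniq
import Groth.Agent.ZCorr.K952.SymDim

/-!
# Rational equivalence of effective zero-cycles and rational curves in symmetric products
-/

set_option autoImplicit false
universe u

open CategoryTheory CategoryTheory.Limits AlgebraicGeometry IsLocalRing AlgEqCyc

namespace K952.P1Sym

open Basic Pts ExtPt FamRat P1Graph P1Core P1Fam Groth.Agent.CycA.MovRatZ Groth.Agent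

variable {k : Type u} [Field k] {X : Scheme.{u}} (p : X ⟶ Spec (CommRingCat.of k)) [IsProper p]

local notation "qP" => CohB1.ProjSpace.toSpec 1 k

omit [IsProper p] in
theorem mem_nonneg {W : Scheme.{u}} (q : W ⟶ Spec (CommRingCat.of k)) (ξ : ↥(pullback p q))
    (t : Spec (CommRingCat.of k) ⟶ W) (ht : t ≫ q = 𝟙 _) (x : X) : 0 ≤ mem p q ξ t ht x := by
  unfold mem
  split_ifs
  · exact Int.natCast_nonneg _
  · exact le_rfl

omit [IsProper p] in
theorem finite_support_mem {W : Scheme.{u}} (q : W ⟶ Spec (CommRingCat.of k)) [IsSeparated q]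
    {ξ : ↥(pullback p q)} (hfin : ∀ w : W, (closure {ξ} ∩ pullback.snd p q ⁻¹' {w}).Finite)
    (t : Spec (CommRingCat.of k) ⟶ W) (ht : t ≫ q = 𝟙 _) :
    (Function.support (mem p q ξ t ht)).Finite := by
  refine ((hfin (Slice.pt t)).preimage (Slice.slice_injective p q t ht).injOn).subset ?_
  intro x hx
  refine ⟨?_, Slice.snd_slice p q t ht x⟩
  by_contra h
  apply hx
  unfold mem
  rw [dif_neg]
  intro h'
  exact h h'.mem_closure

theorem integrallyClosed_P1 (k : Type u) [Field k] (x : CohB1.ProjSpace 1 k) :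
    IsIntegrallyClosed ((CohB1.ProjSpace 1 k).presheaf.stalk x) := by
  obtain ⟨h1, h2⟩ := Lefpen.H723.P1Flat.stalk_pid k x
  infer_instance

theorem compactSpace_P1 (k : Type u) [Field k] : CompactSpace (CohB1.ProjSpace 1 k) :=
  QuasiCompact.compactSpace_of_compactSpace (CohB1.ProjSpace.toSpec 1 k)

variable [IsAlgClosed k]

/-- The family attached to a rational equivalence and an effective cycle. -/
theorem exists_gamma {α β : AlgebraicCycle X ℤ} (hβ : ∀ x, β x ≠ 0 → dm p x = 0)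
    (hβ0 : ∀ x, 0 ≤ β x) (h : Cyc.RatEquiv (fun x => (dm p x : ℤ)) 0 α β) :
    ∃ (Γ : AlgebraicCycle (pullback p qP) ℤ) (V : X → ℤ),
      (∀ ξ, 0 ≤ Γ ξ) ∧
      (∀ ξ, Γ ξ ≠ 0 → pullback.snd p qP ξ = genericPoint (CohB1.ProjSpace 1 k)) ∧
      (∀ ξ, Γ ξ ≠ 0 → ∀ w : CohB1.ProjSpace 1 k,
        (closure {ξ} ∩ pullback.snd p qP ⁻¹' {w}).Finite) ∧
      (∀ x, 0 ≤ V x) ∧ (Function.support V).Finite ∧ (∀ x, V x ≠ 0 → dm p x = 0) ∧
      (∀ x, fibreFun p qP Γ (tp k 0) (tp_toSpec k 0) x = α x + V x) ∧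
      (∀ x, fibreFun p qP Γ (tp k 1) (tp_toSpec k 1) x = β x + V x) := by
  classical
  have hcX : CompactSpace X := QuasiCompact.compactSpace_of_compactSpace p
  obtain ⟨I, _, w, hw1, hw2, hw3⟩ := exists_family p h
  have hwfin : ∀ i w', (closure {w i} ∩ pullback.snd p qP ⁻¹' {w'}).Finite := fun i =>
    finite_fibre p (hw1 i) (hw2 i)
  have hs : (Function.support ⇑β).Finite := FibCycle.finite_support β
  -- constant sections
  have hpt : ∀ y : X, ∃ s : Spec (CommRingCat.of k) ⟶ X, β y ≠ 0 → s ≫ p = 𝟙 _ ∧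
      s (closedPoint k) = y := by
    intro y
    by_cases hy : β y = 0
    · have : Nonempty X := ⟨y⟩
      obtain ⟨s, -⟩ := SymFam.exists_pt p
      exact ⟨s, fun h' => absurd hy h'⟩
    · obtain ⟨s, h1, h2⟩ := FibCycle.exists_rational_point p
        ((dm_eq_zero_iff_isClosed p y).1 (hβ y hy))
      exact ⟨s, fun _ => ⟨h1, h2⟩⟩
  choose s hs' using hpt
  have hc : ∀ y : X, ∃ c : ↥(pullback p qP), β y ≠ 0 →
      (pullback.snd p qP c = genericPoint (CohB1.ProjSpace 1 k)) ∧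
      (∀ w', (closure {c} ∩ pullback.snd p qP ⁻¹' {w'}).Finite) ∧
      ∀ (t : Spec (CommRingCat.of k) ⟶ CohB1.ProjSpace 1 k) (ht : t ≫ qP = 𝟙 _) (x : X),
        mem p qP c t ht x = (Set.indicator {y} 1 : X → ℤ) x := by
    intro y
    by_cases hy : β y = 0
    · have : Nonempty ↥(pullback p qP) := ⟨slice p qP (tp k 0) (tp_toSpec k 0) y⟩
      exact ⟨Classical.arbitrary _, fun h' => absurd hy h'⟩
    · have h1 := (hs' y hy).1
      have h2 := (hs' y hy).2
      refine ⟨cst p qP (s y) h1 (genericPoint _), fun _ => ⟨?_, fun w' => ?_, fun t ht x => ?_⟩⟩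
      · have h3 : pullback.snd p qP (cst p qP (s y) h1 (genericPoint _)) =
          (cst p qP (s y) h1 ≫ pullback.snd p qP) (genericPoint _) := rfl
        rw [h3, cst_snd]
        rfl
      · have := isClosedImmersion_cst p qP (s y) h1
        rw [← range_eq_closure]
        refine (Set.finite_singleton (cst p qP (s y) h1 w')).subset ?_
        rintro _ ⟨⟨v, rfl⟩, hv⟩
        have h3 : pullback.snd p qP (cst p qP (s y) h1 v) =
          (cst p qP (s y) h1 ≫ pullback.snd p qP) v := rfl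
        have h4 : pullback.snd p qP (cst p qP (s y) h1 v) = w' := hv
        rw [h3, cst_snd] at h4
        have h5 : v = w' := h4
        rw [h5]
        rfl
      · rw [mem_cst, h2]
  choose c hc' using hc
  let G : ↥(pullback p qP) →₀ ℤ := ∑ i, Finsupp.single (w i) (1 : ℤ) +
    ∑ y ∈ hs.toFinset, Finsupp.single (c y) (β y)
  obtain ⟨Γ, hΓ⟩ := exists_cycle_of_finite_support (φ := ⇑G) (by
    rw [Finsupp.fun_support_eq]
    exact G.support.finite_toSet)
  have hGapp : ∀ ξ, Γ ξ = ∑ i, (if w i = ξ then (1 : ℤ) else 0) +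
      ∑ y ∈ hs.toFinset, (if c y = ξ then β y else 0) := by
    intro ξ
    rw [hΓ]
    simp only [G, Finsupp.add_apply, Finsupp.finsetSum_apply, Finsupp.single_apply]
  have hsup : ∀ ξ, Γ ξ ≠ 0 → (∃ i, w i = ξ) ∨ ∃ y, β y ≠ 0 ∧ c y = ξ := by
    intro ξ hξ
    by_contra hcon
    push Not at hcon
    apply hξ
    rw [hGapp]
    rw [Finset.sum_eq_zero fun i _ => if_neg (hcon.1 i), Finset.sum_eq_zero, add_zero]
    intro y hy
    rw [Set.Finite.mem_toFinset] at hy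
    exact if_neg (hcon.2 y hy)
  have hfib : ∀ (t : Spec (CommRingCat.of k) ⟶ CohB1.ProjSpace 1 k) (ht : t ≫ qP = 𝟙 _) (x : X),
      fibreFun p qP Γ t ht x = ∑ i, mem p qP (w i) t ht x + β x := by
    intro t ht x
    rw [fibreFun_eq_finsum_mem, hΓ]
    have h1 : ∑ᶠ ξ, G ξ * mem p qP ξ t ht x = G.sum fun ξ n => n * mem p qP ξ t ht x := by
      rw [Finsupp.sum]
      refine finsum_eq_sum_of_support_subset _ ?_
      intro ξ hξ
      rw [Finset.mem_coe, Finsupp.mem_support_iff]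
      intro h0
      apply hξ
      simp only [h0, zero_mul]
    rw [h1]
    simp only [G]
    rw [Finsupp.sum_add_index' (fun _ => zero_mul _) (fun _ _ _ => add_mul _ _ _),
      ← Finsupp.sum_finsetSum_index (fun _ => zero_mul _) (fun _ _ _ => add_mul _ _ _),
      ← Finsupp.sum_finsetSum_index (fun _ => zero_mul _) (fun _ _ _ => add_mul _ _ _)]
    simp only [Finsupp.sum_single_index, zero_mul, one_mul]
    congr 1
    have h2 : ∀ y ∈ hs.toFinset, β y * mem p qP (c y) t ht x = if y = x then β x else 0 := by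
      intro y hy
      rw [Set.Finite.mem_toFinset] at hy
      rw [(hc' y hy).2.2 t ht x]
      split_ifs with hyx
      · rw [hyx, indicator_self, mul_one]
      · rw [indicator_ne (fun e => hyx e.symm), mul_zero]
    rw [Finset.sum_congr rfl h2, Finset.sum_ite_eq']
    split_ifs with h3
    · rfl
    · rw [Set.Finite.mem_toFinset] at h3
      exact (Function.notMem_support.1 h3).symm
  have hgen0 : ∀ j i, pullback.snd p qP (w i) ≠ Slice.pt (tp k j) := by
    intro j i h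
    have h1 : dm qP (genericPoint (CohB1.ProjSpace 1 k)) = 1 :=
      dm_genericPoint _ (n := 1) (dim_P1 k)
    have h2 : dm qP (Slice.pt (tp k j)) = 0 := by
      rw [dm_eq_zero_iff_isClosed]
      exact FibCycle.isClosed_pt _ _ (tp_toSpec k j)
    rw [hw1] at h
    rw [h, h2] at h1
    omega
  refine ⟨Γ, fun x => ∑ i, mem p qP (w i) (tp k 1) (tp_toSpec k 1) x, ?_, ?_, ?_, ?_, ?_, ?_, ?_,
    ?_⟩
  · intro ξ
    rw [hGapp]
    refine add_nonneg (Finset.sum_nonneg fun i _ => ?_) (Finset.sum_nonneg fun y _ => ?_)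
    · split_ifs <;> simp
    · split_ifs
      · exact hβ0 y
      · exact le_rfl
  · intro ξ hξ
    rcases hsup ξ hξ with ⟨i, rfl⟩ | ⟨y, hy, rfl⟩
    · exact hw1 i
    · exact (hc' y hy).1
  · intro ξ hξ
    rcases hsup ξ hξ with ⟨i, rfl⟩ | ⟨y, hy, rfl⟩
    · exact hwfin i
    · exact (hc' y hy).2.1
  · exact fun x => Finset.sum_nonneg fun i _ => mem_nonneg p qP _ _ _ x
  · have h1 : (fun x => ∑ i, mem p qP (w i) (tp k 1) (tp_toSpec k 1) x) =
        ∑ i, mem p qP (w i) (tp k 1) (tp_toSpec k 1) := by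
      funext x
      rw [Finset.sum_apply]
    rw [h1]
    refine (Set.Finite.biUnion Finset.univ.finite_toSet fun i _ =>
      finite_support_mem p qP (hwfin i) (tp k 1) (tp_toSpec k 1)).subset ?_
    intro x hx
    rw [Function.mem_support, Finset.sum_apply] at hx
    obtain ⟨i, hi, hi'⟩ := Finset.exists_ne_zero_of_sum_ne_zero hx
    exact Set.mem_biUnion (Finset.mem_coe.2 hi) hi'
  · intro x hx
    by_contra hne
    apply hx
    exact Finset.sum_eq_zero fun i _ => mem_eq_zero_of_dm p qP (hw2 i).le _ _ (hgen0 1 i) hne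
  · intro x
    rw [hfib]
    have h1 := hw3 x
    rw [Finset.sum_sub_distrib] at h1
    have h2 : (α - β) x = α x - β x := rfl
    rw [h2] at h1
    linarith
  · intro x
    rw [hfib, add_comm]

section main

variable [CharZero k]

theorem exists_map {α β : AlgebraicCycle X ℤ} (hα : ∀ x, α x ≠ 0 → dm p x = 0)
    (hβ : ∀ x, β x ≠ 0 → dm p x = 0) (hβ0 : ∀ x, 0 ≤ β x) (d : ℕ)
    (hβd : ∑ᶠ x, β x = (d : ℤ)) (h : Cyc.RatEquiv (fun x => (dm p x : ℤ)) 0 α β)
    (Sy : ℕ → Scheme.{u}) (qs : (n : ℕ) → (SymProd.fibPow p n ⟶ Sy n))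
    (gs : (n : ℕ) → (Sy n ⟶ Spec (CommRingCat.of k)))
    (hS : ∀ n, SymProd.IsSymProd p n (qs n) (gs n)) :
    ∃ (m : ℕ) (γ : AlgebraicCycle X ℤ), (∀ x, γ x ≠ 0 → dm p x = 0) ∧ (∀ x, 0 ≤ γ x) ∧
      ∑ᶠ x, γ x = (m : ℤ) ∧
        ∃ (f : CohB1.ProjSpace 1 k ⟶ Sy (d + m)) (t₀ t₁ : Spec (CommRingCat.of k) ⟶
            CohB1.ProjSpace 1 k),
          f ≫ gs (d + m) = qP ∧ t₀ ≫ qP = 𝟙 _ ∧ t₁ ≫ qP = 𝟙 _ ∧
          ZCorr.IsCycleOfSymPt p (d + m) (qs (d + m)) (t₀ ≫ f) ⇑(α + γ) ∧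
          ZCorr.IsCycleOfSymPt p (d + m) (qs (d + m)) (t₁ ≫ f) ⇑(β + γ) := by
  have hcX : CompactSpace X := QuasiCompact.compactSpace_of_compactSpace p
  have hcP := compactSpace_P1 k
  obtain ⟨Γ, V, h1, h2, h3, h4, h5, h6, h7, h8⟩ := exists_gamma p hβ hβ0 h
  obtain ⟨γ, hγ⟩ := exists_cycle_of_finite_support h5
  have hflat : ∀ ξ, Γ ξ ≠ 0 → ∀ (z : ↥(pullback p qP)) (h : ξ ⤳ z),
      ((Ideal.Quotient.mk (RingHom.ker (Cyc.specMap z ξ h))).comp
        ((pullback.snd p qP).stalkMap z).hom).Flat := fun ξ hξ z h' =>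
    flat_P1 (pullback.snd p qP) (h2 ξ hξ) z h'
  obtain ⟨D, hD⟩ := deg_const p qP (integrallyClosed_P1 k) Γ h1 h2 h3 hflat
  have hVnn : 0 ≤ ∑ᶠ x, V x := finsum_nonneg h4
  obtain ⟨m, hm⟩ := Int.eq_ofNat_of_zero_le hVnn
  have hDm : (D : ℤ) = ((d + m : ℕ) : ℤ) := by
    rw [← hD (tp k 1) (tp_toSpec k 1), finsum_congr h8,
      finsum_add_distrib (FibCycle.finite_support β) h5, hβd, hm]
    push_cast
    rfl
  obtain ⟨F, hF1, hF2⟩ := SymFam.main p qP (integrallyClosed_P1 k) (d + m) (qs (d + m))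
    (gs (d + m)) (hS (d + m)) Γ h1 h2 h3 hflat (fun u hu => (hD u hu).trans hDm)
  refine ⟨m, γ, ?_, ?_, ?_, F, tp k 0, tp k 1, hF1, tp_toSpec k 0, tp_toSpec k 1, ?_, ?_⟩
  · rw [hγ]
    exact h6
  · rw [hγ]
    exact h4
  · rw [hγ, hm]
  · have h9 : ⇑(α + γ) = fibreFun p qP Γ (tp k 0) (tp_toSpec k 0) := by
      funext x
      rw [h7, ← hγ]
      rfl
    rw [h9]
    exact hF2 _ _
  · have h9 : ⇑(β + γ) = fibreFun p qP Γ (tp k 1) (tp_toSpec k 1) := by
      funext x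
      rw [h8, ← hγ]
      rfl
    rw [h9]
    exact hF2 _ _

theorem ratEquiv_of_map {α β γ : AlgebraicCycle X ℤ} (n : ℕ) {Sy : Scheme.{u}}
    (qs : SymProd.fibPow p n ⟶ Sy) (gs : Sy ⟶ Spec (CommRingCat.of k))
    (hS : SymProd.IsSymProd p n qs gs) (f : CohB1.ProjSpace 1 k ⟶ Sy)
    (t₀ t₁ : Spec (CommRingCat.of k) ⟶ CohB1.ProjSpace 1 k) (hf : f ≫ gs = qP)
    (h₀ : t₀ ≫ qP = 𝟙 _) (h₁ : t₁ ≫ qP = 𝟙 _)
    (hα : ZCorr.IsCycleOfSymPt p n qs (t₀ ≫ f) ⇑(α + γ))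
    (hβ : ZCorr.IsCycleOfSymPt p n qs (t₁ ≫ f) ⇑(β + γ)) :
    Cyc.RatEquiv (fun x => (dm p x : ℤ)) 0 α β := by
  have hcX : CompactSpace X := QuasiCompact.compactSpace_of_compactSpace p
  have hcP := compactSpace_P1 k
  obtain ⟨L, _, _, _, _, Φ, hΦ⟩ := SymCorr.exists_lift p qP n qs gs hS f
  obtain ⟨Γ, h1, h2, h3, h4, h5⟩ := SymCorr.exists_corr p qP n qs gs hS f hf Φ hΦ
    (integrallyClosed_P1 k) 1 (dim_P1 k)
  have hflat : ∀ ξ, Γ ξ ≠ 0 → ∀ (z : ↥(pullback p qP)) (h : ξ ⤳ z),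
      ((Ideal.Quotient.mk (RingHom.ker (Cyc.specMap z ξ h))).comp
        ((pullback.snd p qP).stalkMap z).hom).Flat := fun ξ hξ z h' =>
    flat_P1 (pullback.snd p qP) (h4 ξ hξ) z h'
  have e₀ := SymUniq.eq_of_isCycleOfSymPt hS hα (h5 t₀ h₀ fun ξ hξ z h' _ => hflat ξ hξ z h')
  have e₁ := SymUniq.eq_of_isCycleOfSymPt hS hβ (h5 t₁ h₁ fun ξ hξ z h' _ => hflat ξ hξ z h')
  have hset := isSetup_dm p
  have hN : IsLocallyNoetherian X := hset.1
  refine ratEquivZero_of_mem_ratZ hset.2.2 ?_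
  have h6 : ⇑(α - β) = fibreFun p qP Γ t₀ h₀ - fibreFun p qP Γ t₁ h₁ := by
    rw [← e₀, ← e₁]
    funext x
    change α x - β x = (α x + γ x) - (β x + γ x)
    ring
  rw [h6]
  refine fibreFun_diff p qP Γ h3 hflat t₀ t₁ h₀ h₁ ?_
  refine PnPts.ptEq_projSpace 1 _ _ ?_ ?_
  · rw [dm_eq_zero_iff_isClosed]
    exact FibCycle.isClosed_pt _ _ h₀
  · rw [dm_eq_zero_iff_isClosed]
    exact FibCycle.isClosed_pt _ _ h₁

end main

end K952.P1Sym
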