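import Groth.Agent.ZCorr.K952.Slice
import Mathlib.AlgebraicGeometry.AlgClosed.Basic

/-!
# Fibre cycles of correspondences
-/

set_option autoImplicit false

universe u

open AlgebraicGeometry CategoryTheory CategoryTheory.Limits

namespace K952.FibCycle

open Basic AlgEqCyc Slice

/-- A cycle on a quasi-compact scheme has finite support. -/
theorem finite_support {P : Scheme.{u}} [CompactSpace P] (Γ : AlgebraicCycle P ℤ) :
    (Function.support ⇑Γ).Finite := by
  have h := Γ.supportLocallyFiniteWithinDomain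
  have h2 : LocallyFiniteSupport ⇑Γ := fun z => h z trivial
  simpa using h2.finite_inter_support_of_isCompact isCompact_univ

/-- Points of a finite closed subset of a Jacobson space are closed. -/
theorem isClosed_singleton_of_finite {T : Type*} [TopologicalSpace T] [JacobsonSpace T] {S : Set T}
    (hS : IsClosed S) (hf : S.Finite) {z : T} (hz : z ∈ S) : IsClosed ({z} : Set T) := by
  have h1 : closure {z} ⊆ S := hS.closure_subset_iff.mpr (Set.singleton_subset_iff.mpr hz)
  have h2 : (closure {z} ∩ closedPoints T).Finite := (hf.subset h1).inter_of_left _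
  have h3 : IsClosed (closure {z} ∩ closedPoints T) := by
    rw [← Set.biUnion_of_singleton (closure {z} ∩ closedPoints T)]
    exact h2.isClosed_biUnion fun x hx => hx.2
  have h4 : closure (closure {z} ∩ closedPoints T) = closure (closure {z}) :=
    JacobsonSpace.closure_inter_closedPoints_eq_closure isClosed_closure.isLocallyClosed
  rw [h3.closure_eq, closure_closure] at h4
  have h5 : z ∈ closure {z} ∩ closedPoints T := by
    rw [h4]; exact subset_closure rfl
  exact h5.2

variable {k : Type u} [Field k]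

theorem jacobsonSpace_of_field {X : Scheme.{u}} (p : X ⟶ Spec (CommRingCat.of k))
    [LocallyOfFiniteType p] : JacobsonSpace X :=
  LocallyOfFiniteType.jacobsonSpace p

/-- The image of a closed point is a closed point. -/
theorem isClosed_map {X Y : Scheme.{u}} (f : X ⟶ Y) (q : Y ⟶ Spec (CommRingCat.of k))
    [LocallyOfFiniteType f] [LocallyOfFiniteType q] {x : X} (hx : IsClosed ({x} : Set X)) :
    IsClosed ({f x} : Set Y) := by
  rw [← dm_eq_zero_iff_isClosed (f ≫ q)] at hx
  rw [← dm_eq_zero_iff_isClosed q]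
  have := dm_le_comp f q x
  omega

theorem isClosed_pt {X : Scheme.{u}} (p : X ⟶ Spec (CommRingCat.of k)) [LocallyOfFiniteType p]
    (t : Spec (CommRingCat.of k) ⟶ X) (ht : t ≫ p = 𝟙 _) : IsClosed ({pt t} : Set X) := by
  have h1 : LocallyOfFiniteType (t ≫ p) := by rw [ht]; infer_instance
  have : LocallyOfFiniteType t := locallyOfFiniteType_of_comp t p
  exact isClosed_map t p (isClosed_discrete _)

section

variable [IsAlgClosed k] {X : Scheme.{u}} (p : X ⟶ Spec (CommRingCat.of k)) [LocallyOfFiniteType p]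

theorem exists_rational_point {x : X} (hx : IsClosed ({x} : Set X)) :
    ∃ t : Spec (CommRingCat.of k) ⟶ X, t ≫ p = 𝟙 _ ∧ pt t = x :=
  ⟨pointOfClosedPoint p x hx, pointOfClosedPoint_comp p x hx, pointOfClosedPoint_apply p x hx _⟩

end

variable {X W : Scheme.{u}} (p : X ⟶ Spec (CommRingCat.of k)) (q : W ⟶ Spec (CommRingCat.of k))

/-- The structure morphism of the product. -/
noncomputable abbrev prodStr : pullback p q ⟶ Spec (CommRingCat.of k) := pullback.fst p q ≫ p

theorem prodStr_eq : prodStr p q = pullback.snd p q ≫ q := pullback.condition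

theorem dm_snd_le [LocallyOfFiniteType p] [LocallyOfFiniteType q] (z : ↥(pullback p q)) :
    dm q (pullback.snd p q z) ≤ dm (prodStr p q) z := by
  rw [prodStr_eq]
  exact dm_le_comp _ _ _

/-- If the only support point of `Γ` specializing to `(x, t)` is `ξ`, the coefficient of the fibre
cycle at `x` is `Γ ξ` times the multiplicity. -/
theorem fibreFun_eq_single (Γ : AlgebraicCycle (pullback p q) ℤ)
    (t : Spec (CommRingCat.of k) ⟶ W) (ht : t ≫ q = 𝟙 _) (x : X) (ξ : ↥(pullback p q))
    (hξ : ξ ⤳ slice p q t ht x) (h : ∀ w, Γ w ≠ 0 → w ⤳ slice p q t ht x → w = ξ) :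
    fibreFun p q Γ t ht x =
      Γ ξ * (fibreMult (pullback.snd p q) (slice p q t ht x) ξ hξ : ℤ) := by
  unfold fibreFun
  by_cases h0 : Γ ξ = 0
  · have : IsEmpty {w : ↥(pullback p q) // Γ w ≠ 0 ∧ w ⤳ slice p q t ht x} := by
      refine ⟨fun w => ?_⟩
      have h1 := h w.1 w.2.1 w.2.2
      exact w.2.1 (h1 ▸ h0)
    rw [finsum_of_isEmpty, h0, zero_mul]
  · rw [finsum_eq_single _ (⟨ξ, h0, hξ⟩ : {w : ↥(pullback p q) // Γ w ≠ 0 ∧ w ⤳ slice p q t ht x})]
    intro w hw
    exact absurd (Subtype.ext (h w.1 w.2.1 w.2.2)) hw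

/-- If no support point of `Γ` specializes to `(x, t)`, the coefficient is zero. -/
theorem fibreFun_eq_zero (Γ : AlgebraicCycle (pullback p q) ℤ)
    (t : Spec (CommRingCat.of k) ⟶ W) (ht : t ≫ q = 𝟙 _) (x : X)
    (h : ∀ w, Γ w ≠ 0 → ¬ w ⤳ slice p q t ht x) :
    fibreFun p q Γ t ht x = 0 := by
  unfold fibreFun
  have : IsEmpty {w : ↥(pullback p q) // Γ w ≠ 0 ∧ w ⤳ slice p q t ht x} :=
    ⟨fun w => h w.1 w.2.1 w.2.2⟩
  rw [finsum_of_isEmpty]

/-- Finite fibres imply that the specialization to a point of the fibre over a closed point is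
isolated. -/
theorem isolated [LocallyOfFiniteType p] [LocallyOfFiniteType q] {ξ v : ↥(pullback p q)}
    (hv : IsClosed ({pullback.snd p q v} : Set W))
    (hfin : (closure {ξ} ∩ pullback.snd p q ⁻¹' {pullback.snd p q v}).Finite)
    (z : ↥(pullback p q)) (h1 : ξ ⤳ z) (h2 : z ⤳ v)
    (h3 : pullback.snd p q z = pullback.snd p q v) : z = v := by
  have : JacobsonSpace ↥(pullback p q) := jacobsonSpace_of_field (prodStr p q)
  have h4 : IsClosed (closure {ξ} ∩ pullback.snd p q ⁻¹' {pullback.snd p q v}) :=
    isClosed_closure.inter (hv.preimage (pullback.snd p q).continuous)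
  have h5 := isClosed_singleton_of_finite h4 hfin (z := z) ⟨h1.mem_closure, h3⟩
  have h6 := h2.mem_closure
  rw [h5.closure_eq] at h6
  exact (Set.mem_singleton_iff.mp h6).symm

theorem fibreMult_ne_zero [LocallyOfFiniteType p] [LocallyOfFiniteType q] {ξ v : ↥(pullback p q)}
    (h : ξ ⤳ v) (hv : IsClosed ({pullback.snd p q v} : Set W))
    (hfin : (closure {ξ} ∩ pullback.snd p q ⁻¹' {pullback.snd p q v}).Finite) :
    fibreMult (pullback.snd p q) v ξ h ≠ 0 := by
  have : IsLocallyNoetherian (pullback p q) :=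
    LocallyOfFiniteType.isLocallyNoetherian (prodStr p q)
  exact Mult.fibreMult_ne_zero _ v ξ h fun z h1 h2 h3 => isolated p q hv hfin z h1 h2 h3

end K952.FibCycle
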