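import Groth.Agent.Ega4B.Arc
import Groth.Agent.CycB.ImageInt
import Groth.Agent.ZCorr.K952.FibCycle
import Mathlib.AlgebraicGeometry.AlgClosed.Basic
import Mathlib.AlgebraicGeometry.Morphisms.Immersion

/-!
# Formal arcs through points of the closure of an immersed subscheme
-/

set_option autoImplicit false
universe u

open CategoryTheory CategoryTheory.Limits AlgebraicGeometry IsLocalRing

namespace K952.Arc

variable {k : Type u} [Field k] [IsAlgClosed k]

omit [IsAlgClosed k] in
/-- The residue field at a rational point is algebraic. -/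
theorem isAlgebraic_residueField {A : Type u} [CommRing A] [IsLocalRing A] [Algebra k A]
    (ev : A →ₐ[k] k) [IsLocalHom (ev : A →+* k)] : Algebra.IsAlgebraic k (ResidueField A) := by
  refine ⟨fun x => ?_⟩
  obtain ⟨a, rfl⟩ := IsLocalRing.residue_surjective x
  have h1 : IsLocalRing.residue A a = algebraMap k (ResidueField A) (ev a) := by
    rw [IsScalarTower.algebraMap_apply k A (ResidueField A)]
    change IsLocalRing.residue A a = IsLocalRing.residue A (algebraMap k A (ev a))
    rw [← sub_eq_zero, ← map_sub, IsLocalRing.residue_eq_zero_iff, mem_maximalIdeal,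
      mem_nonunits_iff]
    intro hu
    have h2 := hu.map (ev : A →+* k)
    have h3 : ev (a - algebraMap k A (ev a)) = 0 := by
      rw [map_sub, AlgHom.commutes]
      exact sub_self _
    have h4 : (ev : A →+* k) (a - algebraMap k A (ev a)) = 0 := h3
    rw [h4] at h2
    exact not_isUnit_zero h2
  rw [h1]
  exact isAlgebraic_algebraMap _

variable {P U : Scheme.{u}} (r : P ⟶ Spec (CommRingCat.of k)) [LocallyOfFiniteType r]
  [IsIntegral U] (j : U ⟶ P) [IsImmersion j] [QuasiCompact j]

/-- A rational point of the closure of an immersed integral scheme is the origin of a formal arc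
whose generic point is in the immersed scheme. -/
theorem exists_arc (z : Spec (CommRingCat.of k) ⟶ P) (hz : z ≫ r = 𝟙 _)
    (hcl : z (closedPoint k) ∈ closure (Set.range j)) :
    ∃ α : Spec (CommRingCat.of (PowerSeries k)) ⟶ P,
      α ≫ r = Spec.map (CommRingCat.ofHom (algebraMap k (PowerSeries k))) ∧
      Spec.map (CommRingCat.ofHom (PowerSeries.constantCoeff (R := k))) ≫ α = z ∧
      ∃ β : Spec (CommRingCat.of (FractionRing (PowerSeries k))) ⟶ U,
        β ≫ j = Spec.map (CommRingCat.ofHom (algebraMap (PowerSeries k)
          (FractionRing (PowerSeries k)))) ≫ α := by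
  have hint : IsIntegral j.image := Groth.Agent.CycB.ImageInt.isIntegral_image j
  obtain ⟨g₀, hg₀⟩ : z (closedPoint k) ∈ Set.range j.imageι := by
    rw [Scheme.IdealSheafData.range_subschemeι, Scheme.Hom.support_ker]
    exact hcl
  have hcl₀ : IsClosed ({g₀} : Set j.image) := by
    have h1 : IsClosed ({z (closedPoint k)} : Set P) := FibCycle.isClosed_pt r z hz
    have h2 : ({g₀} : Set j.image) = j.imageι ⁻¹' {z (closedPoint k)} := by
      ext y
      rw [Set.mem_singleton_iff, Set.mem_preimage, Set.mem_singleton_iff, ← hg₀]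
      exact j.imageι.isClosedEmbedding.injective.eq_iff.symm
    rw [h2]
    exact h1.preimage j.imageι.continuous
  obtain ⟨z₀, hz₀, hz₀'⟩ := FibCycle.exists_rational_point (j.imageι ≫ r) hcl₀
  have hz₀z : z₀ ≫ j.imageι = z := by
    refine ext_of_apply_closedPoint_eq r (by rw [Category.assoc, hz₀]) hz ?_
    rw [← hg₀, ← hz₀']
    rfl
  clear hg₀ hcl₀ hz₀'
  have hN : IsLocallyNoetherian j.image :=
    LocallyOfFiniteType.isLocallyNoetherian (j.imageι ≫ r)
  let g := z₀ (closedPoint k)
  let A := j.image.presheaf.stalk g
  let str : k →+* A := (Spec.preimage (j.image.fromSpecStalk g ≫ (j.imageι ≫ r))).hom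
  have hstr : Spec.map (CommRingCat.ofHom str) = j.image.fromSpecStalk g ≫ (j.imageι ≫ r) :=
    Spec.map_preimage _
  let _ : Algebra k A := str.toAlgebra
  let ev : A →+* k := (Scheme.stalkClosedPointTo z₀).hom
  have hev : Spec.map (CommRingCat.ofHom ev) ≫ j.image.fromSpecStalk g = z₀ :=
    Scheme.Spec_stalkClosedPointTo_fromSpecStalk z₀
  have hloc : IsLocalHom ev := Scheme.isLocalHom_stalkClosedPointTo' z₀
  have hevstr : ∀ a : k, ev (str a) = a := by
    intro a
    have h1 : Spec.map (CommRingCat.ofHom (ev.comp str)) = Spec.map (𝟙 (CommRingCat.of k)) := by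
      rw [CommRingCat.ofHom_comp, Spec.map_comp, hstr, ← Category.assoc, hev, hz₀, Spec.map_id]
    have h2 := Spec.map_injective h1
    exact congrArg (fun g => g.hom a) h2
  let ε : A →ₐ[k] k := { ev with commutes' := hevstr }
  have hε : IsLocalHom (ε : A →+* k) := hloc
  have halg := isAlgebraic_residueField ε
  -- the open set
  let O : j.image.Opens := j.toImage.opensRange
  have hηO : genericPoint j.image ∈ O := by
    refine ⟨genericPoint U, ?_⟩
    exact Groth.Agent.CycB.ImageInt.toImage_genericPoint j
  obtain ⟨p, hp⟩ : genericPoint j.image ∈ Set.range (j.image.fromSpecStalk g) := by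
    rw [Scheme.range_fromSpecStalk]
    exact genericPoint_specializes g
  obtain ⟨_, ⟨_, ⟨a, rfl⟩, rfl⟩, hpa, haO⟩ :=
    PrimeSpectrum.isBasis_basic_opens.exists_subset_of_mem_open
      (show p ∈ (j.image.fromSpecStalk g ⁻¹ᵁ O : Set _) by
        change j.image.fromSpecStalk g p ∈ O
        rw [hp]
        exact hηO) (j.image.fromSpecStalk g ⁻¹ᵁ O).isOpen
  have ha : ¬ IsNilpotent a := by
    intro hn
    exact hpa (p.isPrime.mem_of_pow_mem _ (by rw [hn.choose_spec]; exact zero_mem _))
  obtain ⟨φ, hφa, hφ⟩ := Groth.Agent.Ega4B.Arc.exists_arc k A halg k a ha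
  have hφloc : IsLocalHom (φ : A →+* PowerSeries k) := by
    constructor
    intro x hx
    by_contra hnu
    have h1 := hφ x ((mem_maximalIdeal x).2 hnu)
    have h2 := hx.map (PowerSeries.constantCoeff (R := k))
    have h3 : PowerSeries.constantCoeff ((φ : A →+* PowerSeries k) x) = 0 := h1
    rw [h3] at h2
    exact not_isUnit_zero h2
  let α₀ : Spec (CommRingCat.of (PowerSeries k)) ⟶ j.image :=
    Spec.map (CommRingCat.ofHom (φ : A →+* PowerSeries k)) ≫ j.image.fromSpecStalk g
  have hα₀r : α₀ ≫ (j.imageι ≫ r) =
      Spec.map (CommRingCat.ofHom (algebraMap k (PowerSeries k))) := by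
    change (_ ≫ _) ≫ _ = _
    rw [Category.assoc, ← hstr, ← Spec.map_comp]
    congr 1
    apply CommRingCat.hom_ext
    apply RingHom.ext
    intro c
    exact φ.commutes c
  have hα₀c : α₀ (closedPoint (PowerSeries k)) = g := by
    change j.image.fromSpecStalk g (Spec.map (CommRingCat.ofHom (φ : A →+* PowerSeries k))
      (closedPoint (PowerSeries k))) = g
    have h1 : Spec.map (CommRingCat.ofHom (φ : A →+* PowerSeries k))
      (closedPoint (PowerSeries k)) = closedPoint A :=
      Spec_closedPoint (f := CommRingCat.ofHom (φ : A →+* PowerSeries k))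
    rw [h1]
    exact Scheme.fromSpecStalk_closedPoint
  refine ⟨α₀ ≫ j.imageι, ?_, ?_, ?_⟩
  · rw [Category.assoc, hα₀r]
  · have hc : IsLocalHom (PowerSeries.constantCoeff (R := k)) := by
      constructor
      intro x hx
      exact PowerSeries.isUnit_iff_constantCoeff.2 hx
    refine ext_of_apply_closedPoint_eq r ?_ hz ?_
    · rw [Category.assoc, Category.assoc, hα₀r, ← Spec.map_comp, ← Spec.map_id]
      congr 1
    · have h1 : Spec.map (CommRingCat.ofHom (PowerSeries.constantCoeff (R := k)))
        (closedPoint k) = closedPoint (PowerSeries k) :=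
        Spec_closedPoint (f := CommRingCat.ofHom (PowerSeries.constantCoeff (R := k)))
      change j.imageι (α₀ (Spec.map (CommRingCat.ofHom (PowerSeries.constantCoeff (R := k)))
        (closedPoint k))) = _
      rw [h1, hα₀c, ← hz₀z]
      rfl
  · let gen : Spec (CommRingCat.of (FractionRing (PowerSeries k))) ⟶ j.image :=
      Spec.map (CommRingCat.ofHom (algebraMap (PowerSeries k)
          (FractionRing (PowerSeries k)))) ≫ α₀
    have hrange : Set.range gen ⊆ Set.range j.toImage := by
      rintro _ ⟨y, rfl⟩
      have h1 : j.image.fromSpecStalk g (Spec.map (CommRingCat.ofHom (φ : A →+* PowerSeries k))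
          (Spec.map (CommRingCat.ofHom (algebraMap (PowerSeries k)
          (FractionRing (PowerSeries k)))) y)) ∈ O := by
        refine haO ?_
        change a ∉ ((y.asIdeal.comap (algebraMap (PowerSeries k)
          (FractionRing (PowerSeries k)))).comap (φ : A →+* PowerSeries k) : Ideal A)
        rw [Ideal.mem_comap, Ideal.mem_comap]
        intro h2
        have h3 : algebraMap (PowerSeries k) (FractionRing (PowerSeries k))
            ((φ : A →+* PowerSeries k) a) = 0 := by
          by_contra hne
          exact y.isPrime.ne_top (Ideal.eq_top_of_isUnit_mem _ h2 (isUnit_iff_ne_zero.2 hne))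
        exact hφa (by
          have h4 := IsFractionRing.injective (PowerSeries k) (FractionRing (PowerSeries k))
            (h3.trans (map_zero _).symm)
          exact h4)
      exact h1
    refine ⟨IsOpenImmersion.lift j.toImage gen hrange, ?_⟩
    have h5 := IsOpenImmersion.lift_fac j.toImage gen hrange
    calc IsOpenImmersion.lift j.toImage gen hrange ≫ j
        = (IsOpenImmersion.lift j.toImage gen hrange ≫ j.toImage) ≫ j.imageι := by
          rw [Category.assoc, Scheme.Hom.toImage_imageι]
      _ = gen ≫ j.imageι := by rw [h5]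
      _ = _ := by
          change (_ ≫ _) ≫ _ = _
          rw [Category.assoc]

end K952.Arc
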