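import Mathlib.RingTheory.Smooth.AdicCompletion
import Mathlib.RingTheory.PowerSeries.Basic
import Mathlib.RingTheory.Ideal.Quotient.Operations
import Mathlib.RingTheory.AdicCompletion.Basic

/-!
# Two formal arcs through a smooth point extend to a formal surface germ
-/

set_option autoImplicit false
universe u

namespace K952.Germ

open PowerSeries

variable (k : Type u) [Field k]

/-- Power series in two variables. -/
abbrev R2 := PowerSeries (PowerSeries k)

/-- The ideal of the union of the axes. -/
noncomputable def J : Ideal (R2 k) := Ideal.span {(X : R2 k) * C (X : PowerSeries k)}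

variable {k}

theorem X_pow_dvd_coeff {f : R2 k} {i : ℕ} (g : PowerSeries k) (h : R2 k)
    (hf : f = C g * h) : g ∣ coeff i f := by
  rw [hf, coeff_C_mul]
  exact dvd_mul_right _ _

theorem mem_J_pow_iff (n : ℕ) (f : R2 k) :
    f ∈ J k ^ n ↔ ∀ i j, (i < n ∨ j < n) → coeff j (coeff i f) = 0 := by
  rw [J, Ideal.span_singleton_pow, Ideal.mem_span_singleton, mul_pow, ← map_pow]
  constructor
  · rintro ⟨g, rfl⟩ i j hij
    rcases hij with hi | hj
    · have h1 : (X : R2 k) ^ n ∣ X ^ n * C (X ^ n) * g := ⟨C (X ^ n) * g, by ring⟩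
      rw [X_pow_dvd_iff] at h1
      rw [h1 i hi, map_zero]
    · have h1 : (X : PowerSeries k) ^ n ∣ coeff i (X ^ n * C (X ^ n) * g : R2 k) :=
        X_pow_dvd_coeff (X ^ n) (X ^ n * g) (by ring)
      rw [X_pow_dvd_iff] at h1
      exact h1 j hj
  · intro h
    let g : R2 k := PowerSeries.mk fun i => PowerSeries.mk fun j => coeff (j + n) (coeff (i + n) f)
    refine ⟨g, ?_⟩
    ext i j
    rw [mul_assoc, coeff_X_pow_mul']
    split_ifs with hi
    · rw [coeff_C_mul, coeff_X_pow_mul']
      split_ifs with hj
      · simp only [g, coeff_mk]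
        rw [Nat.sub_add_cancel hi, Nat.sub_add_cancel hj]
      · exact h i j (Or.inr (not_le.1 hj))
    · rw [map_zero]
      exact h i j (Or.inl (not_le.1 hi))

instance isAdicComplete_J : IsAdicComplete (J k) (R2 k) where
  haus' := by
    intro f hf
    ext i j
    have h1 := hf (i + 1)
    rw [SModEq.zero, smul_eq_mul, Ideal.mul_top, mem_J_pow_iff] at h1
    rw [map_zero, map_zero]
    exact h1 i j (Or.inl (Nat.lt_succ_self i))
  prec' := by
    intro f hf
    refine ⟨PowerSeries.mk fun i => PowerSeries.mk fun j => coeff j (coeff i (f (min i j + 1))),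
      fun n => ?_⟩
    rw [SModEq.sub_mem, smul_eq_mul, Ideal.mul_top, mem_J_pow_iff]
    intro i j hij
    have h1 : min i j + 1 ≤ n := by
      rcases hij with h | h
      · exact (Nat.succ_le_succ (min_le_left i j)).trans h
      · exact (Nat.succ_le_succ (min_le_right i j)).trans h
    have h2 := hf h1
    rw [SModEq.sub_mem, smul_eq_mul, Ideal.mul_top, mem_J_pow_iff] at h2
    have h3 : i < min i j + 1 ∨ j < min i j + 1 := by
      rcases le_total i j with h | h
      · rw [min_eq_left h]
        exact Or.inl (Nat.lt_succ_self i)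
      · rw [min_eq_right h]
        exact Or.inr (Nat.lt_succ_self j)
    have h4 := h2 i j h3
    rw [map_sub, map_sub, coeff_mk, coeff_mk]
    rw [map_sub, map_sub] at h4
    rw [sub_eq_zero] at h4
    rw [h4, sub_self]

variable (k) in
/-- Restriction to the two axes. -/
noncomputable def π : R2 k →ₐ[k] PowerSeries k × PowerSeries k :=
  { (constantCoeff (R := PowerSeries k)).prod (PowerSeries.map (constantCoeff (R := k))) with
    commutes' := fun a => by
      change (constantCoeff (algebraMap k (R2 k) a),
        PowerSeries.map constantCoeff (algebraMap k (R2 k) a)) = _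
      have h1 : algebraMap k (R2 k) a = C (C a) := by
        rw [PowerSeries.algebraMap_apply, PowerSeries.algebraMap_apply]
        rfl
      rw [h1, constantCoeff_C, map_C, constantCoeff_C]
      rfl }

theorem π_apply (f : R2 k) : π k f = (constantCoeff f, PowerSeries.map constantCoeff f) := rfl

theorem ker_π : RingHom.ker (π k).rangeRestrict = J k := by
  ext f
  have h0 : f ∈ RingHom.ker (π k).rangeRestrict ↔ π k f = 0 := by
    rw [RingHom.mem_ker]
    exact ⟨fun h => congrArg Subtype.val h, fun h => Subtype.ext h⟩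
  rw [h0, ← pow_one (J k), mem_J_pow_iff, π_apply, Prod.mk_eq_zero]
  constructor
  · rintro ⟨h1, h2⟩ i j hij
    rcases hij with h | h
    · obtain rfl : i = 0 := Nat.lt_one_iff.1 h
      rw [coeff_zero_eq_constantCoeff_apply (R := PowerSeries k), h1, map_zero]
    · obtain rfl : j = 0 := Nat.lt_one_iff.1 h
      have h3 := congrArg (coeff i) h2
      rw [coeff_map, map_zero] at h3
      rw [coeff_zero_eq_constantCoeff_apply]
      exact h3
  · intro h
    constructor
    · ext j
      rw [map_zero, ← coeff_zero_eq_constantCoeff_apply]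
      exact h 0 j (Or.inl Nat.zero_lt_one)
    · ext i
      rw [coeff_map, map_zero, ← coeff_zero_eq_constantCoeff_apply]
      exact h i 0 (Or.inr Nat.zero_lt_one)

theorem mem_range {p q : PowerSeries k} (h : constantCoeff p = constantCoeff q) :
    (p, q) ∈ (π k).range := by
  refine ⟨C p + PowerSeries.map C q - C (C (constantCoeff p)), ?_⟩
  change π k _ = _
  rw [π_apply, Prod.mk.injEq]
  constructor
  · rw [map_sub, map_add, constantCoeff_C, constantCoeff_C,
      ← coeff_zero_eq_constantCoeff_apply (PowerSeries.map C q), coeff_map,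
      coeff_zero_eq_constantCoeff_apply, h]
    ring
  · rw [map_sub, map_add, map_C, map_C, constantCoeff_C]
    have h1 : PowerSeries.map (constantCoeff (R := k)) (PowerSeries.map C q) = q := by
      ext i
      rw [coeff_map, coeff_map, constantCoeff_C]
    rw [h1]
    ring

/-- Two formal arcs with the same origin in the spectrum of a formally smooth algebra extend to a
formal surface germ. -/
theorem exists_lift {A : Type u} [CommRing A] [Algebra k A] [Algebra.FormallySmooth k A]
    (φ₁ φ₂ : A →ₐ[k] PowerSeries k)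
    (h : ∀ a, constantCoeff (φ₁ a) = constantCoeff (φ₂ a)) :
    ∃ Φ : A →ₐ[k] R2 k, (∀ a, constantCoeff (Φ a) = φ₁ a) ∧
      ∀ a, PowerSeries.map constantCoeff (Φ a) = φ₂ a := by
  let ψ : A →ₐ[k] (π k).range := (φ₁.prod φ₂).codRestrict _ fun a => mem_range (h a)
  have hs : Function.Surjective (π k).rangeRestrict := (π k).rangeRestrict_surjective
  have hc : IsAdicComplete (RingHom.ker (π k).rangeRestrict) (R2 k) := by
    rw [ker_π]
    infer_instance
  obtain ⟨Φ, hΦ⟩ := Algebra.FormallySmooth.exists_mkₐ_comp_eq_of_isAdicComplete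
    (I := RingHom.ker (π k).rangeRestrict)
    (((Ideal.quotientKerAlgEquivOfSurjective hs).symm : _ →ₐ[k] _).comp ψ)
  have h1 : ∀ a, (π k).rangeRestrict (Φ a) = ψ a := by
    intro a
    have h2 := congrArg (fun g => Ideal.quotientKerAlgEquivOfSurjective hs (g a)) hΦ
    simp only [AlgHom.comp_apply] at h2
    rw [Ideal.Quotient.mkₐ_eq_mk] at h2
    have h3 : Ideal.quotientKerAlgEquivOfSurjective hs (Ideal.Quotient.mk _ (Φ a)) =
      (π k).rangeRestrict (Φ a) := rfl
    rw [h3] at h2
    rw [h2]
    exact (Ideal.quotientKerAlgEquivOfSurjective hs).apply_symm_apply _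
  refine ⟨Φ, fun a => ?_, fun a => ?_⟩
  · exact congrArg (fun z => z.1.1) (h1 a)
  · exact congrArg (fun z => z.1.2) (h1 a)

end K952.Germ
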