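import Groth.Agent.ZCorr.K952.Resol
import Groth.Agent.ZCorr.K952.Germ
import Groth.Agent.ZCorr.K952.Arc
import Groth.Agent.Ega4A.PowReg
import Groth.Agent.CalgB.PowSerMap

/-!
# Limits of a morphism along arcs with the same origin
-/

set_option autoImplicit false

universe u

open AlgebraicGeometry CategoryTheory CategoryTheory.Limits TopologicalSpace IsLocalRing

namespace K952.Lim

open K952.Link K952.Resol

variable {k : Type u} [Field k]

/-- The origin of the formal line. -/
noncomputable abbrev oo (k : Type u) [Field k] :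
    Spec (CommRingCat.of k) ⟶ Spec (CommRingCat.of (PowerSeries k)) :=
  Spec.map (CommRingCat.ofHom (PowerSeries.constantCoeff (R := k)))

/-- The first axis of the formal plane. -/
noncomputable abbrev ax₁ (k : Type u) [Field k] :
    Spec (CommRingCat.of (PowerSeries k)) ⟶ Spec (CommRingCat.of (Germ.R2 k)) :=
  Spec.map (CommRingCat.ofHom (PowerSeries.constantCoeff (R := PowerSeries k)))

/-- The second axis of the formal plane. -/
noncomputable abbrev ax₂ (k : Type u) [Field k] :
    Spec (CommRingCat.of (PowerSeries k)) ⟶ Spec (CommRingCat.of (Germ.R2 k)) :=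
  Spec.map (CommRingCat.ofHom (PowerSeries.map (PowerSeries.constantCoeff (R := k))))

theorem oo_str : oo k ≫ str k (PowerSeries k) = 𝟙 _ := by
  rw [← Spec.map_comp, ← Spec.map_id]
  rfl

theorem ax₁_str : ax₁ k ≫ str k (Germ.R2 k) = str k (PowerSeries k) := by
  rw [← Spec.map_comp]
  rfl

theorem ax₂_str : ax₂ k ≫ str k (Germ.R2 k) = str k (PowerSeries k) := by
  rw [← Spec.map_comp]
  congr 1

theorem oo_closedPoint : oo k (closedPoint k) = closedPoint (PowerSeries k) := by
  have hc : IsLocalHom (PowerSeries.constantCoeff (R := k)) := by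
    constructor
    intro x hx
    exact PowerSeries.isUnit_iff_constantCoeff.2 hx
  exact Spec_closedPoint (f := CommRingCat.ofHom (PowerSeries.constantCoeff (R := k)))

/-- An arc whose origin is in an open set is contained in it. -/
theorem range_subset {W : Scheme.{u}} (δ : Spec (CommRingCat.of (PowerSeries k)) ⟶ W)
    (V : W.Opens) (hV : (oo k ≫ δ) (closedPoint k) ∈ V) : Set.range δ ⊆ V := by
  let O : TopologicalSpace.Opens (PrimeSpectrum (PowerSeries k)) := δ ⁻¹ᵁ V
  have h1 : closedPoint (PowerSeries k) ∈ O := by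
    rw [← oo_closedPoint]
    exact hV
  have h2 : O = ⊤ := (IsLocalRing.closed_point_mem_iff (R := PowerSeries k)).1 h1
  rintro _ ⟨x, rfl⟩
  have h3 : (x : PrimeSpectrum (PowerSeries k)) ∈ O := by
    rw [h2]
    trivial
  exact h3

/-- Two arcs of a smooth scheme with the same origin extend to a formal plane. -/
theorem exists_germ {W : Scheme.{u}} (q : W ⟶ Spec (CommRingCat.of k)) [Smooth q]
    (δ₁ δ₂ : Spec (CommRingCat.of (PowerSeries k)) ⟶ W)
    (h₁ : δ₁ ≫ q = str k (PowerSeries k)) (h₂ : δ₂ ≫ q = str k (PowerSeries k))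
    (h : oo k ≫ δ₁ = oo k ≫ δ₂) :
    ∃ G : Spec (CommRingCat.of (Germ.R2 k)) ⟶ W, G ≫ q = str k (Germ.R2 k) ∧
      ax₁ k ≫ G = δ₁ ∧ ax₂ k ≫ G = δ₂ := by
  obtain ⟨V, hV, hw, -⟩ := exists_isAffineOpen_mem_and_subset
    (x := (oo k ≫ δ₁) (closedPoint k)) (U := ⊤) trivial
  let A : CommRingCat.{u} := Γ(W, V)
  let c : Spec A ⟶ W := hV.fromSpec
  let φ : CommRingCat.of k ⟶ A := Spec.preimage (c ≫ q)
  have hφ : Spec.map φ = c ≫ q := Spec.map_preimage _
  let _ : Algebra k A := φ.hom.toAlgebra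
  have hsm : Smooth (Spec.map φ) := by
    rw [hφ]
    infer_instance
  have hsm' : RingHom.Smooth φ.hom := (HasRingHomProperty.Spec_iff (P := @Smooth)).1 hsm
  have hfs : Algebra.FormallySmooth k A := by
    have h3 : Algebra.Smooth k A := hsm'
    infer_instance
  have key : ∀ δ : Spec (CommRingCat.of (PowerSeries k)) ⟶ W, δ ≫ q = str k (PowerSeries k) →
      (oo k ≫ δ) (closedPoint k) ∈ V → ∃ ψ : A →ₐ[k] PowerSeries k,
        Spec.map (CommRingCat.ofHom (ψ : A →+* PowerSeries k)) ≫ c = δ := by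
    intro δ hδ hδV
    have h3 : Set.range δ ⊆ Set.range c := by
      have h4 : Set.range c = V := hV.range_fromSpec
      rw [h4]
      exact range_subset δ V hδV
    let ε := IsOpenImmersion.lift c δ h3
    have hε : ε ≫ c = δ := IsOpenImmersion.lift_fac c δ h3
    let ψ : A ⟶ CommRingCat.of (PowerSeries k) := Spec.preimage ε
    have hψ : Spec.map ψ = ε := Spec.map_preimage _
    have h5 : φ ≫ ψ = CommRingCat.ofHom (algebraMap k (PowerSeries k)) := by
      apply Spec.map_injective
      rw [Spec.map_comp, hψ, hφ, ← Category.assoc, hε, hδ]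
    refine ⟨{ ψ.hom with commutes' := fun a => congrArg (fun g => g.hom a) h5 }, ?_⟩
    rw [← hε, ← hψ]
    rfl
  obtain ⟨ψ₁, hψ₁⟩ := key δ₁ h₁ hw
  obtain ⟨ψ₂, hψ₂⟩ := key δ₂ h₂ (h ▸ hw)
  have h6 : ∀ a, PowerSeries.constantCoeff (ψ₁ a) = PowerSeries.constantCoeff (ψ₂ a) := by
    have h7 : Spec.map (CommRingCat.ofHom (ψ₁ : A →+* PowerSeries k) ≫
        CommRingCat.ofHom (PowerSeries.constantCoeff (R := k))) =
        Spec.map (CommRingCat.ofHom (ψ₂ : A →+* PowerSeries k) ≫
        CommRingCat.ofHom (PowerSeries.constantCoeff (R := k))) := by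
      rw [← cancel_mono c, Spec.map_comp, Spec.map_comp, Category.assoc, Category.assoc, hψ₁,
        hψ₂, h]
    intro a
    exact congrArg (fun g => g.hom a) (Spec.map_injective h7)
  obtain ⟨Φ, hΦ₁, hΦ₂⟩ := Germ.exists_lift ψ₁ ψ₂ h6
  refine ⟨Spec.map (CommRingCat.ofHom (Φ : A →+* Germ.R2 k)) ≫ c, ?_, ?_, ?_⟩
  · rw [Category.assoc, ← hφ, ← Spec.map_comp]
    congr 1
    apply CommRingCat.hom_ext
    apply RingHom.ext
    intro a
    exact Φ.commutes a
  · rw [← hψ₁, ← Category.assoc, ← Spec.map_comp]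
    congr 2
    apply CommRingCat.hom_ext
    apply RingHom.ext
    intro a
    exact hΦ₁ a
  · rw [← hψ₂, ← Category.assoc, ← Spec.map_comp]
    congr 2
    apply CommRingCat.hom_ext
    apply RingHom.ext
    intro a
    exact hΦ₂ a

theorem isRegularLocalRing_R2 : IsRegularLocalRing (Germ.R2 k) := by
  have h1 : IsRegularLocalRing k := inferInstance
  have h2 := Groth.Agent.Ega4A.PowReg.isRegularLocalRing_powerSeries k
  exact Groth.Agent.Ega4A.PowReg.isRegularLocalRing_powerSeries (PowerSeries k)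

theorem ringKrullDim_R2 : ringKrullDim (Germ.R2 k) = 2 := by
  have h2 := Groth.Agent.Ega4A.PowReg.isRegularLocalRing_powerSeries k
  rw [Groth.Agent.CalgB.PowSerMap.ringKrullDim_powerSeries,
    Groth.Agent.CalgB.PowSerMap.ringKrullDim_powerSeries, ringKrullDim_eq_zero_of_field]
  norm_num

/-- The generic point of an arc not contained in the closed point. -/
theorem range_gen_subset {B : Type u} [CommRing B] [IsLocalRing B] (c : B →+* PowerSeries k) (b : B)
    (hb : b ∈ maximalIdeal B) (hcb : c b ≠ 0) :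
    Set.range (Spec.map (CommRingCat.ofHom (algebraMap (PowerSeries k)
      (FractionRing (PowerSeries k)))) ≫ Spec.map (CommRingCat.ofHom c)) ⊆ D B := by
  rintro _ ⟨x, rfl⟩ hx
  have h1 : ((PrimeSpectrum.comap c (PrimeSpectrum.comap (algebraMap (PowerSeries k)
      (FractionRing (PowerSeries k))) x)) : PrimeSpectrum B) = closedPoint B := hx
  have h2 : b ∈ (PrimeSpectrum.comap c (PrimeSpectrum.comap (algebraMap (PowerSeries k)
      (FractionRing (PowerSeries k))) x)).asIdeal := by
    rw [h1]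
    exact hb
  have h3 : algebraMap (PowerSeries k) (FractionRing (PowerSeries k)) (c b) ∈
      (x : PrimeSpectrum _).asIdeal := h2
  have h4 : algebraMap (PowerSeries k) (FractionRing (PowerSeries k)) (c b) ≠ 0 := fun h0 =>
    hcb (IsFractionRing.injective (PowerSeries k) (FractionRing (PowerSeries k))
      (h0.trans (map_zero _).symm))
  exact (x : PrimeSpectrum _).isPrime.ne_top
    (Ideal.eq_top_of_isUnit_mem _ h3 (isUnit_iff_ne_zero.2 h4))

variable [IsAlgClosed k]

/-- Limits of a morphism to a proper scheme at a smooth point are connected by chains of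
projective lines. -/
theorem conn_limits {W Sy : Scheme.{u}} [IsIntegral W] (q : W ⟶ Spec (CommRingCat.of k)) [Smooth q]
    (g : Sy ⟶ Spec (CommRingCat.of k)) [IsProper g]
    (U : W.Opens) (hU : (U : Set W).Nonempty) (F : (U : Scheme.{u}) ⟶ Sy)
    (hF : U.ι ≫ q = F ≫ g)
    (z₁ z₂ : Spec (CommRingCat.of k) ⟶ pullback q g)
    (hz₁ : z₁ ≫ pullback.fst q g ≫ q = 𝟙 _) (hz₂ : z₂ ≫ pullback.fst q g ≫ q = 𝟙 _)
    (hG₁ : z₁ (closedPoint k) ∈ closure (Set.range (pullback.lift U.ι F hF)))
    (hG₂ : z₂ (closedPoint k) ∈ closure (Set.range (pullback.lift U.ι F hF)))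
    (hsame : z₁ ≫ pullback.fst q g = z₂ ≫ pullback.fst q g) :
    Conn g (z₁ ≫ pullback.snd q g) (z₂ ≫ pullback.snd q g) := by
  have hN : IsLocallyNoetherian W := LocallyOfFiniteType.isLocallyNoetherian q
  have hne : Nonempty U := ⟨⟨_, hU.some_mem⟩⟩
  have hint : IsIntegral (U : Scheme.{u}) := inferInstance
  let j := pullback.lift U.ι F hF
  have hj : j ≫ pullback.fst q g = U.ι := pullback.lift_fst _ _ _
  have hj' : j ≫ pullback.snd q g = F := pullback.lift_snd _ _ _
  have hji : IsImmersion j := by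
    have h1 : IsImmersion (j ≫ pullback.fst q g) := by rw [hj]; infer_instance
    exact IsImmersion.of_comp j (pullback.fst q g)
  have hjq : QuasiCompact j := by
    have h1 : QuasiCompact (j ≫ pullback.fst q g) := by rw [hj]; infer_instance
    exact QuasiCompact.of_comp j (pullback.fst q g)
  obtain ⟨α₁, hα₁, hα₁z, β₁, hβ₁⟩ := Arc.exists_arc (pullback.fst q g ≫ q) j z₁ hz₁ hG₁
  obtain ⟨α₂, hα₂, hα₂z, β₂, hβ₂⟩ := Arc.exists_arc (pullback.fst q g ≫ q) j z₂ hz₂ hG₂
  obtain ⟨G, hGq, hG1, hG2⟩ := exists_germ q (α₁ ≫ pullback.fst q g) (α₂ ≫ pullback.fst q g)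
    (by rw [Category.assoc, hα₁]) (by rw [Category.assoc, hα₂])
    (by rw [← Category.assoc, ← Category.assoc, hα₁z, hα₂z, hsame])
  let B := Germ.R2 k
  have hB : IsRegularLocalRing B := isRegularLocalRing_R2
  let V := G ⁻¹ᵁ U
  let F' : (V : Scheme.{u}) ⟶ Sy := (G ∣_ U) ≫ F
  have hF' : F' ≫ g = V.ι ≫ str k B := by
    change ((G ∣_ U) ≫ F) ≫ g = _
    rw [Category.assoc, ← hF, ← Category.assoc, morphismRestrict_ι, Category.assoc, hGq]
  have key : ∀ (α : Spec (CommRingCat.of (PowerSeries k)) ⟶ pullback q g)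
      (β : Spec (CommRingCat.of (FractionRing (PowerSeries k))) ⟶ (U : Scheme.{u}))
      (γ : Spec (CommRingCat.of (PowerSeries k)) ⟶ Spec (CommRingCat.of B)),
      γ ≫ G = α ≫ pullback.fst q g →
      β ≫ j = Spec.map (CommRingCat.ofHom (algebraMap (PowerSeries k)
          (FractionRing (PowerSeries k)))) ≫ α →
      ∃ β' : Spec (CommRingCat.of (FractionRing (PowerSeries k))) ⟶ (V : Scheme.{u}),
        β' ≫ V.ι = Spec.map (CommRingCat.ofHom (algebraMap (PowerSeries k)
          (FractionRing (PowerSeries k)))) ≫ γ ∧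
        β' ≫ F' = Spec.map (CommRingCat.ofHom (algebraMap (PowerSeries k)
          (FractionRing (PowerSeries k)))) ≫ (α ≫ pullback.snd q g) := by
    intro α β γ hγ hβ
    have h1 : (Spec.map (CommRingCat.ofHom (algebraMap (PowerSeries k)
        (FractionRing (PowerSeries k)))) ≫ γ) ≫ G = β ≫ U.ι := by
      rw [Category.assoc, hγ, ← Category.assoc, ← hβ, Category.assoc, hj]
    have h2 : Set.range (Spec.map (CommRingCat.ofHom (algebraMap (PowerSeries k)
        (FractionRing (PowerSeries k)))) ≫ γ) ⊆ Set.range V.ι := by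
      rw [Scheme.Opens.range_ι]
      rintro _ ⟨x, rfl⟩
      change G _ ∈ U
      rw [← Scheme.Hom.comp_apply, h1]
      exact (β x).2
    refine ⟨IsOpenImmersion.lift V.ι _ h2, IsOpenImmersion.lift_fac V.ι _ h2, ?_⟩
    have h3 : IsOpenImmersion.lift V.ι _ h2 ≫ (G ∣_ U) = β := by
      rw [← cancel_mono U.ι, Category.assoc, morphismRestrict_ι, ← Category.assoc,
        IsOpenImmersion.lift_fac, h1]
    change _ ≫ (G ∣_ U) ≫ F = _
    rw [← Category.assoc, h3, ← hj', ← Category.assoc, hβ, Category.assoc]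
  obtain ⟨β₁', hβ₁', hβ₁''⟩ := key α₁ β₁ (ax₁ k) hG1 hβ₁
  obtain ⟨β₂', hβ₂', hβ₂''⟩ := key α₂ β₂ (ax₂ k) hG2 hβ₂
  have hV : (V : Set (Spec (CommRingCat.of B))).Nonempty := by
    let x : (Spec (CommRingCat.of (FractionRing (PowerSeries k))) : Scheme.{u}) :=
      closedPoint (FractionRing (PowerSeries k))
    exact ⟨_, (β₁' x).2⟩
  have h5 := conn_of_arcs B ringKrullDim_R2 g V hV F' hF' (PowerSeries k) (oo k) oo_str
    (ax₁ k) (ax₂ k) ax₁_str ax₂_str (α₁ ≫ pullback.snd q g) (α₂ ≫ pullback.snd q g)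
    (by rw [Category.assoc, ← pullback.condition, hα₁])
    (by rw [Category.assoc, ← pullback.condition, hα₂])
    β₁' β₂' hβ₁' hβ₂' hβ₁'' hβ₂''
    (range_gen_subset _ (PowerSeries.C (PowerSeries.X : PowerSeries k)) (by
      rw [mem_maximalIdeal, mem_nonunits_iff, PowerSeries.isUnit_iff_constantCoeff,
        PowerSeries.constantCoeff_C, PowerSeries.isUnit_iff_constantCoeff,
        PowerSeries.constantCoeff_X]
      exact not_isUnit_zero) (by
      rw [PowerSeries.constantCoeff_C]
      exact PowerSeries.X_ne_zero))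
    (range_gen_subset _ (PowerSeries.X : PowerSeries (PowerSeries k)) (by
      rw [mem_maximalIdeal, mem_nonunits_iff, PowerSeries.isUnit_iff_constantCoeff,
        PowerSeries.constantCoeff_X]
      exact not_isUnit_zero) (by
      rw [PowerSeries.map_X]
      exact PowerSeries.X_ne_zero))
  rwa [← Category.assoc, ← Category.assoc, hα₁z, hα₂z] at h5

end K952.Lim
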