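import Groth.Agent.ZCorr.K952.P1Sym
import Groth.Agent.ZCorr.K952.Lim
import Groth.Agent.ZeroCyc.K754.QuotProj

/-!
# Chains of rational curves in symmetric products and rational equivalence
-/

set_option autoImplicit false
universe u

open CategoryTheory CategoryTheory.Limits AlgebraicGeometry IsLocalRing AlgEqCyc

namespace K952.SymConn

open Basic Pts K952.Link Groth.Agent.CycA.MovRatZ Groth.Agent

variable {k : Type u} [Field k] [IsAlgClosed k] {X : Scheme.{u}}
  (p : X ⟶ Spec (CommRingCat.of k)) [IsProper p]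

omit [IsProper p] in
/-- Every rational point of a symmetric product has a cycle. -/
theorem exists_cycle (n : ℕ) {Sy : Scheme.{u}} (qs : SymProd.fibPow p n ⟶ Sy)
    (gs : Sy ⟶ Spec (CommRingCat.of k)) (hS : SymProd.IsSymProd p n qs gs)
    (y : Spec (CommRingCat.of k) ⟶ Sy) :
    ∃ γ : AlgebraicCycle X ℤ, ZCorr.IsCycleOfSymPt p n qs y ⇑γ := by
  have hint : IsIntegralHom qs := Groth.Agent.Sga1.QuotBasic.isIntegralHom_of_isQuot hS.isQuot
  obtain ⟨t, ht⟩ := LiftPt.exists_lift qs (Groth.Agent.Sga1.QuotBasic.surjective_of_isQuot hS.isQuot) y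
  let φ : X → ℤ := fun x =>
    (Nat.card {i : Fin n // (t ≫ WidePullback.π (fun _ => p) i) (closedPoint k) = x} : ℤ)
  have hφ : (Function.support φ).Finite := by
    refine (Set.finite_range fun i : Fin n =>
      (t ≫ WidePullback.π (fun _ => p) i) (closedPoint k)).subset fun x hx => ?_
    by_contra hne
    apply hx
    change ((Nat.card _ : ℕ) : ℤ) = 0
    have h1 : IsEmpty {i : Fin n // (t ≫ WidePullback.π (fun _ => p) i) (closedPoint k) = x} :=
      ⟨fun i => hne ⟨i.1, i.2⟩⟩
    rw [Nat.card_of_isEmpty]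
    rfl
  obtain ⟨γ, hγ⟩ := exists_cycle_of_finite_support hφ
  exact ⟨γ, t, ht, fun x => by rw [hγ]⟩

omit [IsAlgClosed k] in
theorem isProper_sym (n : ℕ) {Sy : Scheme.{u}} (qs : SymProd.fibPow p n ⟶ Sy)
    (gs : Sy ⟶ Spec (CommRingCat.of k)) (hS : SymProd.IsSymProd p n qs gs) : IsProper gs := by
  have h1 : IsProper (WidePullback.base (fun _ : Fin n => p)) := inferInstance
  exact K754.QuotProj.isProper_of_isQuot hS.isQuot hS.over (fun σ => by
    rw [SymProd.permActU_hom, SymProd.permHom_base])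

variable [CharZero k]

/-- Rational points of a symmetric product joined by a chain of rational curves have rationally
equivalent cycles. -/
theorem ratEquiv_of_conn (n : ℕ) {Sy : Scheme.{u}} (qs : SymProd.fibPow p n ⟶ Sy)
    (gs : Sy ⟶ Spec (CommRingCat.of k)) (hS : SymProd.IsSymProd p n qs gs)
    {y y' : Spec (CommRingCat.of k) ⟶ Sy} (h : Conn gs y y') {α β : AlgebraicCycle X ℤ}
    (hα : ZCorr.IsCycleOfSymPt p n qs y ⇑α) (hβ : ZCorr.IsCycleOfSymPt p n qs y' ⇑β) :
    Cyc.RatEquiv (fun x => (dm p x : ℤ)) 0 α β := by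
  induction h generalizing β with
  | refl =>
    have h1 : α = β := DFunLike.coe_injective (SymUniq.eq_of_isCycleOfSymPt hS hα hβ)
    rw [h1]
    exact CycB.DivFun.ratEquiv_refl _
  | @tail b c h1 h2 ih =>
    obtain ⟨γ, hγ⟩ := exists_cycle p n qs gs hS b
    obtain ⟨f, t₀, t₁, hf, h₀, h₁, rfl, rfl⟩ := h2
    refine CycB.DivFun.RatEquiv.trans (ih hγ) ?_
    exact P1Sym.ratEquiv_of_map p (γ := 0) n qs gs hS f t₀ t₁ hf h₀ h₁
      (by rwa [add_zero]) (by rwa [add_zero])

end K952.SymConn
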