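import Groth.Agent.ZCorr.K952.PnPts
import Groth.Agent.ZCorr.K952.FibCycle
import Groth.Agent.CycA.MovFin
import Groth.Agent.CohqA.ProjDim
import Mathlib.AlgebraicGeometry.Morphisms.Proper

/-!
# Rational curves and zero cycles
-/

set_option autoImplicit false

universe u

open AlgebraicGeometry CategoryTheory CategoryTheory.Limits TopologicalSpace

namespace K952.RatCurve

open Groth.Agent Basic Pts PnPts

variable {X Y : Scheme.{u}} {K : Type u} [Field K]

/-- A morphism from a proper integral scheme over a field to an affine scheme is constant. -/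
theorem subsingleton_range (q : Y ⟶ Spec (CommRingCat.of K)) [IsProper q] [IsIntegral Y]
    {U : Scheme.{u}} [IsAffine U] (g : Y ⟶ U) : (Set.range g).Subsingleton := by
  have hF := isField_of_universallyClosed K q
  have h1 : g ≫ U.isoSpec.hom = Y.toSpecΓ ≫ Spec.map (g.appTop) :=
    Scheme.toSpecΓ_naturality g
  have h2 : ∀ a b : (Spec Γ(Y, ⊤) : Scheme.{u}), a = b := by
    intro a b
    let := hF.toField
    exact Subsingleton.elim (α := PrimeSpectrum Γ(Y, ⊤)) a b
  have h3 : ∀ a b : Y, g a = g b := by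
    intro a b
    apply U.isoSpec.hom.isOpenEmbedding.injective
    rw [← Scheme.Hom.comp_apply, ← Scheme.Hom.comp_apply, h1, Scheme.Hom.comp_apply,
      Scheme.Hom.comp_apply, h2 (Y.toSpecΓ a) (Y.toSpecΓ b)]
  rintro _ ⟨a, rfl⟩ _ ⟨b, rfl⟩
  exact h3 a b

/-- A nonconstant morphism from a proper integral scheme meets the complement of every affine
open. -/
theorem range_inter_nonempty (q : Y ⟶ Spec (CommRingCat.of K)) [IsProper q] [IsIntegral Y]
    (g : Y ⟶ X) (hg : (Set.range g).Nontrivial) (U : X.Opens) (hU : IsAffineOpen U) :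
    (Set.range g ∩ (U : Set X)ᶜ).Nonempty := by
  by_contra hcon
  have h1 : Set.range g ⊆ Set.range U.ι := by
    rw [Scheme.Opens.range_ι]
    intro x hx
    by_contra hxU
    exact hcon ⟨x, hx, hxU⟩
  have : IsAffine (U : Scheme.{u}) := hU
  have h2 := subsingleton_range q (IsOpenImmersion.lift U.ι g h1)
  have h3 : (Set.range g).Subsingleton := by
    rintro _ ⟨a, rfl⟩ _ ⟨b, rfl⟩
    have h4 := h2 ⟨a, rfl⟩ ⟨b, rfl⟩
    have h5 : ∀ c, g c = U.ι (IsOpenImmersion.lift U.ι g h1 c) := fun c => by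
      rw [← Scheme.Hom.comp_apply, IsOpenImmersion.lift_fac]
    rw [h5, h5, h4]
  exact Set.not_nontrivial_iff.2 h3 hg

variable [IsAlgClosed K] (p : X ⟶ Spec (CommRingCat.of K)) [IsProper p]

/-- Closed points on a rational curve are rationally equivalent. -/
theorem ptEq_of_range (g : CohB1.ProjSpace 1 K ⟶ X) (hg : g ≫ p = CohB1.ProjSpace.toSpec 1 K)
    {x y : X} (hx : x ∈ Set.range g) (hy : y ∈ Set.range g) (hxc : IsClosed ({x} : Set X))
    (hyc : IsClosed ({y} : Set X)) : PtEq p x y := by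
  have hP : IsProper (CohB1.ProjSpace.toSpec 1 K) := Dix.ProjProper.isProper_toSpec _ _
  have hJ : JacobsonSpace (CohB1.ProjSpace 1 K) :=
    FibCycle.jacobsonSpace_of_field (CohB1.ProjSpace.toSpec 1 K)
  have hgp : IsProper g := by
    have : IsProper (g ≫ p) := by rw [hg]; exact hP
    exact IsProper.of_comp g p
  have hcX : CompactSpace X := QuasiCompact.compactSpace_of_compactSpace p
  have key : ∀ x : X, x ∈ Set.range g → IsClosed ({x} : Set X) →
      ∃ a, g a = x ∧ IsClosed ({a} : Set (CohB1.ProjSpace 1 K)) := by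
    intro x hx hxc
    obtain ⟨b, hb⟩ := hx
    obtain ⟨a, ha, ha'⟩ := nonempty_inter_closedPoints (Z := g ⁻¹' {x}) ⟨b, hb⟩
      (hxc.preimage g.continuous).isLocallyClosed
    exact ⟨a, ha, ha'⟩
  obtain ⟨a, rfl, ha⟩ := key x hx hxc
  obtain ⟨b, rfl, hb⟩ := key y hy hyc
  have h1 := ptEq_projSpace (K := K) 1 a b ((dm_eq_zero_iff_isClosed _ a).2 ha)
    ((dm_eq_zero_iff_isClosed _ b).2 hb)
  rw [← hg] at h1
  exact PtEq.push h1

/-- Closed points of a connected union of rational curves of dimension one are rationally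
equivalent. -/
theorem ptEq_of_connected (H : Set X) (hHc : IsClosed H) (hconn : _root_.IsConnected H)
    (hdim : ∀ x ∈ H, dm p x ≤ 1)
    (hrat : ∀ h ∈ H, IsClosed ({h} : Set X) → ∃ g : CohB1.ProjSpace 1 K ⟶ X,
      g ≫ p = CohB1.ProjSpace.toSpec 1 K ∧ (Set.range g).Nontrivial ∧ h ∈ Set.range g ∧
        Set.range g ⊆ H)
    {x y : X} (hx : x ∈ H) (hy : y ∈ H) (hxc : IsClosed ({x} : Set X))
    (hyc : IsClosed ({y} : Set X)) : PtEq p x y := by
  classical
  have hP : IsProper (CohB1.ProjSpace.toSpec 1 K) := Dix.ProjProper.isProper_toSpec _ _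
  have hJ : JacobsonSpace X := FibCycle.jacobsonSpace_of_field p
  have hcX : CompactSpace X := QuasiCompact.compactSpace_of_compactSpace p
  have hN : IsLocallyNoetherian X := (isSetup_dm p).1
  have hNX : NoetherianSpace X := by
    have : IsNoetherian X := {}
    infer_instance
  have hint : IsIntegral (CohB1.ProjSpace 1 K) := inferInstance
  -- the generic points of the rational curves
  let T : Set X := {τ | ∃ g : CohB1.ProjSpace 1 K ⟶ X, g ≫ p = CohB1.ProjSpace.toSpec 1 K ∧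
    Set.range g = closure {τ} ∧ Set.range g ⊆ H ∧ (Set.range g).Nontrivial}
  have hT : T.Finite := by
    refine (CycA.MovFin.finite_maximal hHc).subset ?_
    rintro τ ⟨g, hg, hr, hrH, hnt⟩
    have hτ : τ ∈ H := hrH (hr ▸ subset_closure rfl)
    refine ⟨hτ, fun y hy hyτ => ?_⟩
    by_contra hne
    have h1 := dm_lt_of_specializes p hyτ hne
    have h2 := hdim y hy
    have h3 : dm p τ = 0 := by omega
    rw [dm_eq_zero_iff_isClosed, ← closure_subset_iff_isClosed, ← hr] at h3
    exact Set.not_nontrivial_iff.2 (Set.subsingleton_of_subset_singleton h3) hnt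
  have hcover : ∀ h ∈ H, IsClosed ({h} : Set X) → ∃ τ ∈ T, h ∈ closure ({τ} : Set X) := by
    intro h hh hhc
    obtain ⟨g, hg, hnt, hhg, hgH⟩ := hrat h hh hhc
    have hgp : IsProper g := by
      have : IsProper (g ≫ p) := by rw [hg]; exact hP
      exact IsProper.of_comp g p
    have h1 : Set.range g = closure {g (genericPoint (CohB1.ProjSpace 1 K))} := by
      refine subset_antisymm ?_ ?_
      · rintro _ ⟨a, rfl⟩
        exact specializes_iff_mem_closure.1 ((genericPoint_specializes a).map g.continuous)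
      · exact g.isClosedMap.isClosed_range.closure_subset_iff.2 (by simp)
    exact ⟨_, ⟨g, hg, h1, hgH, hnt⟩, h1 ▸ hhg⟩
  -- points on one of the curves are equivalent
  have hsame : ∀ τ ∈ T, ∀ a ∈ closure ({τ} : Set X), ∀ b ∈ closure ({τ} : Set X),
      IsClosed ({a} : Set X) → IsClosed ({b} : Set X) → PtEq p a b := by
    rintro τ ⟨g, hg, hr, -, -⟩ a ha b hb hac hbc
    rw [← hr] at ha hb
    exact ptEq_of_range p g hg ha hb hac hbc
  let A : Set X := ⋃ τ ∈ {τ ∈ T | ∃ a ∈ closure ({τ} : Set X), IsClosed ({a} : Set X) ∧ PtEq p a x},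
    closure {τ}
  let B : Set X := ⋃ τ ∈ {τ ∈ T | ¬ ∃ a ∈ closure ({τ} : Set X), IsClosed ({a} : Set X) ∧
    PtEq p a x}, closure {τ}
  have hA : IsClosed A := (hT.subset fun τ hτ => hτ.1).isClosed_biUnion fun τ _ => isClosed_closure
  have hB : IsClosed B := (hT.subset fun τ hτ => hτ.1).isClosed_biUnion fun τ _ => isClosed_closure
  have hAB : H ⊆ A ∪ B := by
    have h1 : H ∩ closedPoints X ⊆ A ∪ B := by
      rintro h ⟨hh, hhc⟩
      obtain ⟨τ, hτ, hhτ⟩ := hcover h hh hhc
      by_cases hgood : ∃ a ∈ closure ({τ} : Set X), IsClosed ({a} : Set X) ∧ PtEq p a x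
      · exact Or.inl (Set.mem_biUnion ⟨hτ, hgood⟩ hhτ)
      · exact Or.inr (Set.mem_biUnion ⟨hτ, hgood⟩ hhτ)
    have h2 := closure_mono h1
    rw [JacobsonSpace.closure_inter_closedPoints_eq_closure hHc.isLocallyClosed, hHc.closure_eq,
      (hA.union hB).closure_eq] at h2
    exact h2
  have hgood : ∀ c ∈ A, IsClosed ({c} : Set X) → PtEq p c x := by
    intro c hc hcc
    obtain ⟨τ, ⟨hτ, a, ha, hac, hax⟩, hcτ⟩ := Set.mem_iUnion₂.1 hc
    exact (hsame τ hτ c hcτ a ha hcc hac).trans hax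
  have hdisj : ¬ (H ∩ (A ∩ B)).Nonempty := by
    intro hne
    obtain ⟨c, ⟨-, hcA, hcB⟩, hcc⟩ := nonempty_inter_closedPoints hne
      (hHc.inter (hA.inter hB)).isLocallyClosed
    obtain ⟨τ, ⟨hτ, hnot⟩, hcτ⟩ := Set.mem_iUnion₂.1 hcB
    exact hnot ⟨c, hcτ, hcc, hgood c hcA hcc⟩
  have hxA : x ∈ A := by
    obtain ⟨τ, hτ, hxτ⟩ := hcover x hx hxc
    exact Set.mem_biUnion (show τ ∈ {τ ∈ T | _} from ⟨hτ, x, hxτ, hxc, PtEq.refl p x⟩) hxτ
  have hyA : y ∈ A := by
    by_contra hyA
    have hyB : y ∈ B := (hAB hy).resolve_left hyA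
    exact hdisj (isPreconnected_closed_iff.1 hconn.isPreconnected A B hA hB hAB ⟨x, hx, hxA⟩
      ⟨y, hy, hyB⟩)
  exact (hgood y hyA hyc).symm

/-- **Main result**: closed points on rational curves are rationally equivalent. -/
theorem ptEq [IsIntegral X] (U : X.Opens) (hU : IsAffineOpen U) (hUne : (U : Set X).Nonempty)
    (hconn : _root_.IsConnected (U : Set X)ᶜ)
    (hdim : dm p (genericPoint X) ≤ 2)
    (hrat : ∀ h ∈ (U : Set X)ᶜ, IsClosed ({h} : Set X) → ∃ g : CohB1.ProjSpace 1 K ⟶ X,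
      g ≫ p = CohB1.ProjSpace.toSpec 1 K ∧ (Set.range g).Nontrivial ∧ h ∈ Set.range g ∧
        Set.range g ⊆ (U : Set X)ᶜ)
    (x y : X) (hx : IsClosed ({x} : Set X)) (hy : IsClosed ({y} : Set X))
    (hxr : ∃ g : CohB1.ProjSpace 1 K ⟶ X, g ≫ p = CohB1.ProjSpace.toSpec 1 K ∧
      (Set.range g).Nontrivial ∧ x ∈ Set.range g)
    (hyr : ∃ g : CohB1.ProjSpace 1 K ⟶ X, g ≫ p = CohB1.ProjSpace.toSpec 1 K ∧
      (Set.range g).Nontrivial ∧ y ∈ Set.range g) : PtEq p x y := by
  have hP : IsProper (CohB1.ProjSpace.toSpec 1 K) := Dix.ProjProper.isProper_toSpec _ _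
  have hJ : JacobsonSpace X := FibCycle.jacobsonSpace_of_field p
  have hgU : genericPoint X ∈ U :=
    ((genericPoint_spec X).mem_open_set_iff U.isOpen).2 (by simpa using hUne)
  have hd : ∀ x ∈ (U : Set X)ᶜ, dm p x ≤ 1 := by
    intro x hx
    have h1 : genericPoint X ≠ x := by
      rintro rfl
      exact hx hgU
    have h2 := dm_lt_of_specializes p (genericPoint_specializes x) h1
    omega
  have key : ∀ x : X, IsClosed ({x} : Set X) → (∃ g : CohB1.ProjSpace 1 K ⟶ X,
      g ≫ p = CohB1.ProjSpace.toSpec 1 K ∧ (Set.range g).Nontrivial ∧ x ∈ Set.range g) →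
      ∃ h ∈ (U : Set X)ᶜ, IsClosed ({h} : Set X) ∧ PtEq p x h := by
    rintro x hxc ⟨g, hg, hnt, hxg⟩
    have hgp : IsProper g := by
      have : IsProper (g ≫ p) := by rw [hg]; exact hP
      exact IsProper.of_comp g p
    have h1 := range_inter_nonempty (CohB1.ProjSpace.toSpec 1 K) g hnt U hU
    obtain ⟨h, ⟨hhg, hhU⟩, hhc⟩ := nonempty_inter_closedPoints h1
      (g.isClosedMap.isClosed_range.inter U.isOpen.isClosed_compl).isLocallyClosed
    exact ⟨h, hhU, hhc, ptEq_of_range p g hg hxg hhg hxc hhc⟩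
  obtain ⟨h, hh, hhc, hxh⟩ := key x hx hxr
  obtain ⟨h', hh', hhc', hyh⟩ := key y hy hyr
  exact (hxh.trans (ptEq_of_connected p _ U.isOpen.isClosed_compl hconn hd hrat hh hh' hhc
    hhc')).trans hyh.symm

end K952.RatCurve
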