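import Groth.Agent.ZCorr.K952.Pts
import Groth.Agent.CycB.PushLocal

/-!
# Zero cycles and modifications of a point
-/

set_option autoImplicit false

universe u

open AlgebraicGeometry CategoryTheory CategoryTheory.Limits TopologicalSpace

namespace K952.BlowPt

open Groth.Agent Groth.Agent.CycA.MovRatZ Basic Pts

variable {X X' : Scheme.{u}} {K : Type u} [Field K]

/-- The open complement of a closed point. -/
def compl {x : X} (hx : IsClosed ({x} : Set X)) : X.Opens := ⟨{x}ᶜ, hx.isOpen_compl⟩

theorem mem_compl {x : X} (hx : IsClosed ({x} : Set X)) {y : X} : y ∈ compl hx ↔ y ≠ x := Iff.rfl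

section Iso

variable (π : X' ⟶ X) {x : X} (hx : IsClosed ({x} : Set X)) [IsIso (π ∣_ compl hx)]

include hx

theorem eq_of_apply_eq {a b : X'} (ha : π a ≠ x) (h : π a = π b) : a = b := by
  let i := (π ⁻¹ᵁ compl hx).ι
  have hj : IsOpenImmersion ((π ∣_ compl hx) ≫ (compl hx).ι) := inferInstance
  obtain ⟨a', rfl⟩ : ∃ a', i a' = a := ⟨⟨a, ha⟩, rfl⟩
  obtain ⟨b', rfl⟩ : ∃ b', i b' = b := ⟨⟨b, (h ▸ ha : π b ≠ x)⟩, rfl⟩
  have h1 : ((π ∣_ compl hx) ≫ (compl hx).ι) a' = ((π ∣_ compl hx) ≫ (compl hx).ι) b' := by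
    rw [morphismRestrict_ι]
    exact h
  rw [((π ∣_ compl hx) ≫ (compl hx).ι).isOpenEmbedding.injective h1]

theorem exists_apply_eq {y : X} (hy : y ≠ x) : ∃ a, π a = y := by
  have hs : Surjective (π ∣_ compl hx) := inferInstance
  obtain ⟨a, ha⟩ := hs.surj ⟨y, hy⟩
  refine ⟨(π ⁻¹ᵁ compl hx).ι a, ?_⟩
  rw [← Scheme.Hom.comp_apply, ← morphismRestrict_ι, Scheme.Hom.comp_apply, ha]
  rfl

theorem isIso_stalkMap {a : X'} (ha : π a ≠ x) : IsIso (π.stalkMap a) := by
  let a' : (π ⁻¹ᵁ compl hx : Scheme.{u}) := ⟨a, ha⟩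
  have h1 : IsIso ((π ∣_ compl hx).stalkMap a') := inferInstance
  exact ((MorphismProperty.isomorphisms CommRingCat).arrow_mk_iso_iff
    (morphismRestrictStalkMap π (compl hx) ⟨a, ha⟩)).1 h1

theorem residueFieldMap_surjective {a : X'} (ha : π a ≠ x) :
    Function.Surjective (π.residueFieldMap a).hom := by
  have h1 := isIso_stalkMap π hx ha
  intro b
  obtain ⟨c, rfl⟩ := X'.residue_surjective a b
  obtain ⟨d, rfl⟩ := ((ConcreteCategory.isIso_iff_bijective (π.stalkMap a)).1 h1).2 c
  refine ⟨X.residue (π a) d, ?_⟩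
  have h2 := Scheme.residue_residueFieldMap π a
  have h3 := congrArg (fun f => f.hom d) h2
  exact h3

theorem dm_eq (q : X ⟶ Spec (CommRingCat.of K)) [LocallyOfFiniteType q] [LocallyOfFiniteType π]
    {a : X'} (ha : π a ≠ x) : dm (π ≫ q) a = dm q (π a) := by
  let a' : (π ⁻¹ᵁ compl hx : Scheme.{u}) := ⟨a, ha⟩
  have hj : IsOpenImmersion ((π ∣_ compl hx) ≫ (compl hx).ι) := inferInstance
  have h1 := dm_comp_of_isPreimmersion ((π ⁻¹ᵁ compl hx).ι) (π ≫ q) a'
  have h2 := dm_comp_of_isPreimmersion ((π ∣_ compl hx) ≫ (compl hx).ι) q a'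
  rw [morphismRestrict_ι, Category.assoc] at h2
  rw [h1] at h2
  exact h2

end Iso

variable [IsAlgClosed K] (π : X' ⟶ X) (q : X ⟶ Spec (CommRingCat.of K)) [IsProper π] [IsProper q]
  {x : X} (hx : IsClosed ({x} : Set X)) [IsIso (π ∣_ compl hx)]

/-- The pushforward of zero cycles. -/
noncomputable def push (φ : X' → ℤ) (y : X) : ℤ := ∑ᶠ a ∈ {a : X' | π a = y}, φ a

omit [IsProper π] in
theorem push_add {φ ψ : X' → ℤ} (hφ : (Function.support φ).Finite)
    (hψ : (Function.support ψ).Finite) : push π (φ + ψ) = push π φ + push π ψ := by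
  funext y
  exact finsum_mem_add_distrib' (hφ.subset Set.inter_subset_right)
    (hψ.subset Set.inter_subset_right)

omit [IsProper π] in
theorem push_neg (φ : X' → ℤ) : push π (-φ) = -push π φ := by
  funext y
  change ∑ᶠ a ∈ {a : X' | π a = y}, -φ a = -∑ᶠ a ∈ {a : X' | π a = y}, φ a
  simp only [finsum_neg_distrib]

omit [IsProper π] in
theorem push_zero : push π 0 = 0 := by
  funext y
  change ∑ᶠ a ∈ {a : X' | π a = y}, (0 : ℤ) = 0
  simp

include hx in
/-- Zero cycles rationally equivalent to zero lift. -/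
theorem exists_lift {φ : X → ℤ} (h : φ ∈ RZ q) : ∃ φ' ∈ RZ (π ≫ q), push π φ' = φ := by
  have hcX : CompactSpace X := QuasiCompact.compactSpace_of_compactSpace q
  have hcX' : CompactSpace X' := QuasiCompact.compactSpace_of_compactSpace π
  have hX := isSetup_dm (π ≫ q)
  have hY := isSetup_dm q
  have hNY : IsLocallyNoetherian X := hY.1
  have hx0 : dm q x = 0 := (dm_eq_zero_iff_isClosed q x).2 hx
  induction h using AddSubgroup.closure_induction with
  | mem φ hφ =>
    obtain ⟨ξ, g, hξ, hg, rfl⟩ := hφ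
    have hξ1 : dm q ξ = 1 := by
      have h1 : ((dm q ξ : ℕ) : ℤ) = 0 + 1 := hξ
      omega
    have hne : ξ ≠ x := by
      rintro rfl
      omega
    obtain ⟨a, rfl⟩ := exists_apply_eq π hx hne
    have hg' : (π.residueFieldMap a).hom g ≠ 0 := (map_ne_zero _).2 hg
    have hd := dm_eq π hx q hne
    have h1 : Cyc.divFun (fun x => (dm (π ≫ q) x : ℤ)) a ((π.residueFieldMap a).hom g) ∈
        RZ (π ≫ q) := by
      refine divFun_mem_ratZ ?_ hg'
      rw [hd, hξ1]
      norm_num
    refine ⟨_, h1, ?_⟩
    funext y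
    have h2 := CycB.PushLocal.finsum_divFun_of_eq hX.2.2 hY.2.2 π (deltaCompat_dm_comp π q) a
      ((π.residueFieldMap a).hom g) hg' (by rw [hd]) y
    have h3 : Cyc.normGen π a ((π.residueFieldMap a).hom g) = g := by
      let _ := (π.residueFieldMap a).hom.toAlgebra
      have hb : Function.Bijective (algebraMap (X.residueField (π a)) (X'.residueField a)) :=
        ⟨(algebraMap (X.residueField (π a)) (X'.residueField a)).injective,
          residueFieldMap_surjective π hx hne⟩
      have h4 : Module.finrank (X.residueField (π a)) (X'.residueField a) = 1 := by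
        have e : X.residueField (π a) ≃ₗ[X.residueField (π a)] X'.residueField a :=
          LinearEquiv.ofBijective (Algebra.linearMap _ _) hb
        rw [← e.finrank_eq, Module.finrank_self]
      change Algebra.norm (X.residueField (π a))
        (algebraMap (X.residueField (π a)) (X'.residueField a) g) = g
      rw [Algebra.norm_algebraMap, h4, pow_one]
    rw [h3] at h2
    rw [← h2]
    refine finsum_mem_congr rfl fun b _ => ?_
    by_cases hb : Cyc.divFun (fun x => (dm (π ≫ q) x : ℤ)) a ((π.residueFieldMap a).hom g) b = 0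
    · rw [hb, zero_mul]
    · rw [mapCoeff_eq_one π q b (dm_eq_zero_of_mem_RZ h1 b hb)]
      simp
  | zero => exact ⟨0, zero_mem _, push_zero π⟩
  | add a b _ _ ha hb =>
    obtain ⟨a', ha', rfl⟩ := ha
    obtain ⟨b', hb', rfl⟩ := hb
    exact ⟨a' + b', add_mem ha' hb', push_add π (finite_support_of_mem ha')
      (finite_support_of_mem hb')⟩
  | neg a _ ha =>
    obtain ⟨a', ha', rfl⟩ := ha
    exact ⟨-a', neg_mem ha', push_neg π a'⟩

include hx in
/-- Injectivity of the pushforward of zero cycles. -/
theorem mem_of_push_mem (hE : ∀ a b : X', π a = x → π b = x → IsClosed ({a} : Set X') →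
    IsClosed ({b} : Set X') → PtEq (π ≫ q) a b) {φ : X' → ℤ} (hφ : (Function.support φ).Finite)
    (hφ0 : ∀ a, φ a ≠ 0 → dm (π ≫ q) a = 0) (h : push π φ ∈ RZ q) : φ ∈ RZ (π ≫ q) := by
  have hcX : CompactSpace X := QuasiCompact.compactSpace_of_compactSpace q
  have hcX' : CompactSpace X' := QuasiCompact.compactSpace_of_compactSpace π
  obtain ⟨φ', h1, h2⟩ := exists_lift π q hx h
  have hf' := finite_support_of_mem h1
  have h3 : push π (φ + -φ') = 0 := by
    rw [push_add π hφ (by rw [Function.support_neg]; exact hf'), push_neg, h2, add_neg_cancel]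
  have hfψ : (Function.support (φ + -φ')).Finite :=
    (hφ.union (by rw [Function.support_neg]; exact hf')).subset (Function.support_add _ _)
  have h4 : ∀ a, (φ + -φ') a ≠ 0 → π a = x := by
    intro a ha
    by_contra hne
    apply ha
    have h5 := congrFun h3 (π a)
    have h6 : {b : X' | π b = π a} = {a} := by
      ext b
      exact ⟨fun hb => (eq_of_apply_eq π hx hne hb.symm).symm, fun hb => by rw [hb]; rfl⟩
    unfold push at h5
    rw [h6, finsum_mem_singleton] at h5
    exact h5
  have h5 : ∀ a, (φ + -φ') a ≠ 0 → IsClosed ({a} : Set X') := by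
    intro a ha
    rw [← dm_eq_zero_iff_isClosed (π ≫ q)]
    by_cases ha' : φ a = 0
    · refine dm_eq_zero_of_mem_RZ h1 a fun h0 => ha ?_
      rw [Pi.add_apply, Pi.neg_apply, ha', h0]
      rfl
    · exact hφ0 a ha'
  have h6 : φ + -φ' ∈ RZ (π ≫ q) := by
    refine mem_of_finsum_eq_zero hfψ (fun a b ha hb => hE a b (h4 a ha) (h4 b hb) (h5 a ha)
      (h5 b hb)) ?_
    have h7 := congrFun h3 x
    rw [← finsum_mem_univ]
    rw [← finsum_mem_inter_support, Set.univ_inter]
    unfold push at h7
    rw [← finsum_mem_inter_support] at h7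
    have h8 : {a : X' | π a = x} ∩ Function.support (φ + -φ') = Function.support (φ + -φ') :=
      Set.inter_eq_right.2 fun a ha => h4 a ha
    rw [h8] at h7
    exact h7
  have h7 := add_mem h6 h1
  rwa [neg_add_cancel_right] at h7

include hx in
/-- **Main theorem**: push-forward of zero cycles along a modification of a closed point, all
closed points of whose fibre are rationally equivalent, is bijective. -/
theorem main (hE : ∀ a b : X', π a = x → π b = x → IsClosed ({a} : Set X') →
    IsClosed ({b} : Set X') → PtEq (π ≫ q) a b) (hne : ∃ a, π a = x)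
    {δ : X → ℤ} (hδ : Cyc.DeltaCompat q δ (fun _ => 0))
    {δ' : X' → ℤ} (hδ' : Cyc.DeltaCompat (π ≫ q) δ' (fun _ => 0)) :
    (∀ z : AlgebraicCycle X' ℤ, z ∈ Cyc.Zk X' δ' 0 →
        Cyc.RatEquivZero δ 0 (AlgebraicCycle.map π δ' δ z) → Cyc.RatEquivZero δ' 0 z) ∧
      ∀ α : AlgebraicCycle X ℤ, α ∈ Cyc.Zk X δ 0 →
        ∃ z : AlgebraicCycle X' ℤ, z ∈ Cyc.Zk X' δ' 0 ∧
          Cyc.RatEquiv δ 0 (AlgebraicCycle.map π δ' δ z) α := by
  classical
  have hcX : CompactSpace X := QuasiCompact.compactSpace_of_compactSpace q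
  have hcX' : CompactSpace X' := QuasiCompact.compactSpace_of_compactSpace π
  obtain rfl : δ = fun x => (dm q x : ℤ) := funext (delta_eq_dm hδ)
  obtain rfl : δ' = fun x => (dm (π ≫ q) x : ℤ) := funext (delta_eq_dm hδ')
  have hX := isSetup_dm (π ≫ q)
  have hN' : IsLocallyNoetherian X' := hX.1
  have hmap : ∀ z : AlgebraicCycle X' ℤ, (∀ a, z a ≠ 0 → dm (π ≫ q) a = 0) →
      ⇑(AlgebraicCycle.map π (fun x => (dm (π ≫ q) x : ℤ)) (fun x => (dm q x : ℤ)) z) =
        push π z := fun z hz => funext fun y => map_apply_zero π q z hz y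
  constructor
  · intro z hz h
    have hz0 : ∀ a, z a ≠ 0 → dm (π ≫ q) a = 0 := fun a ha => by
      by_contra hne
      exact ha (hz a fun e => hne (Nat.cast_eq_zero.1 e))
    have h1 := mem_ratZ_of_ratEquivZero h
    rw [hmap z hz0] at h1
    exact ratEquivZero_of_mem_ratZ hX.2.2
      (mem_of_push_mem π q hx hE (finite_support z) hz0 h1)
  · intro α hα
    -- lifts of closed points
    have hJ : JacobsonSpace X' := LocallyOfFiniteType.jacobsonSpace (π ≫ q)
    have hlift : ∀ y : X, ∃ a : X', IsClosed ({y} : Set X) → (π a = y ∧ dm (π ≫ q) a = 0) := by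
      intro y
      by_cases hy : IsClosed ({y} : Set X)
      · obtain ⟨b, hb⟩ : ∃ b, π b = y := by
          by_cases hyx : y = x
          · rw [hyx]; exact hne
          · exact exists_apply_eq π hx hyx
        obtain ⟨a, ha, ha'⟩ := nonempty_inter_closedPoints (Z := π ⁻¹' {y}) ⟨b, hb⟩
          (hy.preimage π.continuous).isLocallyClosed
        exact ⟨a, fun _ => ⟨ha, (dm_eq_zero_iff_isClosed _ a).2 ha'⟩⟩
      · obtain ⟨a, -⟩ := hne
        exact ⟨a, fun h => absurd h hy⟩
    choose s hs using hlift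
    have hfin : (Function.support ⇑α).Finite := finite_support α
    have hαc : ∀ y, α y ≠ 0 → IsClosed ({y} : Set X) := fun y hy => by
      rw [← dm_eq_zero_iff_isClosed q]
      by_contra hne
      exact hy (hα y fun e => hne (Nat.cast_eq_zero.1 e))
    let φ : X' → ℤ := fun a => if s (π a) = a then α (π a) else 0
    have hφ : (Function.support φ).Finite := by
      refine (hfin.image s).subset fun a ha => ?_
      have h1 : s (π a) = a := by
        by_contra h
        exact ha (if_neg h)
      refine ⟨π a, fun h0 => ha ?_, h1⟩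
      change (if s (π a) = a then α (π a) else 0) = 0
      rw [if_pos h1, h0]
    obtain ⟨z, hz⟩ := exists_cycle_of_finite_support hφ
    have hz0 : ∀ a, z a ≠ 0 → dm (π ≫ q) a = 0 := by
      intro a ha
      rw [hz] at ha
      have h1 : s (π a) = a := by
        by_contra h
        exact ha (if_neg h)
      have h2 : α (π a) ≠ 0 := by
        intro h0
        apply ha
        change (if s (π a) = a then α (π a) else 0) = 0
        rw [if_pos h1, h0]
      rw [← h1]
      exact (hs (π a) (hαc _ h2)).2
    refine ⟨z, fun a ha => ?_, ?_⟩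
    · by_contra hne
      exact ha (Nat.cast_eq_zero.2 (hz0 a hne))
    · have h1 : AlgebraicCycle.map π (fun x => (dm (π ≫ q) x : ℤ)) (fun x => (dm q x : ℤ)) z =
          α := by
        ext y
        rw [congrFun (hmap z hz0) y, hz]
        unfold push
        rw [finsum_mem_def, finsum_eq_single _ (s y)]
        · by_cases hy : α y = 0
          · rw [hy]
            by_cases h2 : π (s y) = y
            · rw [Set.indicator_of_mem (show s y ∈ {a : X' | π a = y} from h2)]
              change (if s (π (s y)) = s y then α (π (s y)) else 0) = 0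
              rw [h2, if_pos rfl, hy]
            · rw [Set.indicator_of_notMem (show s y ∉ {a : X' | π a = y} from h2)]
          · have h2 := (hs y (hαc y hy)).1
            rw [Set.indicator_of_mem (show s y ∈ {a : X' | π a = y} from h2)]
            change (if s (π (s y)) = s y then α (π (s y)) else 0) = α y
            rw [h2, if_pos rfl]
        · intro b hb
          by_cases h2 : π b = y
          · rw [Set.indicator_of_mem (show b ∈ {a : X' | π a = y} from h2)]
            change (if s (π b) = b then α (π b) else 0) = 0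
            rw [h2, if_neg (fun e => hb e.symm)]
          · rw [Set.indicator_of_notMem (show b ∉ {a : X' | π a = y} from h2)]
      rw [h1]
      unfold Cyc.RatEquiv
      rw [sub_self]
      exact CycB.DivFun.ratEquivZero_zero

end K952.BlowPt
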