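import Groth.Agent.ZCorr.K952.Link
import Groth.Agent.ZCorr.K952.BlowPtMain
import Groth.Agent.Resolve.K373.ContrBasic
import Groth.Agent.Resolve.K373.Principal

/-!
# Chains of projective lines lift along blow-ups of regular points of surfaces
-/

set_option autoImplicit false

universe u

open AlgebraicGeometry CategoryTheory CategoryTheory.Limits TopologicalSpace

namespace K952.Conn

open K952.Link

section Iso

variable {X X' T : Scheme.{u}} (π : X' ⟶ X) (U : X.Opens) [IsIso (π ∣_ U)]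

theorem lift_eq {x x' : T ⟶ X'} (h : x ≫ π = x' ≫ π) (hx : Set.range (x ≫ π) ⊆ U) : x = x' := by
  have h1 : Set.range x ⊆ Set.range (π ⁻¹ᵁ U).ι := by
    rintro _ ⟨t, rfl⟩
    rw [Scheme.Opens.range_ι]
    exact hx ⟨t, rfl⟩
  have h2 : Set.range x' ⊆ Set.range (π ⁻¹ᵁ U).ι := by
    rintro _ ⟨t, rfl⟩
    rw [Scheme.Opens.range_ι]
    exact hx (h ▸ ⟨t, rfl⟩)
  have h3 := IsOpenImmersion.lift_fac (π ⁻¹ᵁ U).ι x h1
  have h4 := IsOpenImmersion.lift_fac (π ⁻¹ᵁ U).ι x' h2
  rw [← h3, ← h4]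
  congr 1
  rw [← cancel_mono ((π ∣_ U) ≫ U.ι), morphismRestrict_ι, ← Category.assoc, ← Category.assoc,
    h3, h4, h]

theorem exists_lift (y : T ⟶ X) (hy : Set.range y ⊆ U) : ∃ x : T ⟶ X', x ≫ π = y := by
  have h1 : Set.range y ⊆ Set.range U.ι := by rwa [Scheme.Opens.range_ι]
  refine ⟨IsOpenImmersion.lift U.ι y h1 ≫ inv (π ∣_ U) ≫ (π ⁻¹ᵁ U).ι, ?_⟩
  rw [Category.assoc, Category.assoc, ← morphismRestrict_ι, IsIso.inv_hom_id_assoc,
    IsOpenImmersion.lift_fac]

end Iso

variable {k : Type u} [Field k]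

/-- Maps from the projective line lift along modifications. -/
theorem exists_lift_P1 {X X' : Scheme.{u}} (π : X' ⟶ X) [IsProper π] (U : X.Opens)
    [IsIso (π ∣_ U)] (f : CohB1.ProjSpace 1 k ⟶ X) (hf : ((f ⁻¹ᵁ U : (CohB1.ProjSpace 1 k).Opens) :
      Set (CohB1.ProjSpace 1 k)).Nonempty) :
    ∃ f' : CohB1.ProjSpace 1 k ⟶ X', f' ≫ π = f := by
  have hint : IsIntegral (CohB1.ProjSpace 1 k) := K711.ProjDim.isIntegral_projSpace 1 k
  obtain ⟨l, hl⟩ := exists_lift π U ((f ⁻¹ᵁ U).ι ≫ f) (by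
    rintro _ ⟨t, rfl⟩
    exact t.2)
  have hP : IsProper (pullback.snd π f ≫ CohB1.ProjSpace.toSpec 1 k) := inferInstance
  obtain ⟨g, hg1, hg2⟩ := K888.P1Map.exists_ext_P1
    (pullback.snd π f ≫ CohB1.ProjSpace.toSpec 1 k) (f ⁻¹ᵁ U) hf (pullback.lift l _ hl) (by
      rw [← Category.assoc, pullback.lift_snd])
  have hdom : IsDominant (f ⁻¹ᵁ U).ι := Opens.isDominant_ι
    ((f ⁻¹ᵁ U).isOpen.dense hf)
  have h1 : g ≫ pullback.snd π f = 𝟙 _ := by
    refine ext_of_isDominant_of_isSeparated (CohB1.ProjSpace.toSpec 1 k) ?_ (f ⁻¹ᵁ U).ι ?_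
    · rw [Category.assoc, hg1, Category.id_comp]
    · rw [← Category.assoc, hg2, pullback.lift_snd, Category.comp_id]
  refine ⟨g ≫ pullback.fst π f, ?_⟩
  rw [Category.assoc, pullback.condition, ← Category.assoc, h1, Category.id_comp]

variable [IsAlgClosed k]

/-- A closed point over a rational point is rational. -/
theorem exists_point {X Y : Scheme.{u}} (g : Y ⟶ X) [LocallyOfFiniteType g]
    (t : Spec (CommRingCat.of k) ⟶ X) (y : Y) (hy : IsClosed ({y} : Set Y))
    (h : g y = t (IsLocalRing.closedPoint k)) :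
    ∃ s : Spec (CommRingCat.of k) ⟶ Y, s (IsLocalRing.closedPoint k) = y ∧ s ≫ g = t := by
  let P := pullback g t
  have hJ : JacobsonSpace P := FibCycle.jacobsonSpace_of_field (pullback.snd g t)
  obtain ⟨w₀, hw₀, -⟩ := Scheme.Pullback.exists_preimage_pullback (f := g) (g := t) y
    (IsLocalRing.closedPoint k) h
  have hcl : IsClosed ((pullback.fst g t) ⁻¹' {y}) := hy.preimage (pullback.fst g t).continuous
  obtain ⟨w, hw, hwc⟩ := nonempty_inter_closedPoints (X := P)
    (Z := (pullback.fst g t) ⁻¹' {y}) ⟨w₀, hw₀⟩ hcl.isLocallyClosed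
  obtain ⟨s, hs, hs'⟩ := FibCycle.exists_rational_point (pullback.snd g t) (x := w) hwc
  refine ⟨s ≫ pullback.fst g t, ?_, ?_⟩
  · have h1 : s (IsLocalRing.closedPoint k) = w := hs'
    change (pullback.fst g t) (s (IsLocalRing.closedPoint k)) = y
    rw [h1]
    exact hw
  · rw [Category.assoc, pullback.condition, ← Category.assoc, hs, Category.id_comp]

omit [IsAlgClosed k] in
/-- The image of a rational point. -/
theorem apply_eq {X : Scheme.{u}} (t : Spec (CommRingCat.of k) ⟶ X) (z : (Spec (CommRingCat.of k) : Scheme.{u})) :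
    t z = t (IsLocalRing.closedPoint k) :=
  congrArg t (Subsingleton.elim (α := PrimeSpectrum k) z _)

omit [IsAlgClosed k] in
theorem range_eq {X : Scheme.{u}} (t : Spec (CommRingCat.of k) ⟶ X) :
    Set.range t = {t (IsLocalRing.closedPoint k)} := by
  ext y
  constructor
  · rintro ⟨z, rfl⟩
    exact apply_eq t z
  · rintro rfl
    exact ⟨_, rfl⟩

omit [IsAlgClosed k] in
theorem isClosedImmersion_pt {X : Scheme.{u}} (p : X ⟶ Spec (CommRingCat.of k)) [IsSeparated p]
    (t : Spec (CommRingCat.of k) ⟶ X) (ht : t ≫ p = 𝟙 _) : IsClosedImmersion t := by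
  have : IsClosedImmersion (t ≫ p) := by rw [ht]; infer_instance
  exact IsClosedImmersion.of_comp t p

omit [IsAlgClosed k] in
/-- Rational points with the same image are equal. -/
theorem eq_of_apply {X : Scheme.{u}} (p : X ⟶ Spec (CommRingCat.of k)) [IsSeparated p]
    {s t : Spec (CommRingCat.of k) ⟶ X} (hs : s ≫ p = 𝟙 _) (ht : t ≫ p = 𝟙 _)
    (h : s (IsLocalRing.closedPoint k) = t (IsLocalRing.closedPoint k)) : s = t := by
  have hci := isClosedImmersion_pt p t ht
  have h1 : t.ker ≤ s.ker := by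
    rw [BlowPt.ker_eq_vanishingIdeal t, BlowPt.ker_eq_vanishingIdeal s, range_eq, range_eq, h]
  have h2 := IsClosedImmersion.lift_fac t s h1
  have h3 : IsClosedImmersion.lift t s h1 = 𝟙 _ := by
    have h4 := congrArg (· ≫ p) h2
    simp only [Category.assoc, ht, Category.comp_id, hs] at h4
    exact h4
  rw [← h2, h3, Category.id_comp]

omit [IsAlgClosed k] in
/-- A point whose local ring has positive dimension is not open. -/
theorem not_isOpen {X : Scheme.{u}} (x₀ : X) (hdim : 1 ≤ ringKrullDim (X.presheaf.stalk x₀)) :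
    ¬ IsOpen ({x₀} : Set X) := by
  intro hop
  have h1 : Subsingleton (PrimeSpectrum (X.presheaf.stalk x₀)) := by
    refine ⟨fun P Q => ?_⟩
    have h2 : ∀ P : (Spec (X.presheaf.stalk x₀) : Scheme.{u}), X.fromSpecStalk x₀ P = x₀ := by
      intro P
      have h3 : X.fromSpecStalk x₀ P ∈ Set.range (X.fromSpecStalk x₀) := ⟨P, rfl⟩
      rw [Scheme.range_fromSpecStalk] at h3
      exact h3.mem_open hop rfl
    exact (X.fromSpecStalk x₀).isEmbedding.injective ((h2 P).trans (h2 Q).symm)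
  have h4 : ringKrullDim (X.presheaf.stalk x₀) ≤ 0 := Order.krullDim_nonpos_of_subsingleton
  exact absurd (hdim.trans h4) (by norm_num)

omit [IsAlgClosed k] in
/-- Lifting chains along the blow-up of a regular rational point. -/
theorem conn_blowUp {X X' : Scheme.{u}} [IsLocallyNoetherian X] (p : X ⟶ Spec (CommRingCat.of k)) [IsSeparated p]
    (π : X' ⟶ X) [IsProper π] (x₀ : X) (hx₀ : IsClosed ({x₀} : Set X))
    (t : Spec (CommRingCat.of k) ⟶ X) (htp : t ≫ p = 𝟙 _) (hta : t (IsLocalRing.closedPoint k) = x₀)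
    (hregt : IsRegularLocalRing (X.presheaf.stalk x₀))
    (hdim : 1 ≤ ringKrullDim (X.presheaf.stalk x₀))
    (hπ : BlowUp.IsBlowUp π (Groth.Agent.Dix.PointIdeal.pt x₀ hx₀))
    (x : Spec (CommRingCat.of k) ⟶ X') (hx : x ≫ π ≫ p = 𝟙 _)
    {z : Spec (CommRingCat.of k) ⟶ X} (hz : Conn p (x ≫ π) z)
    (x' : Spec (CommRingCat.of k) ⟶ X') (hx' : x' ≫ π = z) :
    Conn (π ≫ p) x x' := by
  let U : X.Opens := ⟨{x₀}ᶜ, hx₀.isOpen_compl⟩
  have hiso : IsIso (π ∣_ U) := K373.Principal.isIso_blowUp_restrict hπ U fun h => h rfl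
  have hci : IsClosedImmersion t := isClosedImmersion_pt p t htp
  have hker : t.ker = Groth.Agent.Dix.PointIdeal.pt x₀ hx₀ := by
    rw [BlowPt.ker_eq_vanishingIdeal t]
    congr 1
    ext y
    change y ∈ closure (Set.range t) ↔ y ∈ ({x₀} : Set X)
    rw [range_eq, hta, hx₀.closure_eq]
  have hopen : ¬ IsOpen (Set.range t) := by
    rw [range_eq, hta]
    exact not_isOpen x₀ hdim
  rw [← hker] at hπ
  -- points with the same image are connected
  have hfib : ∀ x x' : Spec (CommRingCat.of k) ⟶ X', x ≫ π = x' ≫ π → x ≫ π ≫ p = 𝟙 _ →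
      Conn (π ≫ p) x x' := by
    intro x x' h hxp
    by_cases h1 : (x ≫ π) (IsLocalRing.closedPoint k) = x₀
    · have h2 : x ≫ π = t := eq_of_apply p (by rw [Category.assoc, hxp]) htp (h1.trans hta.symm)
      exact conn_exc p t htp (hta ▸ hregt) hopen π hπ x x' h2 (h ▸ h2)
    · have h3 : x = x' := lift_eq π U h (by
        rw [range_eq]
        rintro _ rfl
        exact h1)
      rw [h3]
      exact Conn.refl _ _
  clear hπ hopen
  induction hz generalizing x' with
  | refl => exact hfib _ _ hx'.symm hx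
  | @tail z' z'' h1 h2 ih =>
    obtain ⟨f, a, b, hf, ha, hb, haf, hbf⟩ := h2
    by_cases hne : ((f ⁻¹ᵁ U : (CohB1.ProjSpace 1 k).Opens) :
      Set (CohB1.ProjSpace 1 k)).Nonempty
    · obtain ⟨f', hf'⟩ := exists_lift_P1 π U f hne
      have h3 := ih (a ≫ f') (by rw [Category.assoc, hf', haf])
      have h4 : Link (π ≫ p) (a ≫ f') (b ≫ f') :=
        ⟨f', a, b, by rw [← Category.assoc, hf', hf], ha, hb, rfl, rfl⟩
      refine (h3.trans (Conn.of_link h4)).trans (hfib _ _ ?_ ?_)
      · rw [Category.assoc, hf', hbf, hx']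
      · rw [← Category.assoc, Category.assoc b, hf', Category.assoc, hf, hb]
    · have hall : ∀ w, f w = x₀ := by
        intro w
        by_contra hw
        exact hne ⟨w, hw⟩
      have h3 : z' = z'' := by
        rw [← haf, ← hbf]
        refine eq_of_apply p (by rw [Category.assoc, hf, ha]) (by rw [Category.assoc, hf, hb]) ?_
        exact (hall _).trans (hall _).symm
      exact ih x' (by rw [hx', h3])

/-- Chains of projective lines lift along sequences of blow-ups of regular points of surfaces. -/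
theorem conn_lift {Y X : Scheme.{u}} {g : Y ⟶ X} (hg : Models.IsContractionSeq g) :
    ∀ (p : X ⟶ Spec (CommRingCat.of k)) [IsSeparated p]
      (_ : ∀ x : X, IsClosed ({x} : Set X) → ∃ t : Spec (CommRingCat.of k) ⟶ X,
        t ≫ p = 𝟙 _ ∧ t (IsLocalRing.closedPoint k) = x)
      (x x' : Spec (CommRingCat.of k) ⟶ Y), x ≫ g ≫ p = 𝟙 _ → x' ≫ g ≫ p = 𝟙 _ →
        Conn p (x ≫ g) (x' ≫ g) → Conn (g ≫ p) x x' := by
  induction hg with
  | iso e =>
    intro p _ _ x x' _ _ h
    have h1 := h.comp (r' := e.hom ≫ p) e.inv (by rw [Iso.inv_hom_id_assoc])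
    simpa using h1
  | @step Y Z X E ι b r hι hE hb hr ih =>
    intro p _ hcl x x' hx hx' h
    have hrp : IsProper r := K373.ContrBasic.contrSeq_isProper hr
    obtain ⟨hN, hbp, y, hy, -, hreg, hdim, hbl⟩ := hb
    rw [Category.assoc] at hx hx'
    rw [← Category.assoc x b r, ← Category.assoc x' b r] at h
    have h1 := ih p hcl (x ≫ b) (x' ≫ b) (by rw [Category.assoc, hx])
      (by rw [Category.assoc, hx']) h
    have hry : IsClosed ({r y} : Set X) := by
      rw [← Set.image_singleton]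
      exact r.isClosedMap _ hy
    obtain ⟨t₀, ht₀, ht₀'⟩ := hcl (r y) hry
    obtain ⟨t, ht, ht'⟩ := exists_point r t₀ y hy ht₀'.symm
    rw [Category.assoc]
    exact conn_blowUp (r ≫ p) b y hy t (by rw [← Category.assoc, ht', ht₀]) ht hreg
      (by rw [hdim]; norm_num) hbl x hx h1 x' rfl

end K952.Conn
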