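import Mathlib.AlgebraicGeometry.Stalk
import Mathlib.AlgebraicGeometry.FunctionField
import Groth.Agent.Sga1.QuotBasic

/-!
# Values of sections at points with values in a ring
-/

set_option autoImplicit false
universe u

open CategoryTheory CategoryTheory.Limits AlgebraicGeometry IsLocalRing

namespace K952.Evp

open Groth.Agent.Sga1.QuotBasic

variable {X Y : Scheme.{u}} {R S : CommRingCat.{u}}

/-- The value of sections over `V` at an `R`-valued point of `V`. -/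
noncomputable def evp (a : Spec R ⟶ X) (V : X.Opens) (e : ⊤ ≤ a ⁻¹ᵁ V) : Γ(X, V) ⟶ R :=
  a.appLE V ⊤ e ≫ (Scheme.ΓSpecIso R).hom

lemma comp_appLE {X Y Z : Scheme.{u}} (f : X ⟶ Y) (g : Y ⟶ Z) (h : X ⟶ Z) (hh : f ≫ g = h)
    (U : Z.Opens) (V : Y.Opens) (V' : X.Opens) (e₁ : V ≤ g ⁻¹ᵁ U) (e₂ : V' ≤ f ⁻¹ᵁ V)
    (e₃ : V' ≤ h ⁻¹ᵁ U) : h.appLE U V' e₃ = g.appLE U V e₁ ≫ f.appLE V V' e₂ := by
  subst hh
  rw [Scheme.Hom.appLE_comp_appLE]

lemma evp_congr {a b : Spec R ⟶ X} (h : a = b) (V : X.Opens) (e : ⊤ ≤ a ⁻¹ᵁ V)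
    (e' : ⊤ ≤ b ⁻¹ᵁ V) : evp a V e = evp b V e' := by
  subst h
  rfl

lemma evp_comp (a : Spec R ⟶ X) (f : X ⟶ Y) (b : Spec R ⟶ Y) (hb : a ≫ f = b) (V : Y.Opens)
    (V' : X.Opens) (e : ⊤ ≤ b ⁻¹ᵁ V) (e' : V' ≤ f ⁻¹ᵁ V) (e'' : ⊤ ≤ a ⁻¹ᵁ V') :
    evp b V e = f.appLE V V' e' ≫ evp a V' e'' := by
  unfold evp
  rw [comp_appLE a f b hb V V' ⊤ e' e'' e, Category.assoc]

lemma evp_SpecMap (φ : R ⟶ S) (a : Spec R ⟶ X) (b : Spec S ⟶ X) (hb : Spec.map φ ≫ a = b)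
    (V : X.Opens) (e : ⊤ ≤ b ⁻¹ᵁ V) (e' : ⊤ ≤ a ⁻¹ᵁ V) : evp b V e = evp a V e' ≫ φ := by
  have h : b.appLE V ⊤ e = a.appLE V ⊤ e' ≫ (Spec.map φ).appLE ⊤ ⊤ le_top :=
    comp_appLE _ _ _ hb _ _ _ _ _ _
  unfold evp
  rw [h, Category.assoc, Category.assoc]
  congr 1
  exact Scheme.ΓSpecIso_naturality φ

lemma evp_fromSpecStalk (x : X) (V : X.Opens) (hx : x ∈ V) (e : ⊤ ≤ X.fromSpecStalk x ⁻¹ᵁ V) :
    evp (X.fromSpecStalk x) V e = X.presheaf.germ V x hx := by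
  unfold evp
  rw [Scheme.Hom.appLE, Scheme.fromSpecStalk_app hx]
  simp only [Category.assoc, ← Functor.map_comp_assoc]
  rw [← Category.comp_id (X.presheaf.germ V x hx)]
  congr 1
  have h : ∀ (f : (Opposite.op (⊤ : (Spec (X.presheaf.stalk x)).Opens)) ⟶
      Opposite.op ⊤), (Spec (X.presheaf.stalk x)).presheaf.map f = 𝟙 _ := by
    intro f
    rw [show f = 𝟙 _ from Subsingleton.elim _ _, CategoryTheory.Functor.map_id]
  rw [h, Category.id_comp, Iso.inv_hom_id]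

lemma top_le_fromSpecStalk (x : X) (V : X.Opens) (hx : x ∈ V) :
    (⊤ : (Spec (X.presheaf.stalk x)).Opens) ≤ X.fromSpecStalk x ⁻¹ᵁ V := by
  rw [top_le_iff]
  apply Scheme.preimage_eq_top_of_closedPoint_mem
  rw [Scheme.fromSpecStalk_closedPoint]
  exact hx

lemma top_le_of_mem [IsLocalRing R] (a : Spec R ⟶ X) (V : X.Opens)
    (h : a (closedPoint R) ∈ V) : (⊤ : (Spec R).Opens) ≤ a ⁻¹ᵁ V := by
  rw [top_le_iff]
  exact Scheme.preimage_eq_top_of_closedPoint_mem _ h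

lemma evp_eq_germ [IsLocalRing R] (a : Spec R ⟶ X) (V : X.Opens) (h : a (closedPoint R) ∈ V)
    (e : ⊤ ≤ a ⁻¹ᵁ V) :
    evp a V e = X.presheaf.germ V _ h ≫ Scheme.stalkClosedPointTo a := by
  have h1 := Scheme.Spec_stalkClosedPointTo_fromSpecStalk a
  rw [evp_SpecMap _ _ _ h1 V e (top_le_fromSpecStalk _ V h), evp_fromSpecStalk _ _ h]

/-- The ideal of a point in the ring of sections over an open set. -/
noncomputable def pI (V : X.Opens) (x : X) (hx : x ∈ V) : Ideal Γ(X, V) :=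
  (maximalIdeal (X.presheaf.stalk x)).comap (X.presheaf.germ V x hx).hom

instance (V : X.Opens) (x : X) (hx : x ∈ V) : (pI V x hx).IsPrime :=
  Ideal.comap_isPrime _ _

lemma primeIdealOf_eq {V : X.Opens} (hV : IsAffineOpen V) (x : X) (hx : x ∈ V) :
    (hV.primeIdealOf ⟨x, hx⟩).asIdeal = pI V x hx := by
  rw [hV.primeIdealOf_eq_map_closedPoint]
  rfl

lemma pI_inj {V : X.Opens} (hV : IsAffineOpen V) {x y : X} (hx : x ∈ V) (hy : y ∈ V)
    (h : pI V x hx = pI V y hy) : x = y := by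
  rw [← primeIdealOf_eq hV, ← primeIdealOf_eq hV] at h
  have h1 : hV.primeIdealOf ⟨x, hx⟩ = hV.primeIdealOf ⟨y, hy⟩ := PrimeSpectrum.ext h
  have h2 := hV.fromSpec_primeIdealOf ⟨x, hx⟩
  have h3 := hV.fromSpec_primeIdealOf ⟨y, hy⟩
  rw [h1] at h2
  exact h2.symm.trans h3

lemma isLocalization_stalk {V : X.Opens} (hV : IsAffineOpen V) (x : X) (hx : x ∈ V) :
    letI := (X.presheaf.germ V x hx).hom.toAlgebra
    IsLocalization.AtPrime (X.presheaf.stalk x) (pI V x hx) := by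
  let _ := (X.presheaf.germ V x hx).hom.toAlgebra
  have h := hV.isLocalization_stalk ⟨x, hx⟩
  simp only [primeIdealOf_eq] at h
  exact h

lemma exists_eq_pI {V : X.Opens} (hV : IsAffineOpen V) (P : Ideal Γ(X, V)) [P.IsPrime] :
    ∃ (x : X) (hx : x ∈ V), pI V x hx = P := by
  let q : PrimeSpectrum Γ(X, V) := ⟨P, inferInstance⟩
  have hyV : hV.fromSpec q ∈ V := by
    have : hV.fromSpec q ∈ Set.range hV.fromSpec := ⟨q, rfl⟩
    rwa [hV.range_fromSpec] at this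
  refine ⟨hV.fromSpec q, hyV, ?_⟩
  rw [← primeIdealOf_eq hV]
  have h : hV.primeIdealOf ⟨hV.fromSpec q, hyV⟩ = q := by
    apply hV.fromSpec.isOpenEmbedding.injective
    rw [hV.fromSpec_primeIdealOf]
  rw [h]

lemma appLE_germ (f : X ⟶ Y) (V : Y.Opens) (V' : X.Opens) (e : V' ≤ f ⁻¹ᵁ V) (x : X) (hx : x ∈ V')
    (hfx : f x ∈ V) :
    f.appLE V V' e ≫ X.presheaf.germ V' x hx = Y.presheaf.germ V (f x) hfx ≫ f.stalkMap x := by
  rw [Scheme.Hom.germ_stalkMap, Scheme.Hom.appLE, Category.assoc, TopCat.Presheaf.germ_res]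

lemma comap_pI (f : X ⟶ Y) (V : Y.Opens) (V' : X.Opens) (e : V' ≤ f ⁻¹ᵁ V) (x : X) (hx : x ∈ V') :
    (pI V' x hx).comap (f.appLE V V' e).hom = pI V (f x) (e hx) := by
  unfold pI
  rw [Ideal.comap_comap, ← CommRingCat.hom_comp]
  rw [appLE_germ f V V' e x hx (e hx), CommRingCat.hom_comp, ← Ideal.comap_comap]
  congr 1
  exact maximalIdeal_comap (f.stalkMap x).hom

lemma map_pI {V : X.Opens} (hV : IsAffineOpen V) (x : X) (hx : x ∈ V) :
    (pI V x hx).map (X.presheaf.germ V x hx).hom = maximalIdeal (X.presheaf.stalk x) := by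
  let _ := (X.presheaf.germ V x hx).hom.toAlgebra
  have := isLocalization_stalk hV x hx
  exact IsLocalization.AtPrime.map_eq_maximalIdeal (pI V x hx) (X.presheaf.stalk x)

lemma ker_evp {k : Type u} [Field k] (a : Spec (CommRingCat.of k) ⟶ X) (V : X.Opens)
    (h : a (closedPoint k) ∈ V) (e : ⊤ ≤ a ⁻¹ᵁ V) :
    RingHom.ker (evp a V e).hom = pI V _ h := by
  rw [evp_eq_germ a V h e, CommRingCat.hom_comp, ← RingHom.comap_ker]
  unfold pI
  congr 1
  apply IsLocalRing.eq_maximalIdeal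
  have hm : (RingHom.ker (Scheme.stalkClosedPointTo a).hom).IsPrime := RingHom.ker_isPrime _
  have h1 : RingHom.ker (Scheme.stalkClosedPointTo a).hom =
      maximalIdeal (X.presheaf.stalk (a (closedPoint k))) := by
    apply le_antisymm (IsLocalRing.le_maximalIdeal hm.ne_top)
    intro s hs
    rw [RingHom.mem_ker]
    by_contra hc
    have h2 : IsUnit ((Scheme.stalkClosedPointTo a).hom s) := isUnit_iff_ne_zero.2 hc
    exact hs (isUnit_of_map_unit (Scheme.stalkClosedPointTo a).hom s h2)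
  rw [h1]
  infer_instance

end K952.Evp
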