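import Mathlib.RingTheory.Trace.Quotient
import Mathlib.RingTheory.Trace.Basic
import Mathlib.RingTheory.Flat.Localization
import Mathlib.RingTheory.LocalRing.Module
import Mathlib.FieldTheory.PrimitiveElement
import Mathlib.RingTheory.Algebraic.Integral
import Mathlib.RingTheory.Artinian.Ring
import Mathlib.RingTheory.Spectrum.Prime.Noetherian
import Mathlib.RingTheory.LocalRing.Length
import Mathlib.FieldTheory.IsAlgClosed.Basic
import Mathlib.RingTheory.Localization.Ideal

/-!
# Counting embeddings by traces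
-/

set_option autoImplicit false

open scoped nonZeroDivisors
open IsLocalization.AtPrime

namespace K952.TraceCount

section Fld

variable {K F E : Type*} [Field K] [Field F] [Field E] [Algebra K F] [Algebra K E]
  [FiniteDimensional K F] [Algebra.IsSeparable K F]

theorem algebraMap_trace_eq_sum (h : ∀ x : F, ((minpoly K x).map (algebraMap K E)).Splits)
    (x : F) : algebraMap K E (Algebra.trace K F x) = ∑ σ : F →ₐ[K] E, σ x := by
  classical
  let Eb := AlgebraicClosure E
  let f : (F →ₐ[K] E) → (F →ₐ[K] Eb) := fun σ => (IsScalarTower.toAlgHom K E Eb).comp σ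
  have hf : Function.Injective f := by
    intro σ τ h
    ext y
    have := DFunLike.congr_fun h y
    exact (algebraMap E Eb).injective this
  have hb : Function.Bijective f := by
    rw [Fintype.bijective_iff_injective_and_card]
    refine ⟨hf, ?_⟩
    rw [AlgHom.card_of_splits K F E h, AlgHom.card K F Eb]
  apply (algebraMap E Eb).injective
  rw [← IsScalarTower.algebraMap_apply, trace_eq_sum_embeddings Eb, map_sum]
  symm
  exact Fintype.sum_bijective f hb _ _ fun σ => rfl

end Fld

section Main

attribute [local instance] Ideal.Quotient.field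

variable {R B R' K F E k : Type*} [CommRing R] [IsDomain R] [CommRing B] [IsDomain B]
  [CommRing R'] [Algebra R B] [Module.Finite R B] [FaithfulSMul R B]
  [Field K] [Field F] [Field E] [Field k]
  [Algebra R K] [IsFractionRing R K] [Algebra B F] [IsFractionRing B F] [Algebra K F]
  [Algebra R F] [IsScalarTower R K F] [IsScalarTower R B F] [Algebra K E]
  [FiniteDimensional K F] [Algebra.IsSeparable K F]

omit [FiniteDimensional K F] [Algebra.IsSeparable K F] in
/-- The local version of the trace formula. -/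
theorem exists_trace (𝔪 : Ideal R) [𝔪.IsMaximal]
    (hflat : Module.Flat R (Localization (Algebra.algebraMapSubmonoid B 𝔪.primeCompl))) (b : B) :
    ∃ (a : R) (s : 𝔪.primeCompl),
      algebraMap R K a = algebraMap R K s * Algebra.trace K F (algebraMap B F b) ∧
      Ideal.Quotient.mk 𝔪 a = Ideal.Quotient.mk 𝔪 s *
        Algebra.trace (R ⧸ 𝔪) (B ⧸ 𝔪.map (algebraMap R B)) (Ideal.Quotient.mk _ b) := by
  let A := Localization.AtPrime 𝔪
  let M := Localization (Algebra.algebraMapSubmonoid B 𝔪.primeCompl)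
  let _ : Algebra A M := localizationAlgebra 𝔪.primeCompl B
  have : IsScalarTower R A M := IsScalarTower.of_algebraMap_eq'
    (by rw [RingHom.algebraMap_toAlgebra, IsLocalization.map_comp, ← IsScalarTower.algebraMap_eq])
  have : IsLocalization (Submonoid.map (algebraMap R B) (Ideal.primeCompl 𝔪)) M :=
    inferInstanceAs (IsLocalization (Algebra.algebraMapSubmonoid B 𝔪.primeCompl) M)
  have e : Algebra.algebraMapSubmonoid B 𝔪.primeCompl ≤ B⁰ :=
    Submonoid.map_le_of_le_comap _ <| 𝔪.primeCompl_le_nonZeroDivisors.trans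
      (nonZeroDivisors_le_comap_nonZeroDivisors_of_injective _
        (FaithfulSMul.algebraMap_injective _ _))
  have : IsDomain M := IsLocalization.isDomain_of_le_nonZeroDivisors _ e
  have : Module.Finite A M := .of_isLocalization R B 𝔪.primeCompl
  have hfl : Module.Flat A M := (Module.flat_iff_of_isLocalization A 𝔪.primeCompl M).2 hflat
  have hfree : Module.Free A M := Module.free_of_flat_of_isLocalRing
  -- the field of fractions
  let _ : Algebra A K := IsLocalization.lift (M := 𝔪.primeCompl) (g := algebraMap R K) (by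
    intro y
    rw [isUnit_iff_ne_zero, Ne, IsFractionRing.to_map_eq_zero_iff]
    exact fun h => y.2 (h ▸ 𝔪.zero_mem)) |>.toAlgebra
  have : IsScalarTower R A K := IsScalarTower.of_algebraMap_eq' (by
    rw [RingHom.algebraMap_toAlgebra, IsLocalization.lift_comp])
  let _ : Algebra M F := IsLocalization.lift (M := Algebra.algebraMapSubmonoid B 𝔪.primeCompl)
    (g := algebraMap B F) (by
    intro y
    rw [isUnit_iff_ne_zero, Ne, IsFractionRing.to_map_eq_zero_iff]
    exact nonZeroDivisors.ne_zero (e y.2)) |>.toAlgebra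
  have : IsScalarTower B M F := IsScalarTower.of_algebraMap_eq' (by
    rw [RingHom.algebraMap_toAlgebra, IsLocalization.lift_comp])
  have : IsFractionRing A K :=
    IsFractionRing.isFractionRing_of_isDomain_of_isLocalization 𝔪.primeCompl A K
  have : IsFractionRing M F :=
    IsFractionRing.isFractionRing_of_isDomain_of_isLocalization
      (Algebra.algebraMapSubmonoid B 𝔪.primeCompl) M F
  let _ : Algebra A F := ((algebraMap K F).comp (algebraMap A K)).toAlgebra
  have : IsScalarTower A K F := IsScalarTower.of_algebraMap_eq' rfl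
  have : IsScalarTower A M F := IsScalarTower.of_algebraMap_eq' (by
    apply IsLocalization.ringHom_ext 𝔪.primeCompl
    ext r
    have h1 : algebraMap A F (algebraMap R A r) = algebraMap R F r := by
      rw [IsScalarTower.algebraMap_apply A K F, ← IsScalarTower.algebraMap_apply R A K,
        ← IsScalarTower.algebraMap_apply R K F]
    have h2 : algebraMap M F (algebraMap A M (algebraMap R A r)) = algebraMap R F r := by
      rw [← IsScalarTower.algebraMap_apply R A M, IsScalarTower.algebraMap_apply R B M,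
        ← IsScalarTower.algebraMap_apply B M F, ← IsScalarTower.algebraMap_apply R B F]
    exact h1.trans h2.symm)
  have : FaithfulSMul A M := by
    rw [faithfulSMul_iff_algebraMap_injective]
    have h1 : Function.Injective (algebraMap A F) := by
      rw [IsScalarTower.algebraMap_eq A K F]
      exact (algebraMap K F).injective.comp (IsFractionRing.injective A K)
    rw [IsScalarTower.algebraMap_eq A M F, RingHom.coe_comp] at h1
    exact Function.Injective.of_comp h1
  let t : A := Algebra.trace A M (algebraMap B M b)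
  have h1 : algebraMap A K t = Algebra.trace K F (algebraMap B F b) := by
    rw [IsScalarTower.algebraMap_apply B M F]
    exact (Algebra.trace_localization A A⁰ (algebraMap B M b)).symm
  have h2 : Algebra.trace (R ⧸ 𝔪) (B ⧸ 𝔪.map (algebraMap R B)) (Ideal.Quotient.mk _ b) =
      (equivQuotMaximalIdeal 𝔪 A).symm (Ideal.Quotient.mk _ t) := by
    rw [trace_quotient_eq_trace_localization_quotient B 𝔪 A M,
      IsScalarTower.algebraMap_eq B M, RingHom.comp_apply, Ideal.Quotient.algebraMap_eq,
      Algebra.trace_quotient_mk]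
  obtain ⟨⟨a, s⟩, has⟩ := IsLocalization.surj 𝔪.primeCompl t
  dsimp only at has
  refine ⟨a, s, ?_, ?_⟩
  · rw [← h1, IsScalarTower.algebraMap_apply R A K, ← has, map_mul, mul_comm,
      ← IsScalarTower.algebraMap_apply R A K]
  · rw [h2]
    apply (equivQuotMaximalIdeal 𝔪 A).injective
    rw [map_mul, RingEquiv.apply_symm_apply, equivQuotMaximalIdeal_apply_mk,
      equivQuotMaximalIdeal_apply_mk, ← has, map_mul, mul_comm]

/-- The sum over all embeddings of the specialized values is the trace of the fibre. -/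
theorem sum_eq_trace (𝔪 : Ideal R) [𝔪.IsMaximal]
    (hflat : Module.Flat R (Localization (Algebra.algebraMapSubmonoid B 𝔪.primeCompl)))
    (hsp : ∀ x : F, ((minpoly K x).map (algebraMap K E)).Splits)
    (ι : R →+* R') (ev : R' →+* E) (hev : Function.Injective ev)
    (hι : ∀ r, ev (ι r) = algebraMap K E (algebraMap R K r))
    (χ : (F →ₐ[K] E) → (B →+* R')) (hχ : ∀ τ b, ev (χ τ b) = τ (algebraMap B F b))
    (ψ : R' →+* k) (ψ' : R ⧸ 𝔪 →+* k) (hψ : ∀ r, ψ' (Ideal.Quotient.mk 𝔪 r) = ψ (ι r)) (b : B) :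
    ∑ τ : F →ₐ[K] E, ψ (χ τ b) =
      ψ' (Algebra.trace (R ⧸ 𝔪) (B ⧸ 𝔪.map (algebraMap R B)) (Ideal.Quotient.mk _ b)) := by
  obtain ⟨a, s, h1, h2⟩ := exists_trace (K := K) (F := F) 𝔪 hflat b
  have h3 : ι a = ι s * ∑ τ : F →ₐ[K] E, χ τ b := by
    apply hev
    rw [hι, h1, map_mul, map_mul, hι, algebraMap_trace_eq_sum hsp, map_sum]
    simp only [hχ]
  have h4 := congrArg ψ h3
  have h5 := congrArg ψ' h2
  rw [map_mul, hψ, hψ] at h5
  rw [map_mul, map_sum] at h4
  have h6 : ψ (ι s) ≠ 0 := by
    rw [← hψ]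
    intro h
    have h7 := ψ'.injective (h.trans (map_zero _).symm)
    exact s.2 (Ideal.Quotient.eq_zero_iff_mem.1 h7)
  exact mul_left_cancel₀ h6 (h4.symm.trans h5)

end Main

section Idem

variable {κ C : Type*} [Field κ] [CommRing C] [Algebra κ C] [Module.Finite κ C]

include κ in
variable (κ) in
theorem exists_idem (𝔮 : Ideal C) [h𝔮 : 𝔮.IsPrime] :
    ∃ e : C, e * e = e ∧ e ∉ 𝔮 ∧ ∀ 𝔭 : Ideal C, 𝔭.IsPrime → 𝔭 ≠ 𝔮 → e ∈ 𝔭 := by
  have : IsArtinianRing C := IsArtinianRing.of_finite κ C
  obtain ⟨e, he, h⟩ := PrimeSpectrum.isClopen_iff.1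
    (isClopen_discrete ({⟨𝔮, h𝔮⟩} : Set (PrimeSpectrum C)))
  refine ⟨e, he, ?_, ?_⟩
  · have h1 : (⟨𝔮, h𝔮⟩ : PrimeSpectrum C) ∈ PrimeSpectrum.basicOpen e := by
      rw [← SetLike.mem_coe, ← h]
      rfl
    exact h1
  · intro 𝔭 h𝔭 hne
    by_contra hc
    have h1 : (⟨𝔭, h𝔭⟩ : PrimeSpectrum C) ∈ ({⟨𝔮, h𝔮⟩} : Set (PrimeSpectrum C)) := by
      rw [h]
      exact hc
    exact hne (congrArg PrimeSpectrum.asIdeal (Set.mem_singleton_iff.1 h1))

/-- The trace of the idempotent of a point is the dimension of the local ring at the point. -/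
theorem trace_idem (𝔮 : Ideal C) [𝔮.IsPrime] (e : C) (he : e * e = e) (heq : e ∉ 𝔮)
    (hne : ∀ 𝔭 : Ideal C, 𝔭.IsPrime → 𝔭 ≠ 𝔮 → e ∈ 𝔭) (D : Type*) [CommRing D] [Algebra C D]
    [IsLocalization.AtPrime D 𝔮] [Algebra κ D] [IsScalarTower κ C D] :
    Algebra.trace κ C e = (Module.finrank κ D : κ) := by
  let p : Submodule κ C := LinearMap.range (LinearMap.mulLeft κ e)
  have hp : LinearMap.IsProj p (LinearMap.mulLeft κ e) := by
    refine ⟨fun x => ⟨x, rfl⟩, ?_⟩
    rintro x ⟨y, rfl⟩
    simp only [LinearMap.mulLeft_apply, ← mul_assoc, he]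
  have h1 : Algebra.trace κ C e = LinearMap.trace κ C (LinearMap.mulLeft κ e) := rfl
  rw [h1, hp.trace]
  congr 1
  -- the unit `s e + (1 - e)`
  have hunit : ∀ s : C, s ∉ 𝔮 → IsUnit (s * e + (1 - e)) := by
    intro s hs
    by_contra hc
    obtain ⟨𝔭, h𝔭, hmem⟩ := exists_max_ideal_of_mem_nonunits hc
    by_cases h : 𝔭 = 𝔮
    · subst h
      have h3 : (1 - e) ∈ 𝔭 := by
        have h4 : e * (1 - e) ∈ 𝔭 := by
          rw [mul_sub, mul_one, he, sub_self]
          exact 𝔭.zero_mem
        exact (h𝔭.isPrime.mem_or_mem h4).resolve_left heq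
      have h5 : s * e ∈ 𝔭 := by
        have := 𝔭.sub_mem hmem h3
        rwa [add_sub_cancel_right] at this
      exact (h𝔭.isPrime.mem_or_mem h5).elim hs heq
    · have h3 := hne 𝔭 h𝔭.isPrime h
      have h4 : (1 : C) ∈ 𝔭 := by
        have h5 := 𝔭.sub_mem hmem (𝔭.mul_mem_left (s - 1) h3)
        have h6 : s * e + (1 - e) - (s - 1) * e = 1 := by ring
        rwa [h6] at h5
      exact h𝔭.ne_top ((Ideal.eq_top_iff_one _).2 h4)
  have he1 : algebraMap C D e = 1 := by
    have h2 : IsUnit (algebraMap C D e) := IsLocalization.map_units D (⟨e, heq⟩ : 𝔮.primeCompl)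
    have h3 : algebraMap C D e * algebraMap C D e = algebraMap C D e * 1 := by
      rw [← map_mul, he, mul_one]
    exact h2.mul_left_cancel h3
  let φ : p →ₗ[κ] D := (IsScalarTower.toAlgHom κ C D).toLinearMap.comp p.subtype
  have hφ : Function.Bijective φ := by
    constructor
    · rw [← LinearMap.ker_eq_bot, LinearMap.ker_eq_bot']
      rintro ⟨x, y, rfl⟩ hx
      have hx' : algebraMap C D (e * y) = 0 := hx
      rw [IsLocalization.map_eq_zero_iff 𝔮.primeCompl] at hx'
      obtain ⟨s, hs⟩ := hx'
      have h2 := hunit s s.2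
      have h3 : ((s : C) * e + (1 - e)) * (e * y) = 0 := by
        have h4 : ((s : C) * e + (1 - e)) * (e * y) = s * (e * e) * y + (e - e * e) * y := by ring
        rw [h4, he, sub_self, zero_mul, add_zero, mul_assoc, hs]
      ext
      exact (h2.mul_right_eq_zero).1 h3
    · intro d
      obtain ⟨⟨c, s⟩, hcs⟩ := IsLocalization.surj 𝔮.primeCompl d
      obtain ⟨v, hv⟩ := hunit s s.2
      refine ⟨⟨e * (↑v⁻¹ * c), ⟨_, rfl⟩⟩, ?_⟩
      change algebraMap C D (e * (↑v⁻¹ * c)) = d
      have h2 : IsUnit (algebraMap C D s) := IsLocalization.map_units D s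
      apply h2.mul_left_cancel
      rw [mul_comm _ d, hcs, ← map_mul]
      have h3 : (↑v⁻¹ : C) * (s * e + (1 - e)) = 1 := by
        rw [← hv]
        exact v.inv_mul
      have h4 : e * ↑v⁻¹ * s = e := by
        have h5 : e * (↑v⁻¹ * (s * e + (1 - e))) = e := by rw [h3, mul_one]
        have h6 : e * (↑v⁻¹ * (s * e + (1 - e))) = (e * e) * ↑v⁻¹ * s + (e - e * e) * ↑v⁻¹ := by
          ring
        rw [h6, he, sub_self, zero_mul, add_zero] at h5
        exact h5
      have h5 : (s : C) * (e * (↑v⁻¹ * c)) = e * c := by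
        calc (s : C) * (e * (↑v⁻¹ * c)) = (e * ↑v⁻¹ * s) * c := by ring
          _ = e * c := by rw [h4]
      rw [h5, map_mul, he1, one_mul]
  exact (LinearEquiv.ofBijective φ hφ).finrank_eq

open IsLocalRing in
/-- The dimension of a finite local algebra over an algebraically closed field is its length. -/
theorem finrank_eq_length [IsAlgClosed κ] [IsLocalRing C] :
    Module.finrank κ C = (Module.length C C).toNat := by
  have hloc : IsLocalHom (algebraMap κ C) := ⟨fun a ha => by
    by_contra h
    have h0 : a = 0 := by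
      by_contra h1
      exact h (IsUnit.mk0 a h1)
    rw [h0, map_zero] at ha
    exact not_isUnit_zero ha⟩
  have h1 : Module.length (ResidueField κ) (ResidueField C) = 1 := by
    have h2 : Module.length κ (ResidueField C) = Module.length (ResidueField κ) (ResidueField C) :=
      Module.length_eq_of_surjective (S := κ) (R := ResidueField κ) (M := ResidueField C)
        (residue_surjective (R := κ))
    rw [← h2]
    have h3 : Module.Finite κ (ResidueField C) :=
      Module.Finite.of_surjective (IsScalarTower.toAlgHom κ C (ResidueField C)).toLinearMap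
        residue_surjective
    have h4 : Function.Bijective (algebraMap κ (ResidueField C)) :=
      IsAlgClosed.algebraMap_bijective_of_isIntegral
    have e : κ ≃ₗ[κ] ResidueField C :=
      LinearEquiv.ofBijective (Algebra.linearMap κ (ResidueField C)) h4
    rw [← e.length_eq, Module.length_eq_finrank, Module.finrank_self]
    rfl
  have h5 := IsLocalRing.length_restrictScalars κ C C
  rw [h1, mul_one] at h5
  rw [← h5, Module.length_eq_finrank]
  rfl

end Idem

section Card

attribute [local instance] Ideal.Quotient.field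

universe u

variable {R k : Type u} {B R' K F E : Type*} [CommRing R] [IsDomain R] [CommRing B] [IsDomain B]
  [CommRing R'] [Algebra R B] [Module.Finite R B] [FaithfulSMul R B]
  [Field K] [Field F] [Field E] [Field k] [CharZero k] [IsAlgClosed k]
  [Algebra R K] [IsFractionRing R K] [Algebra B F] [IsFractionRing B F] [Algebra K F]
  [Algebra R F] [IsScalarTower R K F] [IsScalarTower R B F] [Algebra K E]
  [FiniteDimensional K F] [Algebra.IsSeparable K F]

omit [IsDomain B] in
theorem isLocalization_quot (I 𝔫 : Ideal B) [𝔫.IsPrime] (S : Type*) [CommRing S] [Algebra B S]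
    [IsLocalization.AtPrime S 𝔫] (𝔮 : Ideal (B ⧸ I)) [𝔮.IsPrime]
    (h : 𝔮.comap (Ideal.Quotient.mk I) = 𝔫) :
    IsLocalization.AtPrime (S ⧸ I.map (algebraMap B S)) 𝔮 := by
  have h1 : IsLocalization (Algebra.algebraMapSubmonoid (B ⧸ I) 𝔫.primeCompl)
    (S ⧸ I.map (algebraMap B S)) := inferInstance
  have h2 : Algebra.algebraMapSubmonoid (B ⧸ I) 𝔫.primeCompl = 𝔮.primeCompl := by
    ext x
    constructor
    · rintro ⟨y, hy, rfl⟩ hc
      apply hy
      rw [← h]
      exact hc
    · intro hx
      obtain ⟨y, rfl⟩ := Ideal.Quotient.mk_surjective x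
      refine ⟨y, fun hc => hx ?_, rfl⟩
      change y ∈ 𝔫 at hc
      rw [← h] at hc
      exact hc
  rw [h2] at h1
  exact h1

/-- The number of embeddings specializing to a given point of the fibre is the multiplicity. -/
theorem card_eq_length (𝔪 : Ideal R) [𝔪.IsMaximal]
    (hflat : Module.Flat R (Localization (Algebra.algebraMapSubmonoid B 𝔪.primeCompl)))
    (hsp : ∀ x : F, ((minpoly K x).map (algebraMap K E)).Splits)
    (ι : R →+* R') (ev : R' →+* E) (hev : Function.Injective ev)
    (hι : ∀ r, ev (ι r) = algebraMap K E (algebraMap R K r))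
    (χ : (F →ₐ[K] E) → (B →+* R')) (hχ : ∀ τ b, ev (χ τ b) = τ (algebraMap B F b))
    (ψ : R' →+* k) (hψ : RingHom.ker (ψ.comp ι) = 𝔪) (hsurj : Function.Surjective (ψ.comp ι))
    (𝔫 : Ideal B) [𝔫.IsPrime] (h𝔫 : 𝔫.comap (algebraMap R B) = 𝔪)
    (S : Type*) [CommRing S] [Algebra B S] [IsLocalization.AtPrime S 𝔫] :
    Nat.card {τ : F →ₐ[K] E // RingHom.ker (ψ.comp (χ τ)) = 𝔫} =
      (Module.length (S ⧸ (𝔪.map (algebraMap R B)).map (algebraMap B S))
        (S ⧸ (𝔪.map (algebraMap R B)).map (algebraMap B S))).toNat := by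
  classical
  let I := 𝔪.map (algebraMap R B)
  let D := S ⧸ I.map (algebraMap B S)
  let κ := R ⧸ 𝔪
  let C := B ⧸ I
  let ψ' : κ →+* k := Ideal.Quotient.lift 𝔪 (ψ.comp ι) (fun a ha => by
    rw [← hψ] at ha
    exact ha)
  have hψ' : Function.Bijective ψ' := ⟨ψ'.injective, by
    intro x
    obtain ⟨y, hy⟩ := hsurj x
    exact ⟨Ideal.Quotient.mk 𝔪 y, hy⟩⟩
  have hκ : IsAlgClosed κ := IsAlgClosed.of_ringEquiv k κ (RingEquiv.ofBijective ψ' hψ').symm
  have hCfin : Module.Finite κ C := by
    have h1 : Module.Finite R C := inferInstance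
    exact Module.Finite.of_restrictScalars_finite R κ C
  -- the prime of `C`
  have hI : I ≤ 𝔫 := by
    rw [Ideal.map_le_iff_le_comap, h𝔫]
  let 𝔮 : Ideal C := 𝔫.map (Ideal.Quotient.mk I)
  have h𝔮 : 𝔮.comap (Ideal.Quotient.mk I) = 𝔫 := by
    rw [Ideal.comap_map_of_surjective _ Ideal.Quotient.mk_surjective, sup_eq_left]
    refine le_trans ?_ hI
    intro x hx
    rw [Ideal.mem_comap, Ideal.mem_bot, Ideal.Quotient.eq_zero_iff_mem] at hx
    exact hx
  have h𝔮p : 𝔮.IsPrime := by
    refine Ideal.map_isPrime_of_surjective Ideal.Quotient.mk_surjective ?_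
    rw [Ideal.mk_ker]
    exact hI
  have hD : IsLocalization.AtPrime D 𝔮 := isLocalization_quot I 𝔫 S 𝔮 h𝔮
  let _ : Algebra κ D := ((algebraMap C D).comp (algebraMap κ C)).toAlgebra
  have : IsScalarTower κ C D := IsScalarTower.of_algebraMap_eq' rfl
  have hart : IsArtinianRing C := IsArtinianRing.of_finite κ C
  have hDfin : Module.Finite κ D := by
    refine Module.Finite.of_surjective (IsScalarTower.toAlgHom κ C D).toLinearMap ?_
    exact IsArtinianRing.localization_surjective 𝔮.primeCompl D
  have hDloc : IsLocalRing D := IsLocalization.AtPrime.isLocalRing D 𝔮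
  rw [← finrank_eq_length (κ := κ) (C := D)]
  -- the idempotent
  obtain ⟨e, he, heq, hne⟩ := exists_idem κ 𝔮
  obtain ⟨b, rfl⟩ := Ideal.Quotient.mk_surjective e
  have h1 := trace_idem (κ := κ) 𝔮 _ he heq hne D
  have h2 := sum_eq_trace (K := K) (F := F) 𝔪 hflat hsp ι ev hev hι χ hχ ψ ψ' (fun r => rfl) b
  rw [h1, map_natCast] at h2
  -- the values
  have hval : ∀ τ : F →ₐ[K] E, ψ (χ τ b) = if RingHom.ker (ψ.comp (χ τ)) = 𝔫 then 1 else 0 := by
    intro τ
    have h3 : ((χ τ).comp (algebraMap R B)) = ι := by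
      ext r
      apply hev
      change ev (χ τ (algebraMap R B r)) = ev (ι r)
      rw [hχ, hι, ← IsScalarTower.algebraMap_apply R B F, IsScalarTower.algebraMap_apply R K F,
        AlgHom.commutes]
    let 𝔭 := RingHom.ker (ψ.comp (χ τ))
    have h𝔭 : 𝔭.IsPrime := RingHom.ker_isPrime _
    have h4 : I ≤ 𝔭 := by
      rw [Ideal.map_le_iff_le_comap]
      intro r hr
      rw [← hψ] at hr
      change ψ (χ τ (algebraMap R B r)) = 0
      have := congr($h3 r)
      change χ τ (algebraMap R B r) = ι r at this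
      rw [this]
      exact hr
    have h5 : (ψ (χ τ b)) * (ψ (χ τ b)) = ψ (χ τ b) := by
      rw [← map_mul, ← map_mul, ← sub_eq_zero, ← map_sub, ← map_sub]
      apply h4
      rw [← Ideal.Quotient.eq_zero_iff_mem, map_sub, map_mul, he, sub_self]
    have h6 : ψ (χ τ b) = 0 ∨ ψ (χ τ b) = 1 := by
      have h7 : ψ (χ τ b) * (ψ (χ τ b) - 1) = 0 := by
        rw [mul_sub, mul_one, h5, sub_self]
      rcases mul_eq_zero.1 h7 with h | h
      · exact Or.inl h
      · exact Or.inr (sub_eq_zero.1 h)
    let 𝔭' : Ideal C := 𝔭.map (Ideal.Quotient.mk I)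
    have h𝔭c : 𝔭'.comap (Ideal.Quotient.mk I) = 𝔭 := by
      rw [Ideal.comap_map_of_surjective _ Ideal.Quotient.mk_surjective, sup_eq_left]
      refine le_trans ?_ h4
      intro x hx
      rw [Ideal.mem_comap, Ideal.mem_bot, Ideal.Quotient.eq_zero_iff_mem] at hx
      exact hx
    have h𝔭' : 𝔭'.IsPrime := by
      refine Ideal.map_isPrime_of_surjective Ideal.Quotient.mk_surjective ?_
      rw [Ideal.mk_ker]
      exact h4
    split_ifs with h
    · rcases h6 with h7 | h7
      · exfalso
        apply heq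
        have h8 : b ∈ 𝔫 := by
          rw [← h]
          exact h7
        exact Ideal.mem_map_of_mem _ h8
      · exact h7
    · have h8 : 𝔭' ≠ 𝔮 := by
        intro hc
        apply h
        rw [← h𝔮, ← hc, h𝔭c]
      have h9 := hne 𝔭' h𝔭' h8
      have h10 : b ∈ 𝔭'.comap (Ideal.Quotient.mk I) := h9
      rw [h𝔭c] at h10
      exact h10
  simp only [hval] at h2
  rw [Finset.sum_boole] at h2
  have h3 := Nat.cast_injective h2
  rw [← h3, Nat.card_eq_fintype_card, Fintype.card_subtype]

end Card

end K952.TraceCount
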