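import Groth.Agent.ZCorr.K952.GalQuot
import Groth.Agent.ZCorr.K952.TraceCount
import Groth.Agent.ZCorr.K952.Evp
import Mathlib.RingTheory.Localization.LocalizationLocalization
import Mathlib.RingTheory.Ideal.GoingUp
import Mathlib.RingTheory.Localization.Finiteness

/-!
# Counting the specializations of the conjugates of a point with values in a Galois extension
-/

set_option autoImplicit false
universe u

open CategoryTheory CategoryTheory.Limits AlgebraicGeometry IsLocalRing

namespace K952.EmbCount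

open GalQuot Evp

section ff

variable {W Z : Scheme.{u}} [IsIntegral W] [IsIntegral Z] (h : Z ⟶ W)
  (hh : h (genericPoint Z) = genericPoint W)

/-- The map of function fields. -/
noncomputable def ffMap : W.functionField ⟶ Z.functionField :=
  W.presheaf.stalkSpecializes (specializes_of_eq hh) ≫ h.stalkMap (genericPoint Z)

lemma ffMap_fromSpecStalk : Spec.map (ffMap h hh) ≫ W.fromSpecStalk (genericPoint W) =
    Z.fromSpecStalk (genericPoint Z) ≫ h := by
  unfold ffMap
  rw [Spec.map_comp, Category.assoc, Scheme.SpecMap_stalkSpecializes_fromSpecStalk,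
    Scheme.SpecMap_stalkMap_fromSpecStalk]

lemma appLE_germ_ff (U : W.Opens) (hU : genericPoint W ∈ U) (V : Z.Opens) (e : V ≤ h ⁻¹ᵁ U)
    (hV : genericPoint Z ∈ V) :
    h.appLE U V e ≫ Z.presheaf.germ V _ hV = W.presheaf.germ U _ hU ≫ ffMap h hh := by
  rw [appLE_germ h U V e _ hV (by rw [hh]; exact hU)]
  unfold ffMap
  rw [TopCat.Presheaf.germ_stalkSpecializes_assoc]

variable (L : Type u) [Field L] [Algebra W.functionField L]

/-- The `L`-valued points of `Z` over the generic `L`-valued point of `W` at the generic point. -/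
def LPt : Type u :=
  {lam : Spec (CommRingCat.of L) ⟶ Z // lam ≫ h = pt W L ∧ lam (closedPoint L) = genericPoint Z}

variable {L}

/-- The embedding of function fields attached to a point. -/
noncomputable def toHom (lam : LPt h L) : Z.functionField ⟶ CommRingCat.of L :=
  Z.presheaf.stalkSpecializes (specializes_of_eq lam.2.2) ≫ Scheme.stalkClosedPointTo lam.1

lemma toHom_fromSpecStalk (lam : LPt h L) :
    Spec.map (toHom h lam) ≫ Z.fromSpecStalk (genericPoint Z) = lam.1 := by
  unfold toHom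
  rw [Spec.map_comp, Category.assoc, Scheme.SpecMap_stalkSpecializes_fromSpecStalk,
    Scheme.Spec_stalkClosedPointTo_fromSpecStalk]

lemma ffMap_toHom (lam : LPt h L) :
    ffMap h hh ≫ toHom h lam = CommRingCat.ofHom (algebraMap W.functionField L) := by
  apply Spec.map_injective
  rw [← cancel_mono (W.fromSpecStalk (genericPoint W)), Spec.map_comp, Category.assoc,
    ffMap_fromSpecStalk, ← Category.assoc, toHom_fromSpecStalk, lam.2.1]
  rfl

/-- The point attached to an embedding of function fields. -/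
noncomputable def ofHom (τ : Z.functionField ⟶ CommRingCat.of L)
    (hτ : ffMap h hh ≫ τ = CommRingCat.ofHom (algebraMap W.functionField L)) : LPt h L :=
  ⟨Spec.map τ ≫ Z.fromSpecStalk (genericPoint Z), by
    rw [Category.assoc, ← ffMap_fromSpecStalk h hh, ← Category.assoc, ← Spec.map_comp, hτ]
    rfl, by
    refine (Scheme.Hom.comp_apply _ _ _).trans ?_
    have h1 : Spec.map τ (closedPoint L) = closedPoint Z.functionField := by
      have : Subsingleton (Spec Z.functionField) :=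
        inferInstanceAs (Subsingleton (PrimeSpectrum Z.functionField))
      exact Subsingleton.elim _ _
    rw [h1]
    exact Scheme.fromSpecStalk_closedPoint⟩

lemma toHom_ofHom (τ : Z.functionField ⟶ CommRingCat.of L)
    (hτ : ffMap h hh ≫ τ = CommRingCat.ofHom (algebraMap W.functionField L)) :
    toHom h (ofHom h hh τ hτ) = τ := by
  apply Spec.map_injective
  rw [← cancel_mono (Z.fromSpecStalk (genericPoint Z)), toHom_fromSpecStalk]
  rfl

lemma ofHom_toHom (lam : LPt h L) : ofHom h hh (toHom h lam) (ffMap_toHom h hh lam) = lam :=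
  Subtype.ext (toHom_fromSpecStalk h lam)

/-- The algebra structure on the function field. -/
@[reducible] noncomputable def algF : Algebra W.functionField Z.functionField :=
  (ffMap h hh).hom.toAlgebra

/-- Points are embeddings of function fields. -/
noncomputable def lptEquiv :
    letI := algF h hh
    (Z.functionField →ₐ[W.functionField] L) ≃ LPt h L :=
  letI := algF h hh
  { toFun := fun τ => ofHom h hh (CommRingCat.ofHom (τ : Z.functionField →+* L)) (by
      ext x
      exact τ.commutes x)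
    invFun := fun lam =>
      { (toHom h lam).hom with
        commutes' := fun x => congr($(ffMap_toHom h hh lam) x) }
    left_inv := fun τ => by
      ext x
      exact congr($(toHom_ofHom h hh (CommRingCat.ofHom (τ : Z.functionField →+* L)) (by
        ext x
        exact τ.commutes x)) x)
    right_inv := fun lam => ofHom_toHom h hh lam }

end ff

theorem flat_local {R B : Type*} [CommRing R] [CommRing B] [Algebra R B] [Module.Finite R B]
    (𝔪 : Ideal R) [𝔪.IsMaximal]
    (H : ∀ (𝔫 : Ideal B) (_ : 𝔫.IsPrime), 𝔫.comap (algebraMap R B) = 𝔪 →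
      Module.Flat R (Localization.AtPrime 𝔫)) :
    Module.Flat R (Localization (Algebra.algebraMapSubmonoid B 𝔪.primeCompl)) := by
  let A := Localization.AtPrime 𝔪
  let M := Localization (Algebra.algebraMapSubmonoid B 𝔪.primeCompl)
  let _ : Algebra A M := localizationAlgebra 𝔪.primeCompl B
  have : IsScalarTower R A M := IsScalarTower.of_algebraMap_eq'
    (by rw [RingHom.algebraMap_toAlgebra, IsLocalization.map_comp, ← IsScalarTower.algebraMap_eq])
  have : IsLocalization (Submonoid.map (algebraMap R B) (Ideal.primeCompl 𝔪)) M :=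
    inferInstanceAs (IsLocalization (Algebra.algebraMapSubmonoid B 𝔪.primeCompl) M)
  have hfin : Module.Finite A M := .of_isLocalization R B 𝔪.primeCompl
  refine Module.flat_of_isLocalized_maximal M M (fun P _ => Localization.AtPrime P)
    (fun P _ => Algebra.linearMap M _) fun P hP => ?_
  let 𝔫 := P.comap (algebraMap B M)
  have h𝔫 : 𝔫.comap (algebraMap R B) = 𝔪 := by
    have h1 : (P.comap (algebraMap A M)).IsMaximal :=
      Ideal.isMaximal_comap_of_isIntegral_of_isMaximal P
    have h2 := IsLocalRing.eq_maximalIdeal h1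
    rw [Ideal.comap_comap, ← IsScalarTower.algebraMap_eq R B M, IsScalarTower.algebraMap_eq R A M,
      ← Ideal.comap_comap, h2]
    exact IsLocalization.AtPrime.under_maximalIdeal A 𝔪
  have h3 := H 𝔫 inferInstance h𝔫
  have h4 : IsLocalization.AtPrime (Localization.AtPrime P) 𝔫 :=
    IsLocalization.isLocalization_isLocalization_atPrime_isLocalization
      (Algebra.algebraMapSubmonoid B 𝔪.primeCompl) (Localization.AtPrime P) P
  let e : Localization.AtPrime 𝔫 ≃ₐ[B] Localization.AtPrime P :=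
    IsLocalization.algEquiv 𝔫.primeCompl _ _
  exact Module.Flat.of_linearEquiv (e.restrictScalars R).symm.toLinearEquiv

section desc

variable {W Z : Scheme.{u}} [IsIntegral W] (h : Z ⟶ W) [IsIntegralHom h]
  {L : Type u} [Field L] [Algebra W.functionField L]

/-- The extension of a point with values in `L` to the normalization. -/
noncomputable def desc (lam : Spec (CommRingCat.of L) ⟶ Z) (hl : lam ≫ h = pt W L) : N W L ⟶ Z :=
  (pt W L).normalizationDesc lam h hl.symm

lemma toN_desc (lam : Spec (CommRingCat.of L) ⟶ Z) (hl : lam ≫ h = pt W L) :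
    (pt W L).toNormalization ≫ desc h lam hl = lam :=
  Scheme.Hom.toNormalization_normalizationDesc _ _ _ _

lemma desc_h (lam : Spec (CommRingCat.of L) ⟶ Z) (hl : lam ≫ h = pt W L) :
    desc h lam hl ≫ h = ν W L :=
  Scheme.Hom.normalizationDesc_comp _ _ _ _

lemma ν_le (lam : Spec (CommRingCat.of L) ⟶ Z) (hl : lam ≫ h = pt W L) (U : W.Opens) :
    ν W L ⁻¹ᵁ U ≤ desc h lam hl ⁻¹ᵁ (h ⁻¹ᵁ U) := by
  rw [← Scheme.Hom.comp_preimage, desc_h]

end desc

section count

variable {W Z : Scheme.{u}} [IsIntegral W] [IsIntegral Z] (h : Z ⟶ W) [IsFinite h]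
  (hh : h (genericPoint Z) = genericPoint W)
  {L : Type u} [Field L] [Algebra W.functionField L] [FiniteDimensional W.functionField L]
  [IsGalois W.functionField L] {k : Type u} [Field k] [IsAlgClosed k] [CharZero k]
  (qW : W ⟶ Spec (CommRingCat.of k)) (u' : Spec (CommRingCat.of k) ⟶ N W L)
  (hu' : (u' ≫ ν W L) ≫ qW = 𝟙 _)

include hh hu' in
/-- **The counting lemma.** -/
theorem card_eq (z : Z) (hz : h z = (u' ≫ ν W L) (closedPoint k))
    (hflat : ∀ z' : Z, h z' = h z → (h.stalkMap z').hom.Flat) (hne : Nonempty (LPt h L)) :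
    Nat.card {lam : LPt h L // (u' ≫ desc h lam.1 lam.2.1) (closedPoint k) = z} =
      (Module.length (Z.presheaf.stalk z ⧸
          (maximalIdeal (W.presheaf.stalk (h z))).map (h.stalkMap z).hom)
        (Z.presheaf.stalk z ⧸
          (maximalIdeal (W.presheaf.stalk (h z))).map (h.stalkMap z).hom)).toNat := by
  obtain ⟨_, ⟨U, hU, rfl⟩, hzU, -⟩ := W.isBasis_affineOpens.exists_subset_of_mem_open
    (Set.mem_univ (h z)) isOpen_univ
  have hgU : genericPoint W ∈ U := (genericPoint_specializes (h z)).mem_open U.isOpen hzU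
  have hV : IsAffineOpen (h ⁻¹ᵁ U) := hU.preimage h
  have hgV : genericPoint Z ∈ h ⁻¹ᵁ U := by
    change h (genericPoint Z) ∈ U
    rw [hh]
    exact hgU
  have hUne : Nonempty U := ⟨⟨_, hgU⟩⟩
  have hVne : Nonempty (h ⁻¹ᵁ U : Z.Opens) := ⟨⟨_, hgV⟩⟩
  -- the algebra structures
  let _ : Algebra Γ(W, U) Γ(Z, h ⁻¹ᵁ U) := (h.app U).hom.toAlgebra
  let _ : Algebra Γ(W, U) W.functionField := (W.presheaf.germ U _ hgU).hom.toAlgebra
  let _ : Algebra Γ(Z, h ⁻¹ᵁ U) Z.functionField := (Z.presheaf.germ (h ⁻¹ᵁ U) _ hgV).hom.toAlgebra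
  let _ : Algebra W.functionField Z.functionField := algF h hh
  let _ : Algebra Γ(W, U) Z.functionField :=
    ((algebraMap Γ(Z, h ⁻¹ᵁ U) Z.functionField).comp
      (algebraMap Γ(W, U) Γ(Z, h ⁻¹ᵁ U))).toAlgebra
  have hfrW : IsFractionRing Γ(W, U) W.functionField :=
    functionField_isFractionRing_of_isAffineOpen W U hU
  have hfrZ : IsFractionRing Γ(Z, h ⁻¹ᵁ U) Z.functionField :=
    functionField_isFractionRing_of_isAffineOpen Z _ hV
  have ht1 : IsScalarTower Γ(W, U) Γ(Z, h ⁻¹ᵁ U) Z.functionField :=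
    IsScalarTower.of_algebraMap_eq' rfl
  have ht2 : IsScalarTower Γ(W, U) W.functionField Z.functionField :=
    IsScalarTower.of_algebraMap_eq' (by
      have h1 := appLE_germ_ff h hh U hgU (h ⁻¹ᵁ U) le_rfl hgV
      rw [← Scheme.Hom.app_eq_appLE] at h1
      exact congrArg CommRingCat.Hom.hom h1)
  have hfin : Module.Finite Γ(W, U) Γ(Z, h ⁻¹ᵁ U) := IsFinite.finite_app (f := h) U hU
  have hinj : Function.Injective (algebraMap Γ(W, U) Γ(Z, h ⁻¹ᵁ U)) := by
    have h1 : Function.Injective (algebraMap Γ(W, U) Z.functionField) := by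
      rw [IsScalarTower.algebraMap_eq Γ(W, U) W.functionField Z.functionField]
      exact (algebraMap W.functionField Z.functionField).injective.comp
        (IsFractionRing.injective Γ(W, U) W.functionField)
    rw [IsScalarTower.algebraMap_eq Γ(W, U) Γ(Z, h ⁻¹ᵁ U) Z.functionField, RingHom.coe_comp] at h1
    exact Function.Injective.of_comp h1
  have : FaithfulSMul Γ(W, U) Γ(Z, h ⁻¹ᵁ U) := (faithfulSMul_iff_algebraMap_injective _ _).2 hinj
  have hfd : FiniteDimensional W.functionField Z.functionField :=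
    Module.Finite.of_isLocalization Γ(W, U) Γ(Z, h ⁻¹ᵁ U) (nonZeroDivisors Γ(W, U))
  have hcharK : CharZero W.functionField := by
    let f : k →+* W.functionField :=
      ((Scheme.ΓSpecIso (CommRingCat.of k)).inv ≫ qW.appTop ≫
        W.presheaf.germ ⊤ (genericPoint W) trivial).hom
    exact charZero_of_injective_ringHom f.injective
  have hsep : Algebra.IsSeparable W.functionField Z.functionField := inferInstance
  have hsp : ∀ x : Z.functionField,
      ((minpoly W.functionField x).map (algebraMap W.functionField L)).Splits := by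
    intro x
    obtain ⟨lam⟩ := hne
    let τ := (lptEquiv h hh).symm lam
    rw [← minpoly.algHom_eq τ τ.toRingHom.injective x]
    exact Normal.splits inferInstance _
  -- the point of `W`
  have hwU : (u' ≫ ν W L) (closedPoint k) ∈ U := by rw [← hz]; exact hzU
  have e0 : (⊤ : (Spec (CommRingCat.of k)).Opens) ≤ (u' ≫ ν W L) ⁻¹ᵁ U :=
    top_le_of_mem (u' ≫ ν W L) U hwU
  have e1 : (⊤ : (Spec (CommRingCat.of k)).Opens) ≤ u' ⁻¹ᵁ (ν W L ⁻¹ᵁ U) := e0
  let ι : Γ(W, U) →+* Γ(N W L, ν W L ⁻¹ᵁ U) := ((ν W L).app U).hom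
  let ψ : Γ(N W L, ν W L ⁻¹ᵁ U) →+* k := (evp u' (ν W L ⁻¹ᵁ U) e1).hom
  have hψι : ψ.comp ι = (evp (u' ≫ ν W L) U e0).hom := by
    have h1 := evp_comp u' (ν W L) (u' ≫ ν W L) rfl U (ν W L ⁻¹ᵁ U) e0 le_rfl e1
    rw [h1, ← Scheme.Hom.app_eq_appLE]
    rfl
  let 𝔪 : Ideal Γ(W, U) := pI U (h z) hzU
  have hker : RingHom.ker (ψ.comp ι) = 𝔪 := by
    rw [hψι, ker_evp (u' ≫ ν W L) U hwU e0]
    have : ∀ (w : W) (hw : w ∈ U), w = h z → pI U w hw = pI U (h z) hzU := by
      rintro w hw rfl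
      rfl
    exact this _ _ hz.symm
  have hsurj : Function.Surjective (ψ.comp ι) := by
    intro c
    have e2 : (⊤ : (Spec (CommRingCat.of k)).Opens) ≤
        (𝟙 (Spec (CommRingCat.of k))) ⁻¹ᵁ ⊤ := le_rfl
    have h1 := evp_comp (u' ≫ ν W L) qW (𝟙 _) hu' ⊤ U e2 (by
      intro x _
      trivial) e0
    refine ⟨(qW.appLE ⊤ U (by intro x _; trivial)).hom
      ((Scheme.ΓSpecIso (CommRingCat.of k)).inv.hom c), ?_⟩
    rw [hψι]
    have h2 := congr($h1 ((Scheme.ΓSpecIso (CommRingCat.of k)).inv.hom c))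
    refine h2.symm.trans ?_
    have h3 : evp (𝟙 (Spec (CommRingCat.of k))) ⊤ e2 =
        (Scheme.ΓSpecIso (CommRingCat.of k)).hom := by
      unfold evp
      rw [Groth.Agent.Sga1.QuotBasic.id_appLE_self, Category.id_comp]
    rw [h3]
    exact congr($((Scheme.ΓSpecIso (CommRingCat.of k)).inv_hom_id) c)
  have h𝔪 : 𝔪.IsMaximal := by
    rw [← hker]
    exact RingHom.ker_isMaximal_of_surjective _ hsurj
  -- the sections along the conjugates
  let χ : (Z.functionField →ₐ[W.functionField] L) →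
      (Γ(Z, h ⁻¹ᵁ U) →+* Γ(N W L, ν W L ⁻¹ᵁ U)) := fun τ =>
    ((desc h (lptEquiv h hh τ).1 (lptEquiv h hh τ).2.1).appLE (h ⁻¹ᵁ U) (ν W L ⁻¹ᵁ U)
      (ν_le h _ _ U)).hom
  have hχ : ∀ (τ : Z.functionField →ₐ[W.functionField] L) (b : Γ(Z, h ⁻¹ᵁ U)),
      (ev W U hgU).hom (χ τ b) = τ (algebraMap _ Z.functionField b) := by
    intro τ b
    let lam := lptEquiv h hh τ
    have e3 : (⊤ : (Spec (CommRingCat.of L)).Opens) ≤ lam.1 ⁻¹ᵁ (h ⁻¹ᵁ U) := by
      apply top_le_of_mem
      rw [lam.2.2]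
      exact hgV
    have h1 := evp_comp (pt W L).toNormalization (desc h lam.1 lam.2.1) lam.1
      (toN_desc h _ _) (h ⁻¹ᵁ U) (ν W L ⁻¹ᵁ U) e3 (ν_le h _ _ U) (top_le W U hgU)
    have h2 := evp_SpecMap (CommRingCat.ofHom (τ : Z.functionField →+* L))
      (Z.fromSpecStalk (genericPoint Z)) lam.1 rfl (h ⁻¹ᵁ U) e3 (top_le_fromSpecStalk _ _ hgV)
    rw [evp_fromSpecStalk _ _ hgV] at h2
    have h3 := h1.symm.trans h2
    exact congr($h3 b)
  -- flatness
  have hflat' : Module.Flat Γ(W, U)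
      (Localization (Algebra.algebraMapSubmonoid Γ(Z, h ⁻¹ᵁ U) 𝔪.primeCompl)) := by
    apply flat_local
    intro 𝔫 h𝔫 hcomap
    obtain ⟨z', hz', rfl⟩ := exists_eq_pI hV 𝔫
    have h1 : h z' = h z := by
      have h2 := comap_pI h U (h ⁻¹ᵁ U) le_rfl z' hz'
      rw [← Scheme.Hom.app_eq_appLE] at h2
      have h3 : pI U (h z') hz' = pI U (h z) hzU := h2.symm.trans hcomap
      exact pI_inj hU _ _ h3
    let _ : Algebra Γ(Z, h ⁻¹ᵁ U) (Z.presheaf.stalk z') :=
      (Z.presheaf.germ (h ⁻¹ᵁ U) z' hz').hom.toAlgebra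
    have h4 : IsLocalization.AtPrime (Z.presheaf.stalk z') (pI (h ⁻¹ᵁ U) z' hz') :=
      isLocalization_stalk hV z' hz'
    let e : Localization.AtPrime (pI (h ⁻¹ᵁ U) z' hz') ≃ₐ[Γ(Z, h ⁻¹ᵁ U)] Z.presheaf.stalk z' :=
      IsLocalization.algEquiv (pI (h ⁻¹ᵁ U) z' hz').primeCompl _ _
    let _ : Algebra Γ(W, U) (Z.presheaf.stalk z') :=
      ((algebraMap Γ(Z, h ⁻¹ᵁ U) (Z.presheaf.stalk z')).comp
        (algebraMap Γ(W, U) Γ(Z, h ⁻¹ᵁ U))).toAlgebra
    have : IsScalarTower Γ(W, U) Γ(Z, h ⁻¹ᵁ U) (Z.presheaf.stalk z') :=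
      IsScalarTower.of_algebraMap_eq' rfl
    have h5 : Module.Flat Γ(W, U) (Z.presheaf.stalk z') := by
      have h6 : (Z.presheaf.germ (h ⁻¹ᵁ U) z' hz').hom.comp (h.app U).hom =
          ((h.stalkMap z').hom).comp (W.presheaf.germ U (h z') hz').hom := by
        have h7 := appLE_germ h U (h ⁻¹ᵁ U) le_rfl z' hz' hz'
        rw [← Scheme.Hom.app_eq_appLE] at h7
        exact congrArg CommRingCat.Hom.hom h7
      have h8 : (W.presheaf.germ U (h z') hz').hom.Flat := by
        let _ := (W.presheaf.germ U (h z') hz').hom.toAlgebra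
        have := isLocalization_stalk hU (h z') hz'
        have hp : (pI U (h z') hz').IsPrime := Ideal.comap_isPrime _ _
        exact IsLocalization.flat (W.presheaf.stalk (h z')) (pI U (h z') hz').primeCompl
      have h9 := h8.comp (hflat z' h1)
      rw [← h6] at h9
      exact h9
    exact Module.Flat.of_linearEquiv (e.restrictScalars Γ(W, U)).toLinearEquiv
  -- the point `z`
  let 𝔫 : Ideal Γ(Z, h ⁻¹ᵁ U) := pI (h ⁻¹ᵁ U) z hzU
  have h𝔫p : 𝔫.IsPrime := Ideal.comap_isPrime _ _
  have h𝔫 : 𝔫.comap (algebraMap Γ(W, U) Γ(Z, h ⁻¹ᵁ U)) = 𝔪 := by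
    have h2 := comap_pI h U (h ⁻¹ᵁ U) le_rfl z hzU
    rw [← Scheme.Hom.app_eq_appLE] at h2
    exact h2
  let _ : Algebra Γ(Z, h ⁻¹ᵁ U) (Z.presheaf.stalk z) :=
    (Z.presheaf.germ (h ⁻¹ᵁ U) z hzU).hom.toAlgebra
  have hloc : IsLocalization.AtPrime (Z.presheaf.stalk z) 𝔫 := isLocalization_stalk hV z hzU
  have hmain := TraceCount.card_eq_length (R := Γ(W, U)) (B := Γ(Z, h ⁻¹ᵁ U))
    (K := W.functionField) (F := Z.functionField) (E := L) (k := k) 𝔪 hflat' hsp ι
    (ev W U hgU).hom (ev_injective W U hgU hU) (fun r => congr($(app_ev W U hgU) r)) χ hχ ψ hker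
    hsurj 𝔫 h𝔫 (Z.presheaf.stalk z)
  have hideal : (𝔪.map (algebraMap Γ(W, U) Γ(Z, h ⁻¹ᵁ U))).map
      (algebraMap Γ(Z, h ⁻¹ᵁ U) (Z.presheaf.stalk z)) =
      (maximalIdeal (W.presheaf.stalk (h z))).map (h.stalkMap z).hom := by
    have h6 : (Z.presheaf.germ (h ⁻¹ᵁ U) z hzU).hom.comp (h.app U).hom =
        ((h.stalkMap z).hom).comp (W.presheaf.germ U (h z) hzU).hom := by
      have h7 := appLE_germ h U (h ⁻¹ᵁ U) le_rfl z hzU hzU
      rw [← Scheme.Hom.app_eq_appLE] at h7
      exact congrArg CommRingCat.Hom.hom h7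
    rw [Ideal.map_map]
    change 𝔪.map ((Z.presheaf.germ (h ⁻¹ᵁ U) z hzU).hom.comp (h.app U).hom) = _
    rw [h6, ← Ideal.map_map, map_pI hU]
  rw [hideal] at hmain
  rw [← hmain]
  refine Nat.card_congr (Equiv.subtypeEquiv (lptEquiv h hh) fun τ => ?_).symm
  -- comparison of the conditions
  let lam := lptEquiv h hh τ
  have hmem : (u' ≫ desc h lam.1 lam.2.1) (closedPoint k) ∈ h ⁻¹ᵁ U := by
    have h5 : (u' ≫ desc h lam.1 lam.2.1) ≫ h = u' ≫ ν W L := by
      rw [Category.assoc, desc_h]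
    have h6 : h ((u' ≫ desc h lam.1 lam.2.1) (closedPoint k)) =
        (u' ≫ ν W L) (closedPoint k) := by
      rw [← h5]
      rfl
    change h ((u' ≫ desc h lam.1 lam.2.1) (closedPoint k)) ∈ U
    rw [h6]
    exact hwU
  have e4 := top_le_of_mem (u' ≫ desc h lam.1 lam.2.1) (h ⁻¹ᵁ U) hmem
  have h1 : (ψ.comp (χ τ)) = (evp (u' ≫ desc h lam.1 lam.2.1) (h ⁻¹ᵁ U) e4).hom := by
    have h2 := evp_comp u' (desc h lam.1 lam.2.1) (u' ≫ desc h lam.1 lam.2.1) rfl (h ⁻¹ᵁ U)
      (ν W L ⁻¹ᵁ U) e4 (ν_le h _ _ U) e1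
    rw [h2]
    rfl
  rw [h1, ker_evp _ _ hmem]
  constructor
  · intro h2
    exact pI_inj hV _ _ h2
  · intro h2
    change (u' ≫ desc h lam.1 lam.2.1) (closedPoint k) = z at h2
    have : ∀ (w : Z) (hw : w ∈ h ⁻¹ᵁ U), w = z → pI (h ⁻¹ᵁ U) w hw = pI (h ⁻¹ᵁ U) z hzU := by
      rintro w hw rfl
      rfl
    exact this _ _ h2

end count

end K952.EmbCount
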