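import Groth.Agent.ZCorr.K952.Mult

/-!
# Slices of a product over a rational point
-/

set_option autoImplicit false

universe u

open AlgebraicGeometry CategoryTheory CategoryTheory.Limits

namespace K952.Slice

open Basic AlgEqCyc

variable {k : Type u} [Field k] {X W : Scheme.{u}} (p : X ⟶ Spec (CommRingCat.of k))
  (q : W ⟶ Spec (CommRingCat.of k)) (t : Spec (CommRingCat.of k) ⟶ W) (ht : t ≫ q = 𝟙 _)

@[reassoc]
theorem slice_fst : slice p q t ht ≫ pullback.fst p q = 𝟙 X := by
  unfold slice; exact pullback.lift_fst _ _ _

@[reassoc]
theorem slice_snd : slice p q t ht ≫ pullback.snd p q = p ≫ t := by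
  unfold slice; exact pullback.lift_snd _ _ _

theorem isPullback_slice : IsPullback (slice p q t ht) p (pullback.snd p q) t := by
  refine IsPullback.of_right (h₁₂ := pullback.fst p q) (h₂₂ := q) (v₁₃ := p) ?_ (slice_snd p q t ht)
    (IsPullback.of_hasPullback p q)
  rw [slice_fst, ht]
  exact IsPullback.of_horiz_isIso ⟨by simp⟩

/-- The point of `W` under a rational point. -/
noncomputable abbrev pt (t : Spec (CommRingCat.of k) ⟶ W) : W := t (IsLocalRing.closedPoint k)

include ht in
theorem isClosedImmersion_pt [IsSeparated q] : IsClosedImmersion t :=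
  isClosedImmersion_of_comp_eq_id q t ht

theorem range_pt : Set.range t = {pt t} := by
  ext w
  constructor
  · rintro ⟨s, rfl⟩
    rw [Subsingleton.elim s (IsLocalRing.closedPoint k)]
    rfl
  · rintro rfl
    exact ⟨_, rfl⟩

theorem isClosedImmersion_slice [IsSeparated q] : IsClosedImmersion (slice p q t ht) :=
  have := isClosedImmersion_pt q t ht
  MorphismProperty.of_isPullback (isPullback_slice p q t ht).flip this

theorem range_slice : Set.range (slice p q t ht) = pullback.snd p q ⁻¹' {pt t} := by
  rw [← range_pt t, ← Scheme.Pullback.range_fst, ← (isPullback_slice p q t ht).isoPullback_hom_fst,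
    Scheme.Hom.comp_base, TopCat.coe_comp, Set.range_comp, Set.range_eq_univ.mpr, Set.image_univ]
  exact (isPullback_slice p q t ht).isoPullback.hom.homeomorph.surjective

theorem snd_slice (x : X) : pullback.snd p q (slice p q t ht x) = pt t := by
  have : slice p q t ht x ∈ pullback.snd p q ⁻¹' {pt t} := by
    rw [← range_slice p q t ht]; exact ⟨x, rfl⟩
  exact this

theorem fst_slice (x : X) : pullback.fst p q (slice p q t ht x) = x := by
  rw [← Scheme.Hom.comp_apply, slice_fst]
  rfl

theorem exists_slice {z : ↥(pullback p q)} (hz : pullback.snd p q z = pt t) :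
    ∃ x, slice p q t ht x = z := by
  have : z ∈ Set.range (slice p q t ht) := by rw [range_slice]; exact hz
  exact this

theorem slice_injective [IsSeparated q] : Function.Injective (slice p q t ht) :=
  have := isClosedImmersion_slice p q t ht
  (slice p q t ht).isClosedEmbedding.injective

end K952.Slice
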