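import Groth.Agent.ZCorr.K952.GalExist
import Groth.Agent.ZCorr.K952.LiftPt
import Groth.Agent.ZCorr.K952.FibCycle
import Groth.Agent.ZCorr.K952.Slice

/-!
# The members of a finite family as specializations of its geometric generic member
-/

set_option autoImplicit false
universe u

open CategoryTheory CategoryTheory.Limits AlgebraicGeometry IsLocalRing AlgEqCyc

namespace K952.FamCount

open GalQuot EmbCount ExtPt GalExist

variable {k : Type u} [Field k] [IsAlgClosed k] [CharZero k] {X W : Scheme.{u}}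
  (p : X ⟶ Spec (CommRingCat.of k)) (q : W ⟶ Spec (CommRingCat.of k)) [IsProper p]
  [IsIntegral W] {L : Type u} [Field L] [Algebra W.functionField L]

omit [IsAlgClosed k] [IsProper p] in
include q in
theorem charZero_functionField : CharZero W.functionField := by
  let f : k →+* W.functionField :=
    ((Scheme.ΓSpecIso (CommRingCat.of k)).inv ≫ q.appTop ≫
      W.presheaf.germ ⊤ (genericPoint W) trivial).hom
  exact charZero_of_injective_ringHom f.injective

theorem finsum_subtype_of_support {α : Type*} (f : α → ℤ) (P : α → Prop)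
    (h : ∀ a, f a ≠ 0 → P a) : ∑ᶠ j : Subtype P, f j = ∑ᶠ a, f a := by
  rw [← finsum_mem_univ (f := f)]
  refine (finsum_set_coe_eq_finsum_mem {a | P a}).trans ?_
  apply finsum_mem_inter_support_eq'
  intro x hx
  exact ⟨fun _ => trivial, fun _ => h x hx⟩

omit [IsAlgClosed k] [CharZero k] [IsProper p] [IsIntegral W] in
/-- A rational point of the product over `u` is on the slice. -/
theorem eq_slice (u : Spec (CommRingCat.of k) ⟶ W) (hu : u ≫ q = 𝟙 _)
    (a : Spec (CommRingCat.of k) ⟶ pullback p q) (ha : a ≫ pullback.snd p q = u) :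
    a = (a ≫ pullback.fst p q) ≫ slice p q u hu := by
  apply pullback.hom_ext
  · unfold slice
    rw [Category.assoc, pullback.lift_fst, Category.comp_id]
  · unfold slice
    rw [Category.assoc, pullback.lift_snd, ha, Category.assoc, pullback.condition_assoc,
      reassoc_of% ha, reassoc_of% hu]

omit [IsAlgClosed k] [CharZero k] [IsProper p] [IsIntegral W] in
theorem slice_injective (u : Spec (CommRingCat.of k) ⟶ W) (hu : u ≫ q = 𝟙 _) :
    Function.Injective (slice p q u hu) := by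
  intro x y hxy
  have h1 : slice p q u hu ≫ pullback.fst p q = 𝟙 _ := by
    unfold slice
    rw [pullback.lift_fst]
  have h2 : ∀ x, pullback.fst p q (slice p q u hu x) = x := by
    intro x
    have h3 : pullback.fst p q (slice p q u hu x) = (slice p q u hu ≫ pullback.fst p q) x := rfl
    rw [h3, h1]
    rfl
  rw [← h2 x, hxy, h2 y]

variable (Γ : AlgebraicCycle (pullback p q) ℤ)

/-- The index set of the conjugates of the components of a cycle, with multiplicities. -/
def Idx (L : Type u) [Field L] [Algebra W.functionField L] : Type u :=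
  Σ w : {w : ↥(pullback p q) // Γ w ≠ 0}, Fin (Γ w.1).toNat × PPt (pullback.snd p q) L w.1

variable (φ : ∀ w : ↥(pullback p q), PPt (pullback.snd p q) L w → (N W L ⟶ pullback p q))

section

variable (u' : Spec (CommRingCat.of k) ⟶ N W L)

omit [IsAlgClosed k] [CharZero k] [IsProper p] in
/-- Counting in the index set. -/
theorem card_idx (hfs : (Function.support ⇑Γ).Finite) (hΓ0 : ∀ ξ, 0 ≤ Γ ξ)
    (hfinite : ∀ w, Γ w ≠ 0 → Finite (PPt (pullback.snd p q) L w)) (v : ↥(pullback p q)) :
    (Nat.card {i : Idx p q Γ L // (u' ≫ φ i.1.1 i.2.2) (closedPoint k) = v} : ℤ) =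
      ∑ᶠ w : ↥(pullback p q), Γ w * (Nat.card {lam : PPt (pullback.snd p q) L w //
        (u' ≫ φ w lam) (closedPoint k) = v} : ℤ) := by
  classical
  let C : ↥(pullback p q) → ℕ := fun w => Nat.card {lam : PPt (pullback.snd p q) L w //
        (u' ≫ φ w lam) (closedPoint k) = v}
  have : Finite {w : ↥(pullback p q) // Γ w ≠ 0} := hfs
  have := Fintype.ofFinite {w : ↥(pullback p q) // Γ w ≠ 0}
  let e : {i : Idx p q Γ L // (u' ≫ φ i.1.1 i.2.2) (closedPoint k) = v} ≃
      Σ w : {w : ↥(pullback p q) // Γ w ≠ 0}, Fin (Γ w.1).toNat ×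
        {lam : PPt (pullback.snd p q) L w.1 // (u' ≫ φ w.1 lam) (closedPoint k) = v} :=
    { toFun := fun i => ⟨i.1.1, i.1.2.1, ⟨i.1.2.2, i.2⟩⟩
      invFun := fun j => ⟨⟨j.1, j.2.1, j.2.2.1⟩, j.2.2.2⟩
      left_inv := fun i => rfl
      right_inv := fun j => rfl }
  have hf : ∀ w : {w : ↥(pullback p q) // Γ w ≠ 0}, Finite (Fin (Γ w.1).toNat ×
        {lam : PPt (pullback.snd p q) L w.1 // (u' ≫ φ w.1 lam) (closedPoint k) = v}) := by
    intro w
    have := hfinite w.1 w.2
    infer_instance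
  rw [Nat.card_congr e, Nat.card_sigma, Nat.cast_sum]
  have h1 : ∀ w : {w : ↥(pullback p q) // Γ w ≠ 0}, ((Nat.card (Fin (Γ w.1).toNat ×
        {lam : PPt (pullback.snd p q) L w.1 // (u' ≫ φ w.1 lam) (closedPoint k) = v}) : ℕ) : ℤ) =
      Γ w.1 * (C w.1 : ℤ) := by
    intro w
    rw [Nat.card_prod, Nat.card_fin, Nat.cast_mul, Int.toNat_of_nonneg (hΓ0 _)]
  simp only [h1]
  rw [← finsum_eq_sum_of_fintype]
  refine finsum_subtype_of_support (fun w => Γ w * (C w : ℤ)) (fun w => Γ w ≠ 0) ?_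
  intro w hw h0
  apply hw
  rw [h0, zero_mul]

end

section

variable [FiniteDimensional W.functionField L] [IsGalois W.functionField L]
  (u' : Spec (CommRingCat.of k) ⟶ N W L) (u : Spec (CommRingCat.of k) ⟶ W)
  (huu : u' ≫ ν W L = u) (hu : u ≫ q = 𝟙 _)

include huu in
/-- The coefficients of the member of a family over `u`. -/
theorem fibreFun_eq (hφ : ∀ w, Γ w ≠ 0 → ∀ lam, IsExt (pullback.snd p q) L (φ w lam) lam.1)
    (hgen : ∀ ξ, Γ ξ ≠ 0 → pullback.snd p q ξ = genericPoint W)
    (hfin : ∀ ξ, Γ ξ ≠ 0 → ∀ w : W, (closure {ξ} ∩ pullback.snd p q ⁻¹' {w}).Finite)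
    (hflat : ∀ ξ, Γ ξ ≠ 0 → ∀ (z : ↥(pullback p q)) (h : ξ ⤳ z),
      pullback.snd p q z = u (closedPoint k) →
      ((Ideal.Quotient.mk (RingHom.ker (Cyc.specMap z ξ h))).comp
        ((pullback.snd p q).stalkMap z).hom).Flat)
    (hne : ∀ ξ, Γ ξ ≠ 0 → Nonempty (PPt (pullback.snd p q) L ξ)) (x : X) :
    fibreFun p q Γ u hu x =
      ∑ᶠ w : ↥(pullback p q), Γ w * (Nat.card {lam : PPt (pullback.snd p q) L w //
        (u' ≫ φ w lam) (closedPoint k) = slice p q u hu x} : ℤ) := by
  classical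
  subst huu
  have hsv : pullback.snd p q (slice p q (u' ≫ ν W L) hu x) = (u' ≫ ν W L) (closedPoint k) := by
    have h1 : pullback.snd p q (slice p q (u' ≫ ν W L) hu x) =
        (slice p q (u' ≫ ν W L) hu ≫ pullback.snd p q) x := rfl
    have h2 : slice p q (u' ≫ ν W L) hu ≫ pullback.snd p q = p ≫ (u' ≫ ν W L) := by
      unfold slice
      rw [pullback.lift_snd]
    rw [h1, h2]
    have h3 : (p ≫ (u' ≫ ν W L)) x = (u' ≫ ν W L) (p x) := rfl
    have : Subsingleton (Spec (CommRingCat.of k)) :=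
      inferInstanceAs (Subsingleton (PrimeSpectrum k))
    rw [h3, Subsingleton.elim (p x) (closedPoint k)]
  unfold fibreFun
  let f : ↥(pullback p q) → ℤ := fun w => Γ w * (Nat.card {lam : PPt (pullback.snd p q) L w //
        (u' ≫ φ w lam) (closedPoint k) = slice p q (u' ≫ ν W L) hu x} : ℤ)
  have h1 : ∀ w : {w : ↥(pullback p q) // Γ w ≠ 0 ∧ w ⤳ slice p q (u' ≫ ν W L) hu x},
      Γ w.1 * (fibreMult (pullback.snd p q) (slice p q (u' ≫ ν W L) hu x) w.1 w.2.2 : ℤ) =
        f w.1 := by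
    intro w
    simp only [f]
    rw [← ExtPt.card_eq q u' hu (hgen w.1 w.2.1) (hfin w.1 w.2.1)
      (slice p q (u' ≫ ν W L) hu x) hsv w.2.2
      (fun z h hz => hflat w.1 w.2.1 z h (hz.trans hsv)) (hne w.1 w.2.1) (φ w.1)
      (hφ w.1 w.2.1)]
  rw [finsum_congr h1]
  refine finsum_subtype_of_support f (fun w => Γ w ≠ 0 ∧ w ⤳ slice p q (u' ≫ ν W L) hu x) ?_
  intro w hw
  have h2 : Γ w ≠ 0 := by
    intro h0
    apply hw
    simp only [f]
    rw [h0, zero_mul]
  refine ⟨h2, ?_⟩
  by_contra hs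
  apply hw
  simp only [f]
  rw [ExtPt.card_eq_zero u' hs (φ w) (hφ w h2), Nat.cast_zero, mul_zero]

include huu in
omit [IsAlgClosed k] [CharZero k] [IsProper p] [FiniteDimensional W.functionField L]
  [IsGalois W.functionField L] in
theorem apply_eq_slice_iff {φ : N W L ⟶ pullback p q} (hφ : φ ≫ pullback.snd p q = ν W L) (x : X) :
    (u' ≫ φ) (closedPoint k) = slice p q u hu x ↔
      (u' ≫ φ ≫ pullback.fst p q) (closedPoint k) = x := by
  have h1 := eq_slice p q u hu (u' ≫ φ) (by rw [Category.assoc, hφ, huu])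
  rw [Category.assoc u' φ] at h1
  rw [h1]
  have h2 : ((u' ≫ φ ≫ pullback.fst p q) ≫ slice p q u hu) (closedPoint k) =
      slice p q u hu ((u' ≫ φ ≫ pullback.fst p q) (closedPoint k)) := rfl
  rw [h2]
  exact (slice_injective p q u hu).eq_iff

end

end K952.FamCount
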