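import Groth.Agent.ZCorr.K952.ExtPt
import Groth.Agent.ZCorr.K952.Pts
import Groth.Agent.ZCorr.K952.Slice
import Groth.Agent.ZCorr.K952.FibCycle
import Groth.Agent.S1856
import Groth.Agent.CycB.FiniteFlat

/-!
# Members of a finite flat family over rationally equivalent points are rationally equivalent
-/

set_option autoImplicit false
universe u

open CategoryTheory CategoryTheory.Limits AlgebraicGeometry IsLocalRing AlgEqCyc

namespace K952.FamRat

open Basic Pts ExtPt Groth.Agent.CycA.MovRatZ Groth.Agent

variable {k : Type u} [Field k] [IsAlgClosed k] {X W : Scheme.{u}}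
  (p : X ⟶ Spec (CommRingCat.of k)) (q : W ⟶ Spec (CommRingCat.of k)) [IsProper p] [IsProper q]

/-- The member over `t` of the family given by the closure of `ξ`. -/
noncomputable def mem (ξ : ↥(pullback p q)) (t : Spec (CommRingCat.of k) ⟶ W) (ht : t ≫ q = 𝟙 _)
    (x : X) : ℤ :=
  open Classical in
  if h : ξ ⤳ slice p q t ht x then (fibreMult (pullback.snd p q) (slice p q t ht x) ξ h : ℤ)
  else 0

theorem hasRelDim_zero {Z Y : Scheme.{u}} (f : Z ⟶ Y) [IsFinite f] : Cyc.HasRelDim f 0 := by
  intro y T hT
  have hd : DiscreteTopology (f.fiber y) := inferInstance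
  have := CycB.FiniteFlat.topologicalKrullDim_of_mem_irreducibleComponents_of_discrete T hT
  simpa using this

omit [IsAlgClosed k] [IsProper p] [IsProper q] in
theorem flat_closure {Z : Scheme.{u}} [IsIntegral Z] (i : Z ⟶ pullback p q) [IsClosedImmersion i]
    (hflat : ∀ (z : ↥(pullback p q)) (h : i (genericPoint Z) ⤳ z),
      ((Ideal.Quotient.mk (RingHom.ker (Cyc.specMap z (i (genericPoint Z)) h))).comp
        ((pullback.snd p q).stalkMap z).hom).Flat) : Flat (i ≫ pullback.snd p q) :=
  Flat.of_stalkMap _ fun z => flat_of_flat i (pullback.snd p q) z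
    (hflat (i z) ((genericPoint_specializes z).map i.continuous))

theorem mem_diff {ξ : ↥(pullback p q)}
    (hfin : ∀ w : W, (closure {ξ} ∩ pullback.snd p q ⁻¹' {w}).Finite)
    (hflat : ∀ (z : ↥(pullback p q)) (h : ξ ⤳ z),
      ((Ideal.Quotient.mk (RingHom.ker (Cyc.specMap z ξ h))).comp
        ((pullback.snd p q).stalkMap z).hom).Flat)
    (t₀ t₁ : Spec (CommRingCat.of k) ⟶ W) (h₀ : t₀ ≫ q = 𝟙 _) (h₁ : t₁ ≫ q = 𝟙 _)
    (hpt : PtEq q (t₀ (closedPoint k)) (t₁ (closedPoint k))) :
    mem p q ξ t₀ h₀ - mem p q ξ t₁ h₁ ∈ RZ p := by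
  classical
  obtain ⟨Z, i, _, _, hη, hi⟩ := CycA.ClosurePt.exists_closure_subscheme ξ
  subst hη
  have hfinite := isFinite_comp i hi hfin
  have hfl := flat_closure p q i hflat
  let h : Z ⟶ W := i ≫ pullback.snd p q
  have hcW : CompactSpace W := QuasiCompact.compactSpace_of_compactSpace q
  have hcX : CompactSpace X := QuasiCompact.compactSpace_of_compactSpace p
  have hcZ : CompactSpace Z := QuasiCompact.compactSpace_of_compactSpace h
  have hsW := isSetup_dm q
  have hsZ := isSetup_dm (h ≫ q)
  have hNW : IsLocallyNoetherian W := hsW.1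
  have hNZ : IsLocallyNoetherian Z := hsZ.1
  have hdel : ∀ z : Z, dm (h ≫ q) z = dm q (h z) := by
    intro z
    have := CycB.FiniteFlat.delta_eq_of_locallyQuasiFinite h _ _ (deltaCompat_dm_comp h q) z
    exact_mod_cast this
  -- the pullback of a point
  let P : W → (Z → ℤ) := fun w => Cyc.pullFun h (fun z => (dm (h ≫ q) z : ℤ))
    (fun y => (dm q y : ℤ)) 0 (Set.indicator {w} 1)
  have hP : ∀ (w : W) (z : Z), P w z = (Set.indicator {w} 1 : W → ℤ) (h z) *
      ((Module.length (Z.presheaf.stalk z) (Z.presheaf.stalk z ⧸ Ideal.map (h.stalkMap z).hom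
        (maximalIdeal (W.presheaf.stalk (h z))))).toNat : ℤ) := by
    intro w z
    have hc : (dm (h ≫ q) z : ℤ) = (dm q (h z) : ℤ) + 0 := by rw [hdel, add_zero]
    exact if_pos hc
  have hPs : ∀ w, (Function.support (P w)).Finite := by
    intro w
    refine ((h.finite_preimage_singleton w)).subset ?_
    intro z hz
    by_contra hc
    apply hz
    rw [hP, indicator_ne (fun e => hc e), zero_mul]
  have hIs : ∀ w : W, (Function.support (Set.indicator {w} 1 : W → ℤ)).Finite := fun w =>
    (Set.finite_singleton w).subset fun y hy => by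
      by_contra hc
      exact hy (indicator_ne hc)
  obtain ⟨a₀, ha₀⟩ := exists_cycle_of_finite_support (hIs (t₀ (closedPoint k)))
  obtain ⟨a₁, ha₁⟩ := exists_cycle_of_finite_support (hIs (t₁ (closedPoint k)))
  obtain ⟨b₀, hb₀⟩ := exists_cycle_of_finite_support (hPs (t₀ (closedPoint k)))
  obtain ⟨b₁, hb₁⟩ := exists_cycle_of_finite_support (hPs (t₁ (closedPoint k)))
  have hdim : ∀ (t : Spec (CommRingCat.of k) ⟶ W), t ≫ q = 𝟙 _ → dm q (t (closedPoint k)) = 0 := by
    intro t ht
    rw [dm_eq_zero_iff_isClosed]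
    exact FibCycle.isClosed_pt q t ht
  have hZk : ∀ (t : Spec (CommRingCat.of k) ⟶ W) (a : AlgebraicCycle W ℤ), t ≫ q = 𝟙 _ →
      ⇑a = Set.indicator {t (closedPoint k)} 1 → a ∈ Cyc.Zk W (fun y => (dm q y : ℤ)) 0 := by
    intro t a ht ha y hy
    rw [ha]
    apply indicator_ne
    rintro rfl
    exact hy (by simp [hdim t ht])
  have hrat : Cyc.RatEquiv (fun y => (dm q y : ℤ)) 0 a₀ a₁ := by
    refine ratEquivZero_of_mem_ratZ hsW.2.2 ?_
    have h1 : ⇑(a₀ - a₁) = (Set.indicator {t₀ (closedPoint k)} 1 -
        Set.indicator {t₁ (closedPoint k)} 1 : W → ℤ) := by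
      rw [← ha₀, ← ha₁]
      rfl
    rw [h1]
    exact hpt
  have hrat' := Groth.Agent.S1856.result Z W _ _ hsZ hsW h 0 (hasRelDim_zero h)
    (deltaCompat_dm_comp h q) 0 a₀ a₁ (hZk t₀ a₀ h₀ ha₀) (hZk t₁ a₁ h₁ ha₁) hrat b₀ b₁
    (by rw [hb₀, ha₀]; rfl) (by rw [hb₁, ha₁]; rfl)
  have hmem : P (t₀ (closedPoint k)) - P (t₁ (closedPoint k)) ∈ RZ (h ≫ q) := by
    have h1 := mem_ratZ_of_ratEquivZero hrat'
    have h2 : ⇑(b₀ - b₁) = P (t₀ (closedPoint k)) - P (t₁ (closedPoint k)) := by
      rw [← hb₀, ← hb₁]
      rfl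
    rw [h2] at h1
    simpa using h1
  -- pushforward
  have hcomm : h ≫ q = (i ≫ pullback.fst p q) ≫ p := by
    change (i ≫ pullback.snd p q) ≫ q = _
    rw [Category.assoc, Category.assoc, pullback.condition]
  rw [hcomm] at hmem
  have hpush := push_mem (i ≫ pullback.fst p q) p hmem
  have hval : ∀ (t : Spec (CommRingCat.of k) ⟶ W) (ht : t ≫ q = 𝟙 _) (x : X),
      ∑ᶠ z ∈ {z : Z | (i ≫ pullback.fst p q) z = x}, P (t (closedPoint k)) z =
        mem p q (i (genericPoint Z)) t ht x := by
    intro t ht x
    -- points with nonzero value are on the slice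
    have h1 : ∀ z : Z, (i ≫ pullback.fst p q) z = x → P (t (closedPoint k)) z ≠ 0 →
        i z = slice p q t ht x := by
      intro z hz hne
      have h2 : h z = t (closedPoint k) := by
        by_contra hc
        apply hne
        rw [hP, indicator_ne hc, zero_mul]
      obtain ⟨x', hx'⟩ := Slice.exists_slice p q t ht (z := i z) h2
      have h3 : pullback.fst p q (i z) = x' := by
        rw [← hx', Slice.fst_slice]
      have h4 : pullback.fst p q (i z) = x := hz
      rw [← hx', ← h3, h4]
    unfold mem
    by_cases hs : i (genericPoint Z) ⤳ slice p q t ht x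
    · obtain ⟨z, hz⟩ : slice p q t ht x ∈ Set.range i := by
        rw [hi]
        exact hs.mem_closure
      rw [dif_pos hs]
      have hzx : (i ≫ pullback.fst p q) z = x := by
        have : (i ≫ pullback.fst p q) z = pullback.fst p q (i z) := rfl
        rw [this, hz, Slice.fst_slice]
      have hhz : h z = t (closedPoint k) := by
        have : h z = pullback.snd p q (i z) := rfl
        rw [this, hz, Slice.snd_slice]
      rw [finsum_mem_def, finsum_eq_single _ z]
      · have h7 : (Set.indicator {t (closedPoint k)} 1 : W → ℤ) (h z) = 1 := by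
          rw [hhz]
          exact indicator_self _
        rw [Set.indicator_of_mem (show z ∈ {z : Z | (i ≫ pullback.fst p q) z = x} from hzx), hP,
          h7, one_mul]
        have h5 := fibreMult_eq_length i (pullback.snd p q) z
        have h6 : ∀ (v : ↥(pullback p q)) (hv : i (genericPoint Z) ⤳ v) (_ : i z = v),
            fibreMult (pullback.snd p q) v (i (genericPoint Z)) hv =
              fibreMult (pullback.snd p q) (i z) (i (genericPoint Z))
                ((genericPoint_specializes z).map i.continuous) := by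
          rintro v hv rfl
          rfl
        rw [h6 _ hs hz, h5]
        congr 2
        exact Module.length_eq_of_surjective Ideal.Quotient.mk_surjective
      · intro z' hz'
        by_cases hm : z' ∈ {z : Z | (i ≫ pullback.fst p q) z = x}
        · rw [Set.indicator_of_mem hm]
          by_contra hc
          exact hz' (i.isEmbedding.injective ((h1 z' hm hc).trans hz.symm))
        · rw [Set.indicator_of_notMem hm]
    · rw [dif_neg hs]
      apply finsum_mem_of_eqOn_zero
      intro z hz
      by_contra hc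
      apply hs
      rw [← h1 z hz hc]
      exact (genericPoint_specializes z).map i.continuous
  have hfinal : (fun x => ∑ᶠ z ∈ {z : Z | (i ≫ pullback.fst p q) z = x},
      (P (t₀ (closedPoint k)) - P (t₁ (closedPoint k))) z) =
      mem p q (i (genericPoint Z)) t₀ h₀ - mem p q (i (genericPoint Z)) t₁ h₁ := by
    funext x
    have h2 : ∀ z, (P (t₀ (closedPoint k)) - P (t₁ (closedPoint k))) z =
        P (t₀ (closedPoint k)) z - P (t₁ (closedPoint k)) z := fun _ => rfl
    simp only [h2]
    have h3 : ∀ w, (Function.support (Set.indicator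
        {z : Z | (i ≫ pullback.fst p q) z = x} (P w))).Finite := fun w =>
      (hPs w).subset (Set.support_indicator.trans_subset Set.inter_subset_right)
    have h4 : (fun z => Set.indicator {z : Z | (i ≫ pullback.fst p q) z = x}
        (fun z => P (t₀ (closedPoint k)) z - P (t₁ (closedPoint k)) z) z) = fun z =>
        Set.indicator {z : Z | (i ≫ pullback.fst p q) z = x} (P (t₀ (closedPoint k))) z -
        Set.indicator {z : Z | (i ≫ pullback.fst p q) z = x} (P (t₁ (closedPoint k))) z := by
      funext z
      by_cases hz : z ∈ {z : Z | (i ≫ pullback.fst p q) z = x}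
      · simp only [Set.indicator_of_mem hz]
      · simp only [Set.indicator_of_notMem hz, sub_zero]
    rw [finsum_mem_def, h4, finsum_sub_distrib (h3 _) (h3 _), ← finsum_mem_def, ← finsum_mem_def,
      hval t₀ h₀, hval t₁ h₁]
    rfl
  rw [hfinal] at hpush
  exact hpush

end K952.FamRat
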