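import Groth.Agent.ZCorr.K952.ExtPt
import Mathlib.FieldTheory.Normal.Closure
import Mathlib.FieldTheory.Galois.Basic

/-!
# Existence of Galois extensions of the function field
-/

set_option autoImplicit false
universe u

open CategoryTheory CategoryTheory.Limits AlgebraicGeometry IsLocalRing

namespace K952.GalExist

open GalQuot EmbCount ExtPt

/-- Finitely many finite extensions embed in a finite Galois extension. -/
theorem exists_galois (K : Type u) [Field K] [CharZero K] {J : Type*} [Finite J] (F : J → Type u)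
    [∀ j, Field (F j)] [∀ j, Algebra K (F j)] [∀ j, FiniteDimensional K (F j)] :
    ∃ (L : Type u) (_ : Field L) (_ : Algebra K L),
      FiniteDimensional K L ∧ IsGalois K L ∧ ∀ j, Nonempty (F j →ₐ[K] L) := by
  let Ω := AlgebraicClosure K
  let f : ∀ j, F j →ₐ[K] Ω := fun j => IsAlgClosed.lift
  let M : IntermediateField K Ω := ⨆ j, (f j).fieldRange
  have : ∀ j, FiniteDimensional K (f j).fieldRange := fun j =>
    Module.Finite.of_surjective (f j).rangeRestrict.toLinearMap (f j).rangeRestrict_surjective
  have hM : FiniteDimensional K M := IntermediateField.finiteDimensional_iSup_of_finite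
  let L := IntermediateField.normalClosure K M Ω
  refine ⟨L, inferInstance, inferInstance, inferInstance, inferInstance, fun j => ?_⟩
  have h1 : (f j).fieldRange ≤ L := (le_iSup (fun j => (f j).fieldRange) j).trans
    (IntermediateField.le_normalClosure M)
  exact ⟨(IntermediateField.inclusion h1).comp (f j).rangeRestrict⟩

variable {W Z : Scheme.{u}} [IsIntegral W] [IsIntegral Z] (h : Z ⟶ W) [IsFinite h]
  (hh : h (genericPoint Z) = genericPoint W)

/-- The extension of function fields of a finite dominant morphism is finite. -/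
theorem finite_ff : letI := algF h hh; FiniteDimensional W.functionField Z.functionField := by
  obtain ⟨_, ⟨U, hU, rfl⟩, hgU, -⟩ := W.isBasis_affineOpens.exists_subset_of_mem_open
    (Set.mem_univ (genericPoint W)) isOpen_univ
  have hV : IsAffineOpen (h ⁻¹ᵁ U) := hU.preimage h
  have hgV : genericPoint Z ∈ h ⁻¹ᵁ U := by
    change h (genericPoint Z) ∈ U
    rw [hh]
    exact hgU
  have hUne : Nonempty U := ⟨⟨_, hgU⟩⟩
  have hVne : Nonempty (h ⁻¹ᵁ U : Z.Opens) := ⟨⟨_, hgV⟩⟩
  let _ : Algebra Γ(W, U) Γ(Z, h ⁻¹ᵁ U) := (h.app U).hom.toAlgebra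
  let _ : Algebra Γ(W, U) W.functionField := (W.presheaf.germ U _ hgU).hom.toAlgebra
  let _ : Algebra Γ(Z, h ⁻¹ᵁ U) Z.functionField := (Z.presheaf.germ (h ⁻¹ᵁ U) _ hgV).hom.toAlgebra
  let _ : Algebra W.functionField Z.functionField := algF h hh
  let _ : Algebra Γ(W, U) Z.functionField :=
    ((algebraMap Γ(Z, h ⁻¹ᵁ U) Z.functionField).comp
      (algebraMap Γ(W, U) Γ(Z, h ⁻¹ᵁ U))).toAlgebra
  have hfrW : IsFractionRing Γ(W, U) W.functionField :=
    functionField_isFractionRing_of_isAffineOpen W U hU
  have hfrZ : IsFractionRing Γ(Z, h ⁻¹ᵁ U) Z.functionField :=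
    functionField_isFractionRing_of_isAffineOpen Z _ hV
  have ht1 : IsScalarTower Γ(W, U) Γ(Z, h ⁻¹ᵁ U) Z.functionField :=
    IsScalarTower.of_algebraMap_eq' rfl
  have ht2 : IsScalarTower Γ(W, U) W.functionField Z.functionField :=
    IsScalarTower.of_algebraMap_eq' (by
      have h1 := appLE_germ_ff h hh U hgU (h ⁻¹ᵁ U) le_rfl hgV
      rw [← Scheme.Hom.app_eq_appLE] at h1
      exact congrArg CommRingCat.Hom.hom h1)
  have hfin : Module.Finite Γ(W, U) Γ(Z, h ⁻¹ᵁ U) := IsFinite.finite_app (f := h) U hU
  have hinj : Function.Injective (algebraMap Γ(W, U) Γ(Z, h ⁻¹ᵁ U)) := by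
    have h1 : Function.Injective (algebraMap Γ(W, U) Z.functionField) := by
      rw [IsScalarTower.algebraMap_eq Γ(W, U) W.functionField Z.functionField]
      exact (algebraMap W.functionField Z.functionField).injective.comp
        (IsFractionRing.injective Γ(W, U) W.functionField)
    rw [IsScalarTower.algebraMap_eq Γ(W, U) Γ(Z, h ⁻¹ᵁ U) Z.functionField, RingHom.coe_comp] at h1
    exact Function.Injective.of_comp h1
  have : FaithfulSMul Γ(W, U) Γ(Z, h ⁻¹ᵁ U) := (faithfulSMul_iff_algebraMap_injective _ _).2 hinj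
  exact Module.Finite.of_isLocalization Γ(W, U) Γ(Z, h ⁻¹ᵁ U) (nonZeroDivisors Γ(W, U))

/-- The points of a finite scheme with values in a Galois extension are finite in number. -/
theorem finite_lpt (L : Type u) [Field L] [Algebra W.functionField L] [CharZero W.functionField] :
    Finite (LPt h L) := by
  by_cases hh : h (genericPoint Z) = genericPoint W
  · let _ : Algebra W.functionField Z.functionField := algF h hh
    have := finite_ff h hh
    exact Finite.of_equiv _ (lptEquiv h hh)
  · have : IsEmpty (LPt h L) := by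
      refine ⟨fun lam => hh ?_⟩
      rw [← lam.2.2]
      have h1 : h (lam.1 (closedPoint L)) = (lam.1 ≫ h) (closedPoint L) := rfl
      rw [h1, lam.2.1]
      exact pt_apply W _
    infer_instance

variable {P : Scheme.{u}} (g : P ⟶ W) [IsProper g]

/-- Finitely many points finite over the generic point of `W` become rational over a finite
Galois extension. -/
theorem exists_galois_ppt [CharZero W.functionField] {J : Type*} [Finite J] (ξ : J → P)
    (hξ : ∀ j, g (ξ j) = genericPoint W)
    (hfin : ∀ j, ∀ w : W, (closure {ξ j} ∩ g ⁻¹' {w}).Finite) :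
    ∃ (L : Type u) (_ : Field L) (_ : Algebra W.functionField L),
      FiniteDimensional W.functionField L ∧ IsGalois W.functionField L ∧
        ∀ j, Nonempty (PPt g L (ξ j)) := by
  choose Z i hi hZ hη hr using fun j =>
    Groth.Agent.CycA.ClosurePt.exists_closure_subscheme (ξ j)
  have hf : ∀ j, IsFinite (i j ≫ g) := fun j => isFinite_comp (i j) (hr j) (hfin j)
  have hh : ∀ j, (i j ≫ g) (genericPoint (Z j)) = genericPoint W := fun j => by
    have : (i j ≫ g) (genericPoint (Z j)) = g (i j (genericPoint (Z j))) := rfl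
    rw [this, hη, hξ]
  let _ : ∀ j, Algebra W.functionField (Z j).functionField := fun j => algF (i j ≫ g) (hh j)
  have hfd : ∀ j, FiniteDimensional W.functionField (Z j).functionField := fun j =>
    finite_ff (i j ≫ g) (hh j)
  obtain ⟨L, _, _, h1, h2, h3⟩ := exists_galois W.functionField fun j => (Z j).functionField
  refine ⟨L, inferInstance, inferInstance, h1, h2, fun j => ?_⟩
  have h4 := ptEquiv (g := g) (L := L) (i j) (lptEquiv (i j ≫ g) (hh j) (h3 j).some)
  rw [hη] at h4
  exact ⟨h4⟩

theorem finite_ppt (L : Type u) [Field L] [Algebra W.functionField L] [CharZero W.functionField]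
    {ξ : P} (hfin : ∀ w : W, (closure {ξ} ∩ g ⁻¹' {w}).Finite) : Finite (PPt g L ξ) := by
  obtain ⟨Z, i, _, _, hη, hi⟩ := Groth.Agent.CycA.ClosurePt.exists_closure_subscheme ξ
  subst hη
  have := isFinite_comp i hi hfin
  have := finite_lpt (i ≫ g) L
  exact Finite.of_equiv _ (ptEquiv i)

/-- The Galois group acts on points. -/
noncomputable def gal {L : Type u} [Field L] [Algebra W.functionField L]
    (σ : L ≃ₐ[W.functionField] L) {ξ : P} (lam : PPt g L ξ) : PPt g L ξ :=
  ⟨sp W σ ≫ lam.1, by rw [Category.assoc, lam.2.1, sp_pt], by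
    have h1 : (sp W σ ≫ lam.1) (closedPoint L) = lam.1 (sp W σ (closedPoint L)) := rfl
    have : Subsingleton (Spec (CommRingCat.of L)) :=
      inferInstanceAs (Subsingleton (PrimeSpectrum L))
    have h2 : sp W σ (closedPoint L) = closedPoint L := Subsingleton.elim _ _
    rw [h1, h2, lam.2.2]⟩

omit [IsProper g] in
/-- The Galois group acts transitively on the points over a given point. -/
theorem exists_gal_eq {L : Type u} [Field L] [Algebra W.functionField L]
    [FiniteDimensional W.functionField L] [IsGalois W.functionField L]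
    {ξ : P} (lam lam' : PPt g L ξ) : ∃ σ : L ≃ₐ[W.functionField] L, gal g σ lam = lam' := by
  obtain ⟨Z, i, _, _, hη, hi⟩ := Groth.Agent.CycA.ClosurePt.exists_closure_subscheme ξ
  subst hη
  have hh : (i ≫ g) (genericPoint Z) = genericPoint W := by
    have h1 : (i ≫ g) (genericPoint Z) = g (i (genericPoint Z)) := rfl
    rw [h1, ← lam.2.2]
    have h2 : g (lam.1 (closedPoint L)) = (lam.1 ≫ g) (closedPoint L) := rfl
    rw [h2, lam.2.1]
    exact pt_apply W _
  let _ : Algebra W.functionField Z.functionField := algF (i ≫ g) hh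
  let τ := (lptEquiv (i ≫ g) hh).symm ((ptEquiv i).symm lam)
  let τ' := (lptEquiv (i ≫ g) hh).symm ((ptEquiv i).symm lam')
  let _ : Algebra Z.functionField L := τ.toRingHom.toAlgebra
  have : IsScalarTower W.functionField Z.functionField L :=
    IsScalarTower.of_algebraMap_eq fun x => (τ.commutes x).symm
  obtain ⟨σ, hσ⟩ : ∃ σ : L ≃ₐ[W.functionField] L, ∀ x, σ (τ x) = τ' x := by
    let s : L →ₐ[W.functionField] L := AlgHom.liftNormal τ' L
    have hs : Function.Bijective s := Algebra.IsAlgebraic.algHom_bijective s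
    refine ⟨AlgEquiv.ofBijective s hs, fun x => ?_⟩
    exact AlgHom.liftNormal_commutes τ' L x
  refine ⟨σ, ?_⟩
  have h3 : lptEquiv (i ≫ g) hh τ = (ptEquiv i).symm lam := Equiv.apply_symm_apply _ _
  have h3' : lptEquiv (i ≫ g) hh τ' = (ptEquiv i).symm lam' := Equiv.apply_symm_apply _ _
  have h4 : lam.1 = (lptEquiv (i ≫ g) hh τ).1 ≫ i := by
    rw [h3, ← ptEquiv_val, Equiv.apply_symm_apply]
  have h4' : lam'.1 = (lptEquiv (i ≫ g) hh τ').1 ≫ i := by
    rw [h3', ← ptEquiv_val, Equiv.apply_symm_apply]
  apply Subtype.ext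
  change sp W σ ≫ lam.1 = lam'.1
  rw [h4, h4', ← Category.assoc]
  congr 1
  change sp W σ ≫ Spec.map (CommRingCat.ofHom (τ : Z.functionField →+* L)) ≫
    Z.fromSpecStalk (genericPoint Z) =
    Spec.map (CommRingCat.ofHom (τ' : Z.functionField →+* L)) ≫
    Z.fromSpecStalk (genericPoint Z)
  unfold sp
  rw [← Category.assoc, ← Spec.map_comp, ← CommRingCat.ofHom_comp]
  congr 3
  ext x
  exact hσ x

omit [IsProper g] in
theorem isExt_gal {L : Type u} [Field L] [Algebra W.functionField L]
    (σ : L ≃ₐ[W.functionField] L) {lam : Spec (CommRingCat.of L) ⟶ P} {φ : N W L ⟶ P}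
    (h : IsExt g L φ lam) : IsExt g L (r W σ ≫ φ) (sp W σ ≫ lam) where
  left := by rw [← Category.assoc, toN_r, Category.assoc, h.left]
  right := by rw [Category.assoc, h.right, r_ν]

end K952.GalExist
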