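import Groth.Agent.Pi1.H385.NormOpen
import Groth.Agent.Sga1.QuotBasic
import Groth.Agent.Sga1.Transit
import Groth.Agent.Ega3B.NormalBirational
import Groth.Agent.CurvesA.NormFinite
import Mathlib.FieldTheory.Galois.Basic

/-!
# The normalization of a normal scheme in a finite Galois extension of its function field is a
quotient map by the Galois group
-/

set_option autoImplicit false
universe u

open CategoryTheory CategoryTheory.Limits AlgebraicGeometry

namespace K952.GalQuot

open Groth.Agent.Sga1.QuotBasic Groth.Agent.Pi1.H385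

variable (W : Scheme.{u}) [IsIntegral W] (L : Type u) [Field L] [Algebra W.functionField L]

/-- The morphism from the spectrum of an extension of the function field. -/
noncomputable def pt : Spec (CommRingCat.of L) ⟶ W :=
  Spec.map (CommRingCat.ofHom (algebraMap W.functionField L)) ≫ W.fromSpecStalk (genericPoint W)

instance : QuasiCompact (pt W L) := quasiCompact_of_noetherianSpace_source _

instance : QuasiSeparated (pt W L) := by
  have h : QuasiSeparated (pt W L ≫ terminal.from W) := by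
    rw [terminal.comp_from]
    infer_instance
  exact QuasiSeparated.of_comp (pt W L) (terminal.from W)

variable {L} in
/-- The endomorphism of `Spec L` attached to an automorphism. -/
noncomputable def sp (σ : L ≃ₐ[W.functionField] L) : Spec (CommRingCat.of L) ⟶ Spec (CommRingCat.of L) :=
  Spec.map (CommRingCat.ofHom (σ : L →+* L))

variable {L}

lemma sp_pt (σ : L ≃ₐ[W.functionField] L) : sp W σ ≫ pt W L = pt W L := by
  unfold sp pt
  rw [← Category.assoc, ← Spec.map_comp, ← CommRingCat.ofHom_comp]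
  congr 3
  ext x
  exact σ.commutes x

lemma sp_one : sp W (1 : L ≃ₐ[W.functionField] L) = 𝟙 _ := by
  unfold sp
  rw [← Spec.map_id]
  rfl

lemma sp_mul (σ τ : L ≃ₐ[W.functionField] L) : sp W (σ * τ) = sp W σ ≫ sp W τ := by
  unfold sp
  rw [← Spec.map_comp]
  rfl

variable (L)

/-- The normalization of `W` in `L`. -/
noncomputable abbrev N : Scheme.{u} := (pt W L).normalization

/-- The normalization morphism. -/
noncomputable abbrev ν : N W L ⟶ W := (pt W L).fromNormalization

variable {L}

/-- The action on the normalization. -/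
noncomputable def r (σ : L ≃ₐ[W.functionField] L) : N W L ⟶ N W L :=
  NormOpen.act (pt W L) (sp W σ) (sp_pt W σ)

lemma r_one : r W (1 : L ≃ₐ[W.functionField] L) = 𝟙 _ := by
  refine (NormOpen.act_congr (pt W L) (sp_one W) _ (Category.id_comp _)).trans ?_
  exact NormOpen.act_id (pt W L) _

lemma r_mul (σ τ : L ≃ₐ[W.functionField] L) : r W (σ * τ) = r W σ ≫ r W τ := by
  refine (NormOpen.act_congr (pt W L) (sp_mul W σ τ) _
    (by rw [Category.assoc, sp_pt, sp_pt])).trans ?_
  exact NormOpen.act_comp (pt W L) _ _ _ _ _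

lemma r_ν (σ : L ≃ₐ[W.functionField] L) : r W σ ≫ ν W L = ν W L :=
  NormOpen.act_fromNormalization _ _ _

lemma toN_r (σ : L ≃ₐ[W.functionField] L) :
    (pt W L).toNormalization ≫ r W σ = sp W σ ≫ (pt W L).toNormalization :=
  NormOpen.toNormalization_act _ _ _

/-- The group homomorphism of the action on the normalization. -/
noncomputable def ρ : (L ≃ₐ[W.functionField] L) →* Aut (N W L) where
  toFun g := ⟨r W g⁻¹, r W g, by rw [← r_mul, inv_mul_cancel, r_one],
    by rw [← r_mul, mul_inv_cancel, r_one]⟩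
  map_one' := by
    ext1
    change r W (1 : L ≃ₐ[W.functionField] L)⁻¹ = 𝟙 _
    rw [inv_one, r_one]
  map_mul' g h := by
    ext1
    change r W (g * h)⁻¹ = r W h⁻¹ ≫ r W g⁻¹
    rw [mul_inv_rev, r_mul]

lemma ρ_hom (g : L ≃ₐ[W.functionField] L) : (ρ W g).hom = r W g⁻¹ := rfl

lemma inv (g : L ≃ₐ[W.functionField] L) : (ρ W g).hom ≫ ν W L = ν W L := r_ν W _

lemma pt_apply (x : Spec (CommRingCat.of L)) : pt W L x = genericPoint W := by
  unfold pt
  rw [Scheme.Hom.comp_apply]
  have h1 : Spec.map (CommRingCat.ofHom (algebraMap W.functionField L)) x =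
      IsLocalRing.closedPoint W.functionField := by
    exact Subsingleton.elim _ _
  rw [h1]
  exact Scheme.fromSpecStalk_closedPoint

lemma top_le (V : W.Opens) (hV : genericPoint W ∈ V) :
    (⊤ : (Spec (CommRingCat.of L)).Opens) ≤ (pt W L).toNormalization ⁻¹ᵁ ν W L ⁻¹ᵁ V := by
  rw [← Scheme.Hom.comp_preimage, Scheme.Hom.toNormalization_fromNormalization]
  intro x _
  change pt W L x ∈ V
  rw [pt_apply]
  exact hV

/-- Evaluation of sections of the normalization in `L`. -/
noncomputable def ev (V : W.Opens) (hV : genericPoint W ∈ V) :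
    Γ(N W L, ν W L ⁻¹ᵁ V) ⟶ CommRingCat.of L :=
  (pt W L).toNormalization.appLE (ν W L ⁻¹ᵁ V) ⊤ (top_le W V hV) ≫
    (Scheme.ΓSpecIso (CommRingCat.of L)).hom

lemma comp_appLE {X Y Z : Scheme.{u}} (f : X ⟶ Y) (g : Y ⟶ Z) (h : X ⟶ Z) (hh : f ≫ g = h)
    (U : Z.Opens) (V : Y.Opens) (V' : X.Opens) (e₁ : V ≤ g ⁻¹ᵁ U) (e₂ : V' ≤ f ⁻¹ᵁ V)
    (e₃ : V' ≤ h ⁻¹ᵁ U) : h.appLE U V' e₃ = g.appLE U V e₁ ≫ f.appLE V V' e₂ := by
  subst hh
  rw [Scheme.Hom.appLE_comp_appLE]

lemma mem_fromSpecStalk (V : W.Opens) (hV : genericPoint W ∈ V) :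
    (⊤ : (Spec (W.presheaf.stalk (genericPoint W))).Opens) ≤
      W.fromSpecStalk (genericPoint W) ⁻¹ᵁ V := by
  intro x _
  change W.fromSpecStalk (genericPoint W) x ∈ V
  have : Subsingleton (Spec (W.presheaf.stalk (genericPoint W))) :=
    inferInstanceAs (Subsingleton (PrimeSpectrum W.functionField))
  rw [show x = IsLocalRing.closedPoint (W.presheaf.stalk (genericPoint W)) from
    Subsingleton.elim _ _]
  rw [Scheme.fromSpecStalk_closedPoint]
  exact hV

lemma fromSpecStalk_appLE (V : W.Opens) (hV : genericPoint W ∈ V) :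
    (W.fromSpecStalk (genericPoint W)).appLE V ⊤ (mem_fromSpecStalk W V hV) ≫
      (Scheme.ΓSpecIso (W.presheaf.stalk (genericPoint W))).hom =
      W.presheaf.germ V (genericPoint W) hV := by
  rw [Scheme.Hom.appLE, Scheme.fromSpecStalk_app hV]
  simp only [Category.assoc, ← Functor.map_comp_assoc]
  rw [← Category.comp_id (W.presheaf.germ V (genericPoint W) hV)]
  congr 1
  have h : ∀ (f : (Opposite.op (⊤ : (Spec (W.presheaf.stalk (genericPoint W))).Opens)) ⟶
      Opposite.op ⊤), (Spec (W.presheaf.stalk (genericPoint W))).presheaf.map f = 𝟙 _ := by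
    intro f
    rw [show f = 𝟙 _ from Subsingleton.elim _ _, CategoryTheory.Functor.map_id]
  rw [h, Category.id_comp, Iso.inv_hom_id]

lemma app_ev (V : W.Opens) (hV : genericPoint W ∈ V) :
    (ν W L).app V ≫ ev W V hV =
      W.presheaf.germ V (genericPoint W) hV ≫ CommRingCat.ofHom (algebraMap W.functionField L) := by
  have h1 : (ν W L).app V ≫ (pt W L).toNormalization.appLE (ν W L ⁻¹ᵁ V) ⊤ (top_le W V hV) =
      (pt W L).appLE V ⊤ (by
        have := top_le (L := L) W V hV
        rwa [← Scheme.Hom.comp_preimage, Scheme.Hom.toNormalization_fromNormalization] at this) := by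
    rw [Scheme.Hom.app_eq_appLE, Scheme.Hom.appLE_comp_appLE]
    exact appLE_congr_hom (Scheme.Hom.toNormalization_fromNormalization _) _ _ _
  unfold ev
  rw [← Category.assoc, h1]
  have h2 : ∀ (e : (⊤ : (Spec (CommRingCat.of L)).Opens) ≤ pt W L ⁻¹ᵁ V),
      (pt W L).appLE V ⊤ e = (W.fromSpecStalk (genericPoint W)).appLE V ⊤
        (mem_fromSpecStalk W V hV) ≫
        (Spec.map (CommRingCat.ofHom (algebraMap W.functionField L))).appLE ⊤ ⊤ le_top := by
    intro e
    exact comp_appLE _ _ _ rfl _ _ _ _ _ _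
  rw [h2, Category.assoc]
  have h3 : (Spec.map (CommRingCat.ofHom (algebraMap W.functionField L))).appLE ⊤ ⊤ le_top ≫
      (Scheme.ΓSpecIso (CommRingCat.of L)).hom =
      (Scheme.ΓSpecIso (CommRingCat.of W.functionField)).hom ≫
        CommRingCat.ofHom (algebraMap W.functionField L) := by
    have := Scheme.ΓSpecIso_naturality (CommRingCat.ofHom (algebraMap W.functionField L))
    rw [← this]
    congr 1
  rw [h3, ← Category.assoc]
  congr 1
  exact fromSpecStalk_appLE W V hV

lemma r_ev (σ : L ≃ₐ[W.functionField] L) (V : W.Opens) (hV : genericPoint W ∈ V)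
    (e : ν W L ⁻¹ᵁ V ≤ r W σ ⁻¹ᵁ ν W L ⁻¹ᵁ V) :
    (r W σ).appLE (ν W L ⁻¹ᵁ V) (ν W L ⁻¹ᵁ V) e ≫ ev W V hV =
      ev W V hV ≫ CommRingCat.ofHom (σ : L →+* L) := by
  have h3 : (Scheme.ΓSpecIso (CommRingCat.of L)).hom ≫ CommRingCat.ofHom (σ : L →+* L) =
      (sp W σ).appLE ⊤ ⊤ le_top ≫ (Scheme.ΓSpecIso (CommRingCat.of L)).hom := by
    have := Scheme.ΓSpecIso_naturality (CommRingCat.ofHom (σ : L →+* L))
    rw [← this]
    congr 1
  have h4 : (r W σ).appLE (ν W L ⁻¹ᵁ V) (ν W L ⁻¹ᵁ V) e ≫
      (pt W L).toNormalization.appLE (ν W L ⁻¹ᵁ V) ⊤ (top_le W V hV) =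
      (pt W L).toNormalization.appLE (ν W L ⁻¹ᵁ V) ⊤ (top_le W V hV) ≫
        (sp W σ).appLE ⊤ ⊤ le_top := by
    have h5 : (⊤ : (Spec (CommRingCat.of L)).Opens) ≤
        (sp W σ ≫ (pt W L).toNormalization) ⁻¹ᵁ ν W L ⁻¹ᵁ V := by
      rw [← toN_r, Scheme.Hom.comp_preimage]
      exact (top_le W V hV).trans ((pt W L).toNormalization.preimage_mono e)
    refine (comp_appLE _ _ _ (toN_r W σ) _ _ _ e (top_le W V hV) h5).symm.trans ?_
    exact comp_appLE _ _ _ rfl _ _ _ _ _ _
  unfold ev
  rw [← Category.assoc, h4, Category.assoc, Category.assoc, h3]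

lemma ev_injective (V : W.Opens) (hV : genericPoint W ∈ V) (hVa : IsAffineOpen V) :
    Function.Injective (ev (L := L) W V hV) := by
  have h1 := Groth.Agent.CurvesA.NormFinite.isIntegrallyClosedIn_toNormalization (f := pt W L) V hVa
  have h2 := (@isIntegrallyClosedIn_iff _ _ _ _
    ((pt W L).toNormalization.app (ν W L ⁻¹ᵁ V)).hom.toAlgebra).1 h1
  have h3 : Function.Injective ((pt W L).toNormalization.app (ν W L ⁻¹ᵁ V)) := h2.1
  have h4 : (⊤ : (Spec (CommRingCat.of L)).Opens) = (pt W L).toNormalization ⁻¹ᵁ ν W L ⁻¹ᵁ V :=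
    le_antisymm (top_le W V hV) le_top
  have h5 : ∀ (V' : (Spec (CommRingCat.of L)).Opens)
      (_ : V' = (pt W L).toNormalization ⁻¹ᵁ ν W L ⁻¹ᵁ V)
      (e' : V' ≤ (pt W L).toNormalization ⁻¹ᵁ ν W L ⁻¹ᵁ V),
      Function.Injective ((pt W L).toNormalization.appLE (ν W L ⁻¹ᵁ V) V' e') := by
    rintro V' rfl e'
    rw [Scheme.Hom.appLE_eq_app]
    exact h3
  unfold ev
  exact (ConcreteCategory.bijective_of_isIso (Scheme.ΓSpecIso (CommRingCat.of L)).hom).1.comp
    (h5 _ h4 _)

/-- The normalization of a normal scheme in a finite Galois extension of the function field is a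
quotient map by the Galois group. -/
theorem isQuot_ν [FiniteDimensional W.functionField L] [IsGalois W.functionField L]
    (hW : ∀ x : W, IsIntegrallyClosed (W.presheaf.stalk x)) :
    SGA1.IsQuot (ρ W (L := L)) (ν W L) := by
  refine isQuot_of_affine_cover (inv W) fun y => ?_
  obtain ⟨_, ⟨V, hV, rfl⟩, hyV, -⟩ := W.isBasis_affineOpens.exists_subset_of_mem_open
    (Set.mem_univ y) isOpen_univ
  refine ⟨V, hyV, hV, ?_⟩
  have hVne : Nonempty V := ⟨⟨y, hyV⟩⟩
  have hgV : genericPoint W ∈ V :=
    ((genericPoint_spec W).mem_open_set_iff V.isOpen).mpr (by simpa using hVne)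
  have hinj := ev_injective (L := L) W V hgV hV
  have hgerm : Function.Injective (W.presheaf.germ V (genericPoint W) hgV) :=
    germ_injective_of_isIntegral W _ hgV
  have hcomp := app_ev (L := L) W V hgV
  refine ⟨?_, fun b hb => ?_⟩
  · intro a a' haa
    apply hgerm
    apply (algebraMap W.functionField L).injective
    have h1 := congrArg (ev W V hgV) haa
    have h3 := congr($hcomp a)
    have h4 := congr($hcomp a')
    exact h3.symm.trans (h1.trans h4)
  · let t : L := ev W V hgV b
    have ht : ∀ σ : L ≃ₐ[W.functionField] L, σ t = t := by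
      intro σ
      have h1 := hb σ⁻¹
      have h2 : (r W σ).appLE (ν W L ⁻¹ᵁ V) (ν W L ⁻¹ᵁ V)
          (by rw [← Scheme.Hom.comp_preimage, r_ν]) b = b := by
        have h3 : (ρ W σ⁻¹).hom = r W σ := by rw [ρ_hom, inv_inv]
        refine Eq.trans ?_ h1
        exact congr($(appLE_congr_hom h3.symm _ _ _) b)
      have h4 := congr($(r_ev W σ V hgV (by rw [← Scheme.Hom.comp_preimage, r_ν])) b)
      have h5 := congrArg (ev W V hgV) h2
      exact h4.symm.trans h5
    obtain ⟨c, hc⟩ : t ∈ Set.range (algebraMap W.functionField L) :=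
      (IsGalois.mem_range_algebraMap_iff_fixed t).2 ht
    have hint : ((ν W L).app V).hom.IsIntegralElem b := (ν W L).isIntegral_app V hV b
    let _ := (W.presheaf.germ V (genericPoint W) hgV).hom.toAlgebra
    have hfr : IsFractionRing Γ(W, V) W.functionField := functionField_isFractionRing_of_isAffineOpen W V hV
    have hic := Groth.Agent.Ega3B.NormalBirational.isIntegrallyClosed_section hW V hV
    have hcint : IsIntegral Γ(W, V) c := by
      obtain ⟨P, hP, hPb⟩ := hint
      refine ⟨P, hP, (algebraMap W.functionField L).injective ?_⟩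
      rw [map_zero, Polynomial.hom_eval₂]
      have h1 := congrArg (ev W V hgV).hom hPb
      rw [map_zero, Polynomial.hom_eval₂] at h1
      rw [← h1, hc]
      congr 1
      exact congrArg CommRingCat.Hom.hom hcomp.symm
    obtain ⟨a, ha⟩ := (IsIntegrallyClosed.isIntegral_iff (R := Γ(W, V))).1 hcint
    refine ⟨a, hinj ?_⟩
    refine (congr($hcomp a)).trans ?_
    change algebraMap W.functionField L (algebraMap Γ(W, V) W.functionField a) = t
    rw [ha, hc]

end K952.GalQuot
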