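import Groth.Agent.RatCurv.K888.P1Map
import Groth.Agent.ZCorr.K952.FibCycle
import Groth.Agent.ZCorr.K952.ExcPt
import Groth.Agent.S2889
import Groth.Agent.Divis.RegStalk
import Groth.Agent.VarietyA.RegSmoothSch

/-!
# Rational points joined by chains of projective lines
-/

set_option autoImplicit false
set_option linter.dupNamespace false

universe u

open AlgebraicGeometry CategoryTheory CategoryTheory.Limits TopologicalSpace

namespace K952.Link

variable {k : Type u} [Field k]

/-- Two rational points lie on a common image of a projective line. -/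
def Link {T : Scheme.{u}} (r : T ⟶ Spec (CommRingCat.of k)) (x y : Spec (CommRingCat.of k) ⟶ T) :
    Prop :=
  ∃ (f : CohB1.ProjSpace 1 k ⟶ T) (p q : Spec (CommRingCat.of k) ⟶ CohB1.ProjSpace 1 k),
    f ≫ r = CohB1.ProjSpace.toSpec 1 k ∧ p ≫ CohB1.ProjSpace.toSpec 1 k = 𝟙 _ ∧
      q ≫ CohB1.ProjSpace.toSpec 1 k = 𝟙 _ ∧ p ≫ f = x ∧ q ≫ f = y

/-- Two rational points are joined by a chain of projective lines. -/
def Conn {T : Scheme.{u}} (r : T ⟶ Spec (CommRingCat.of k)) (x y : Spec (CommRingCat.of k) ⟶ T) :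
    Prop := Relation.ReflTransGen (Link r) x y

variable {T T' : Scheme.{u}} {r : T ⟶ Spec (CommRingCat.of k)} {r' : T' ⟶ Spec (CommRingCat.of k)}
  {x y z : Spec (CommRingCat.of k) ⟶ T}

theorem Link.symm (h : Link r x y) : Link r y x := by
  obtain ⟨f, p, q, h1, h2, h3, h4, h5⟩ := h
  exact ⟨f, q, p, h1, h3, h2, h5, h4⟩

theorem Link.left (h : Link r x y) : x ≫ r = 𝟙 _ := by
  obtain ⟨f, p, q, h1, h2, h3, h4, h5⟩ := h
  rw [← h4, Category.assoc, h1, h2]

theorem Link.right (h : Link r x y) : y ≫ r = 𝟙 _ := h.symm.left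

theorem Link.comp (h : Link r x y) (φ : T ⟶ T') (hφ : φ ≫ r' = r) : Link r' (x ≫ φ) (y ≫ φ) := by
  obtain ⟨f, p, q, h1, h2, h3, h4, h5⟩ := h
  exact ⟨f ≫ φ, p, q, by rw [Category.assoc, hφ, h1], h2, h3, by rw [← Category.assoc, h4],
    by rw [← Category.assoc, h5]⟩

theorem Conn.refl (r : T ⟶ Spec (CommRingCat.of k)) (x : Spec (CommRingCat.of k) ⟶ T) :
    Conn r x x := Relation.ReflTransGen.refl

theorem Conn.of_link (h : Link r x y) : Conn r x y := Relation.ReflTransGen.single h

theorem Conn.trans (h : Conn r x y) (h' : Conn r y z) : Conn r x z :=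
  Relation.ReflTransGen.trans h h'

theorem Conn.symm (h : Conn r x y) : Conn r y x := by
  induction h with
  | refl => exact Conn.refl _ _
  | tail _ h2 ih => exact (Conn.of_link h2.symm).trans ih

theorem Conn.comp (h : Conn r x y) (φ : T ⟶ T') (hφ : φ ≫ r' = r) :
    Conn r' (x ≫ φ) (y ≫ φ) := by
  induction h with
  | refl => exact Conn.refl _ _
  | tail _ h2 ih => exact ih.trans (Conn.of_link (h2.comp φ hφ))

section Proj

open K888.P1Map K888.PPt

/-- Two points in a chart of projective space are joined by a line. -/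
theorem link_chart {n : ℕ} (a b : Fin (n + 1) → k) (i : Fin (n + 1)) (ha : a i = 1) (hb : b i = 1)
    (hai : IsUnit (a i)) (hbi : IsUnit (b i)) :
    Link (CohB1.ProjSpace.toSpec n k) (pt (k := k) a i hai) (pt (k := k) b i hbi) := by
  let c : Fin (n + 1) → Polynomial k := fun j =>
    Polynomial.C (a j) + Polynomial.X * Polynomial.C (b j - a j)
  have hc : IsUnit (c i) := by
    have h1 : c i = 1 := by simp [c, ha, hb]
    rw [h1]
    exact isUnit_one
  let L : Spec (CommRingCat.of (Polynomial k)) ⟶ CohB1.ProjSpace n k := pt (k := k) c i hc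
  have hL : L ≫ CohB1.ProjSpace.toSpec n k =
      Spec.map (CommRingCat.ofHom (algebraMap k (Polynomial k))) := pt_toSpec c i hc
  obtain ⟨g, hg1, hg2⟩ := exists_ext_P1 (CohB1.ProjSpace.toSpec n k) (jz (k := k)).opensRange (by
    exact ⟨jz (k := k) (⊥ : PrimeSpectrum (Polynomial k)), ⟨_, rfl⟩⟩)
    ((jz (k := k)).isoOpensRange.inv ≫ L) (by
      rw [Category.assoc, hL, ← jz_toSpec, ← Category.assoc, Scheme.Hom.isoOpensRange_inv_comp])
  have hjg : jz (k := k) ≫ g = L := by
    rw [← Scheme.Hom.isoOpensRange_hom_ι (jz (k := k)), Category.assoc, hg2,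
      Iso.hom_inv_id_assoc]
  have key : ∀ (w : k) (d : Fin (n + 1) → k) (hd : IsUnit (d i)) (_ : ∀ j, d j = (c j).eval w),
      (Spec.map (CommRingCat.ofHom ((Polynomial.aeval w : Polynomial k →ₐ[k] k) :
        Polynomial k →+* k)) ≫ jz (k := k)) ≫ g = pt (k := k) d i hd := by
    intro w d hd hdc
    rw [Category.assoc, hjg]
    refine map_pt c i hc (Polynomial.aeval w : Polynomial k →ₐ[k] k) d (fun j => ?_) hd
    rw [hdc, ← Polynomial.coe_aeval_eq_eval]
  have hs : ∀ w : k, (Spec.map (CommRingCat.ofHom ((Polynomial.aeval w : Polynomial k →ₐ[k] k) :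
        Polynomial k →+* k)) ≫ jz (k := k)) ≫ CohB1.ProjSpace.toSpec 1 k = 𝟙 _ := by
    intro w
    rw [Category.assoc, jz_toSpec, ← Spec.map_comp, ← CommRingCat.ofHom_comp]
    have h1 : ((Polynomial.aeval w : Polynomial k →ₐ[k] k) : Polynomial k →+* k).comp
        (algebraMap k (Polynomial k)) = RingHom.id k := by
      ext a
      exact (Polynomial.aeval w : Polynomial k →ₐ[k] k).commutes a
    rw [h1, CommRingCat.ofHom_id, Spec.map_id]
  refine ⟨g, _, _, hg1, hs 0, hs 1, key 0 a hai (fun j => ?_), key 1 b hbi fun j => ?_⟩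
  · simp [c]
  · simp [c]

/-- Any two rational points of a projective space are joined by a chain of lines. -/
theorem conn_proj {n : ℕ} (x y : Spec (CommRingCat.of k) ⟶ CohB1.ProjSpace n k)
    (hx : x ≫ CohB1.ProjSpace.toSpec n k = 𝟙 _) (hy : y ≫ CohB1.ProjSpace.toSpec n k = 𝟙 _) :
    Conn (CohB1.ProjSpace.toSpec n k) x y := by
  have key : ∀ x : Spec (CommRingCat.of k) ⟶ CohB1.ProjSpace n k,
      x ≫ CohB1.ProjSpace.toSpec n k = 𝟙 _ →
      Conn (CohB1.ProjSpace.toSpec n k) x (pt (k := k) (fun _ => (1 : k)) 0 isUnit_one) := by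
    intro x hx
    obtain ⟨i, a, hi, rfl⟩ := exists_eq_pt (k := k) (L := k) x (by
      rw [hx, Algebra.algebraMap_self, CommRingCat.ofHom_id, Spec.map_id])
    have h1 : IsUnit ((a i)⁻¹) := hi.inv
    have h2 : IsUnit ((fun j => (a i)⁻¹ * a j) i) := h1.mul hi
    have h3 : pt (k := k) (fun j => (a i)⁻¹ * a j) i h2 = pt a i hi :=
      pt_smul a i hi (a i)⁻¹ h1 _ (fun j => rfl) h2
    rw [← h3, pt_eq_pt (fun _ => (1 : k)) 0 i isUnit_one isUnit_one]
    exact Conn.of_link (link_chart _ _ i (inv_mul_cancel₀ hi.ne_zero) rfl _ _)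
  exact (key x hx).trans (key y hy).symm

end Proj

section Exc

open Groth.Agent Groth.Agent.Sga67

/-- The exceptional divisor of the blow-up of a regular rational point. -/
theorem exists_isPullback {X X' : Scheme.{u}} [IsLocallyNoetherian X]
    (t : Spec (CommRingCat.of k) ⟶ X) [IsClosedImmersion t]
    (hregt : IsRegularLocalRing (X.presheaf.stalk (t (IsLocalRing.closedPoint k))))
    (hopen : ¬ IsOpen (Set.range t))
    (π : X' ⟶ X) (hπ : BlowUp.IsBlowUp π t.ker) :
    ∃ (r : ℕ) (j : CohB1.ProjSpace r k ⟶ X'),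
      IsPullback j (CohB1.ProjSpace.toSpec r k) π t := by
  let y : (Spec (CommRingCat.of k) : Scheme.{u}) := IsLocalRing.closedPoint k
  have hy : ∀ z : (Spec (CommRingCat.of k) : Scheme.{u}), z = y := fun z =>
    Subsingleton.elim (α := PrimeSpectrum k) z y
  have hreg : Mor2.IsRegularClosedImmersion t := by
    rw [Groth.Agent.Divis.RegImm.isRegularClosedImmersion_iff]
    refine ⟨inferInstance, fun z ↦ ?_⟩
    rw [hy z]
    have hky : IsRegularLocalRing ((Spec (CommRingCat.of k) : Scheme.{u}).presheaf.stalk y) :=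
      Groth.Agent.VarietyA.RegSmoothSch.isRegularLocalRing_stalk_of_mem_smoothLocus
        (k := k) (𝟙 (Spec (CommRingCat.of k))) y
        (by rw [Scheme.Hom.smoothLocus_eq_top]; trivial)
    exact (Groth.Agent.Divis.RegStalk.exists_isRegularClosedImmersion_iff t y).mp
      ((Groth.Agent.S2889.result t y).mpr hregt)
  have hsq : IsPullback (pullback.fst π t) (pullback.snd π t) π t := IsPullback.of_hasPullback π t
  have B := Krr.H496.ExcBundle.isProjBundle_exc hreg hπ hsq
  obtain ⟨c, hc, -⟩ := KosImm.exists_chart hreg y ⊤ trivial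
  have hV : c.V = ⊤ := by
    rw [eq_top_iff]
    intro z _
    rw [hy z]
    exact hc
  have hbasis := KosConormal.isLocBasis_fN c
  have key : ∀ (V : (Spec (CommRingCat.of k) : Scheme.{u}).Opens) (hV : V = ⊤)
      (b : Fin c.l.length → Sga67.Sec.Sec (Omega.conormal t) V), LocBasis.IsLocBasis b →
      Nonempty (Omega.conormal t ≅ FlatMod.freeMod (Spec (CommRingCat.of k)) c.l.length) := by
    rintro V rfl b hb
    exact LocBasis.nonempty_iso_free hb
  obtain ⟨e⟩ := key _ hV _ hbasis
  obtain ⟨r, hr⟩ : ∃ r, c.l.length = r + 1 := by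
    refine Nat.exists_eq_succ_of_ne_zero fun h0 => hopen ?_
    have h1 : c.l = [] := List.eq_nil_of_length_eq_zero h0
    have h2 : t.ker.ideal ⟨c.U, c.hU⟩ = ⊥ := by
      rw [c.hker, h1, Ideal.ofList_nil]
    have h3 : Set.range t = c.U := by
      apply subset_antisymm
      · rintro _ ⟨z, rfl⟩
        rw [hy z]
        exact hc
      · intro x hx
        have h4 : x ∈ t.ker.support := by
          rw [Scheme.IdealSheafData.mem_support_iff_of_mem (U := ⟨c.U, c.hU⟩) hx, h2]
          simp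
        rwa [← SetLike.mem_coe, Scheme.Hom.support_ker, t.isClosedEmbedding.isClosed_range.closure_eq] at h4
    rw [h3]
    exact c.U.isOpen
  rw [hr] at e
  obtain ⟨j, hj, -⟩ := Krr.H484.PBCharts.exists_chart B (𝟙 (Spec (CommRingCat.of k)))
    ((Scheme.Modules.pullbackId _).app _ ≪≫ e)
  refine ⟨r, j ≫ pullback.fst π t, ?_⟩
  have h5 := hj.paste_horiz hsq
  rwa [Category.id_comp] at h5

/-- Rational points of the blow-up over the centre are joined by chains of lines. -/
theorem conn_exc {X X' : Scheme.{u}} [IsLocallyNoetherian X] (p : X ⟶ Spec (CommRingCat.of k))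
    (t : Spec (CommRingCat.of k) ⟶ X) (htp : t ≫ p = 𝟙 _) [IsClosedImmersion t]
    (hregt : IsRegularLocalRing (X.presheaf.stalk (t (IsLocalRing.closedPoint k))))
    (hopen : ¬ IsOpen (Set.range t))
    (π : X' ⟶ X) (hπ : BlowUp.IsBlowUp π t.ker)
    (x x' : Spec (CommRingCat.of k) ⟶ X') (hx : x ≫ π = t) (hx' : x' ≫ π = t) :
    Conn (π ≫ p) x x' := by
  obtain ⟨r, j, hj⟩ := exists_isPullback t hregt hopen π hπ
  have h1 : x ≫ π = 𝟙 _ ≫ t := by rw [hx, Category.id_comp]
  have h2 : x' ≫ π = 𝟙 _ ≫ t := by rw [hx', Category.id_comp]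
  rw [← hj.lift_fst x (𝟙 _) h1, ← hj.lift_fst x' (𝟙 _) h2]
  refine (conn_proj _ _ (hj.lift_snd x (𝟙 _) h1) (hj.lift_snd x' (𝟙 _) h2)).comp j ?_
  rw [← Category.assoc, hj.w, Category.assoc, htp, Category.comp_id]

end Exc

end K952.Link
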