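import Groth.Agent.ZCorr.K952.FamRat
import Groth.Agent.ZCorr.K952.SymFam
import Groth.Agent.ZCorr.K952.PnPts
import Groth.Agent.Lefpen.H723.P1Flat
import Groth.Agent.CohqA.ProjDim

/-!
# Effective families of zero-cycles parametrised by the projective line

* `flat_P1`: a component dominating the line is flat over it.
* `fibreFun_diff`: two members of a finite flat family over rationally equivalent points are
  rationally equivalent.
* `deg_const`: the degree of the members is constant.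
* `mem_const`: the members of the constant family.
-/

set_option autoImplicit false
universe u

open CategoryTheory CategoryTheory.Limits AlgebraicGeometry IsLocalRing AlgEqCyc

namespace K952.P1Fam

open Basic Pts ExtPt FamRat GalQuot EmbCount GalExist FamCount

section flat

variable {k : Type u} [Field k] {P : Scheme.{u}} (g : P ⟶ CohB1.ProjSpace 1 k)

theorem flat_of_flat' {P Z W : Scheme.{u}} [IsIntegral Z] (i : Z ⟶ P) [IsClosedImmersion i]
    (g : P ⟶ W) (z : Z) (h : ((i ≫ g).stalkMap z).hom.Flat) :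
    ((Ideal.Quotient.mk (RingHom.ker (Cyc.specMap (i z) (i (genericPoint Z))
      ((genericPoint_specializes z).map i.continuous)))).comp (g.stalkMap (i z)).hom).Flat := by
  have h1 : (eqv i z).symm.toRingHom.Flat :=
    RingHom.Flat.of_bijective (f := (eqv i z).symm.toRingHom) (eqv i z).symm.bijective
  rw [← eqv_comp] at h
  have h2 := h.comp h1
  have h3 : ((Ideal.Quotient.mk (RingHom.ker (Cyc.specMap (i z) (i (genericPoint Z))
      ((genericPoint_specializes z).map i.continuous)))).comp (g.stalkMap (i z)).hom) =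
      (eqv i z).symm.toRingHom.comp ((eqv i z).toRingHom.comp
        ((Ideal.Quotient.mk (RingHom.ker (Cyc.specMap (i z) (i (genericPoint Z))
      ((genericPoint_specializes z).map i.continuous)))).comp (g.stalkMap (i z)).hom)) :=
    RingHom.ext fun x => ((eqv i z).symm_apply_apply _).symm
  rw [h3]
  exact h2

/-- A component dominating the projective line is flat over it. -/
theorem flat_P1 {ξ : P} (hξ : g ξ = genericPoint (CohB1.ProjSpace 1 k)) (z : P) (h : ξ ⤳ z) :
    ((Ideal.Quotient.mk (RingHom.ker (Cyc.specMap z ξ h))).comp (g.stalkMap z).hom).Flat := by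
  obtain ⟨Z, i, _, _, hη, hi⟩ := Groth.Agent.CycA.ClosurePt.exists_closure_subscheme ξ
  subst hη
  obtain ⟨z', rfl⟩ : z ∈ Set.range i := by
    rw [hi]
    exact h.mem_closure
  have h1 : Flat (i ≫ g) := by
    apply Groth.Agent.Lefpen.H723.P1Flat.flat_of_genericPoint
    intro y hy
    have h2 : (i ≫ g) (genericPoint Z) = genericPoint (CohB1.ProjSpace 1 k) := hξ
    rw [h2] at hy ⊢
    exact (hy.antisymm (genericPoint_specializes y)).eq
  exact flat_of_flat' i g z' (Flat.stalkMap (i ≫ g) z')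

end flat

section fam

variable {k : Type u} [Field k] [IsAlgClosed k] {X W : Scheme.{u}}
  (p : X ⟶ Spec (CommRingCat.of k)) (q : W ⟶ Spec (CommRingCat.of k)) [IsProper p] [IsProper q]

omit [IsAlgClosed k] [IsProper p] [IsProper q] in
theorem fibreFun_eq_finsum_mem (Γ : AlgebraicCycle (pullback p q) ℤ)
    (t : Spec (CommRingCat.of k) ⟶ W) (ht : t ≫ q = 𝟙 _) (x : X) :
    fibreFun p q Γ t ht x = ∑ᶠ ξ : ↥(pullback p q), Γ ξ * mem p q ξ t ht x := by
  classical
  unfold fibreFun
  have h1 : ∀ w : {w : ↥(pullback p q) // Γ w ≠ 0 ∧ w ⤳ slice p q t ht x},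
      Γ w.1 * (fibreMult (pullback.snd p q) (slice p q t ht x) w.1 w.2.2 : ℤ) =
        (fun ξ => Γ ξ * mem p q ξ t ht x) w.1 := by
    intro w
    simp only [mem]
    rw [dif_pos w.2.2]
  rw [finsum_congr h1]
  refine finsum_subtype_of_support (fun ξ => Γ ξ * mem p q ξ t ht x)
    (fun w => Γ w ≠ 0 ∧ w ⤳ slice p q t ht x) ?_
  intro w hw
  refine ⟨fun h0 => hw (by simp only [h0, zero_mul]), ?_⟩
  by_contra hs
  apply hw
  simp only [mem]
  rw [dif_neg hs, mul_zero]

theorem fibreFun_diff (Γ : AlgebraicCycle (pullback p q) ℤ)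
    (hfin : ∀ ξ, Γ ξ ≠ 0 → ∀ w : W, (closure {ξ} ∩ pullback.snd p q ⁻¹' {w}).Finite)
    (hflat : ∀ ξ, Γ ξ ≠ 0 → ∀ (z : ↥(pullback p q)) (h : ξ ⤳ z),
      ((Ideal.Quotient.mk (RingHom.ker (Cyc.specMap z ξ h))).comp
        ((pullback.snd p q).stalkMap z).hom).Flat)
    (t₀ t₁ : Spec (CommRingCat.of k) ⟶ W) (h₀ : t₀ ≫ q = 𝟙 _) (h₁ : t₁ ≫ q = 𝟙 _)
    (hpt : PtEq q (t₀ (closedPoint k)) (t₁ (closedPoint k))) :
    fibreFun p q Γ t₀ h₀ - fibreFun p q Γ t₁ h₁ ∈ RZ p := by
  classical
  have hc : CompactSpace ↥(pullback p q) := by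
    have h1 : CompactSpace W := QuasiCompact.compactSpace_of_compactSpace q
    exact QuasiCompact.compactSpace_of_compactSpace (pullback.snd p q)
  have hfs : (Function.support ⇑Γ).Finite := FibCycle.finite_support Γ
  have h2 : ∀ (t : Spec (CommRingCat.of k) ⟶ W) (ht : t ≫ q = 𝟙 _),
      fibreFun p q Γ t ht = ∑ ξ ∈ hfs.toFinset, Γ ξ • mem p q ξ t ht := by
    intro t ht
    funext x
    rw [fibreFun_eq_finsum_mem, Finset.sum_apply]
    refine finsum_eq_sum_of_support_subset _ ?_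
    intro ξ hξ
    rw [Set.Finite.coe_toFinset]
    intro h0
    apply hξ
    simp only [h0, zero_mul]
  rw [h2, h2, ← Finset.sum_sub_distrib]
  refine sum_mem fun ξ hξ => ?_
  rw [← smul_sub]
  rw [Set.Finite.mem_toFinset] at hξ
  exact zsmul_mem (mem_diff p q (hfin ξ hξ) (hflat ξ hξ) t₀ t₁ h₀ h₁ hpt) _

end fam

section deg

variable {k : Type u} [Field k] [IsAlgClosed k] [CharZero k] {X W : Scheme.{u}}
  (p : X ⟶ Spec (CommRingCat.of k)) (q : W ⟶ Spec (CommRingCat.of k))

/-- The degree of the members of a finite flat effective family is constant. -/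
theorem deg_const [IsProper p] [LocallyOfFiniteType q] [IsIntegral W] [CompactSpace W]
    (hW : ∀ x : W, IsIntegrallyClosed (W.presheaf.stalk x))
    (Γ : AlgebraicCycle (pullback p q) ℤ) (hΓ0 : ∀ ξ, 0 ≤ Γ ξ)
    (hgen : ∀ ξ, Γ ξ ≠ 0 → pullback.snd p q ξ = genericPoint W)
    (hfin : ∀ ξ, Γ ξ ≠ 0 → ∀ w : W, (closure {ξ} ∩ pullback.snd p q ⁻¹' {w}).Finite)
    (hflat : ∀ ξ, Γ ξ ≠ 0 → ∀ (z : ↥(pullback p q)) (h : ξ ⤳ z),
      ((Ideal.Quotient.mk (RingHom.ker (Cyc.specMap z ξ h))).comp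
        ((pullback.snd p q).stalkMap z).hom).Flat) :
    ∃ D : ℕ, ∀ (u : Spec (CommRingCat.of k) ⟶ W) (hu : u ≫ q = 𝟙 _),
      ∑ᶠ x, fibreFun p q Γ u hu x = (D : ℤ) := by
  classical
  have hchar : CharZero W.functionField := charZero_functionField q
  have hcompP : CompactSpace ↥(pullback p q) := by
    have h1 : QuasiCompact (pullback.snd p q) := inferInstance
    exact QuasiCompact.compactSpace_of_compactSpace (pullback.snd p q)
  have hfs : (Function.support ⇑Γ).Finite := FibCycle.finite_support Γ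
  have : Finite {w : ↥(pullback p q) // Γ w ≠ 0} := hfs
  obtain ⟨L, _, _, hLfd, hLgal, hne'⟩ := exists_galois_ppt (pullback.snd p q)
    (fun w : {w : ↥(pullback p q) // Γ w ≠ 0} => w.1) (fun w => hgen w.1 w.2)
    (fun w => hfin w.1 w.2)
  have hne : ∀ ξ, Γ ξ ≠ 0 → Nonempty (PPt (pullback.snd p q) L ξ) := fun ξ h => hne' ⟨ξ, h⟩
  have hfinite : ∀ w, Γ w ≠ 0 → Finite (PPt (pullback.snd p q) L w) := fun w h =>
    finite_ppt (pullback.snd p q) L (hfin w h)
  have hext : ∀ (w : ↥(pullback p q)) (lam : PPt (pullback.snd p q) L w),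
      ∃ φ : N W L ⟶ pullback p q, Γ w ≠ 0 → IsExt (pullback.snd p q) L φ lam.1 := by
    intro w lam
    by_cases h : Γ w = 0
    · have : Nonempty ↥(pullback p q) := ⟨w⟩
      obtain ⟨t, ht⟩ := SymFam.exists_pt (pullback.snd p q ≫ q)
      exact ⟨ν W L ≫ q ≫ t, fun h' => absurd h h'⟩
    · obtain ⟨φ, hφ⟩ := exists_ext (hfin w h) lam
      exact ⟨φ, fun _ => hφ⟩
  choose φ hφ' using hext
  have hφ : ∀ w, Γ w ≠ 0 → ∀ lam, IsExt (pullback.snd p q) L (φ w lam) lam.1 :=
    fun w h lam => hφ' w lam h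
  have hν := isQuot_ν (L := L) W hW
  have hνs := Groth.Agent.Sga1.QuotBasic.surjective_of_isQuot hν
  have hIfin : Finite (Idx p q Γ L) := by
    have : ∀ w : {w : ↥(pullback p q) // Γ w ≠ 0}, Finite (Fin (Γ w.1).toNat ×
        PPt (pullback.snd p q) L w.1) := by
      intro w
      have := hfinite w.1 w.2
      infer_instance
    exact inferInstanceAs (Finite (Σ w : {w : ↥(pullback p q) // Γ w ≠ 0},
      Fin (Γ w.1).toNat × PPt (pullback.snd p q) L w.1))
  refine ⟨Nat.card (Idx p q Γ L), fun u hu => ?_⟩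
  obtain ⟨u', hu'⟩ := LiftPt.exists_lift (ν W L) hνs u
  have hcount : ∀ (x : X), fibreFun p q Γ u hu x = (Nat.card {i : Idx p q Γ L //
        (u' ≫ φ i.1.1 i.2.2 ≫ pullback.fst p q) (closedPoint k) = x} : ℤ) := by
    intro x
    rw [fibreFun_eq p q Γ φ u' u hu' hu hφ hgen hfin (fun ξ h z h' _ => hflat ξ h z h') hne x,
      ← card_idx p q Γ φ u' hfs hΓ0 hfinite]
    congr 1
    refine Nat.card_congr (Equiv.subtypeEquivRight fun i => ?_)
    exact apply_eq_slice_iff p q u' u hu' hu (hφ i.1.1 i.1.2 i.2.2).right x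
  rw [finsum_congr hcount]
  exact LiftPt.finsum_card_fiber (fun i : Idx p q Γ L =>
    (u' ≫ φ i.1.1 i.2.2 ≫ pullback.fst p q) (closedPoint k))

end deg

end K952.P1Fam
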