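import Groth.Agent.ZCorr.K952.P1Fam
import Groth.Agent.Fixpt.H136.Mult
import Groth.Agent.Lefpen.H726.ProjGeo

/-!
# From cycles on `P¹_X` to families over the projective line
-/

set_option autoImplicit false
universe u

open CategoryTheory CategoryTheory.Limits AlgebraicGeometry IsLocalRing AlgEqCyc

namespace K952.P1Graph

open Basic Pts ExtPt FamRat

section bridge

variable {k : Type u} [Field k] {X W : Scheme.{u}}
  (p : X ⟶ Spec (CommRingCat.of k)) (q : W ⟶ Spec (CommRingCat.of k)) [IsSeparated q]

theorem range_eq_closure {V P : Scheme.{u}} [IsIntegral V] (i : V ⟶ P) [IsClosedImmersion i] :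
    Set.range i = closure {i (genericPoint V)} := by
  have h1 := i.isClosedEmbedding.closure_image_eq {genericPoint V}
  rw [genericPoint_closure, Set.image_univ, Set.image_singleton] at h1
  exact h1.symm

theorem fibreMult_congr {P C : Scheme.{u}} (g : P ⟶ C) {v v' w : P} (e : v' = v) (h : w ⤳ v)
    (h' : w ⤳ v') : fibreMult g v w h = fibreMult g v' w h' := by
  subst e
  rfl

/-- The cycle of the intersection of an integral closed subscheme of the product with a slice is
the member of the family. -/
theorem subschemeFun_eq {V F : Scheme.{u}} [IsIntegral V] (i : V ⟶ pullback p q)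
    [IsClosedImmersion i] (a : F ⟶ V) (b : F ⟶ X) (t : Spec (CommRingCat.of k) ⟶ W)
    (ht : t ≫ q = 𝟙 _) (hF : IsPullback a b i (slice p q t ht)) {δ : X → ℤ} {x : X}
    (hx : δ x = 0) :
    Cyc.subschemeFun δ 0 b x = mem p q (i (genericPoint V)) t ht x := by
  classical
  have hct : IsClosedImmersion t := Slice.isClosedImmersion_pt q t ht
  have hcs : IsClosedImmersion (slice p q t ht) := Slice.isClosedImmersion_slice p q t ht
  have hcb : IsClosedImmersion b := MorphismProperty.of_isPullback hF ‹_›
  unfold Cyc.subschemeFun
  rw [if_pos hx]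
  have hF2 : IsPullback a (b ≫ p) (i ≫ pullback.snd p q) t :=
    hF.flip.paste_horiz (Slice.isPullback_slice p q t ht).flip |>.flip
  by_cases hs : i (genericPoint V) ⤳ slice p q t ht x
  · obtain ⟨y, hy⟩ : slice p q t ht x ∈ Set.range i := by
      rw [range_eq_closure i]
      exact hs.mem_closure
    obtain ⟨z₀, hz₀, hz₁⟩ := Scheme.Pullback.exists_preimage_pullback (f := i)
      (g := slice p q t ht) y x hy
    let z : F := hF.isoPullback.inv z₀
    have hza : a z = y := by
      have : a z = (hF.isoPullback.inv ≫ a) z₀ := rfl
      rw [this, hF.isoPullback_inv_fst, hz₀]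
    have hzb : b z = x := by
      have : b z = (hF.isoPullback.inv ≫ b) z₀ := rfl
      rw [this, hF.isoPullback_inv_snd, hz₁]
    unfold mem
    rw [dif_pos hs, finsum_mem_def, finsum_eq_single _ z]
    · rw [Set.indicator_of_mem (show z ∈ {z : F | b z = x} from hzb)]
      congr 1
      let e := hF2.isoPullback
      have he : a z = pullback.fst (i ≫ pullback.snd p q) t (e.hom z) := by
        have h1 : pullback.fst (i ≫ pullback.snd p q) t (e.hom z) = (e.hom ≫ pullback.fst _ _) z :=
          rfl
        rw [h1, hF2.isoPullback_hom_fst]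
      obtain ⟨e1⟩ := Groth.Agent.Fixpt.H136.Mult.exists_fibre_equiv (i ≫ pullback.snd p q) t
        (e.hom z)
      let e2 : F.presheaf.stalk z ≃+*
          (pullback (i ≫ pullback.snd p q) t).presheaf.stalk (e.hom z) :=
        (asIso (e.hom.stalkMap z)).symm.commRingCatIsoToRingEquiv
      rw [length_ringEquiv (e2.trans e1)]
      have h3 : i (pullback.fst (i ≫ pullback.snd p q) t (e.hom z)) = slice p q t ht x := by
        rw [← he, hza, hy]
      rw [fibreMult_congr (pullback.snd p q) h3 hs
        ((genericPoint_specializes _).map i.continuous), fibreMult_eq_length]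
    · intro z' hz'
      apply Set.indicator_of_notMem
      intro h
      exact hz' (b.isClosedEmbedding.injective (Eq.trans h hzb.symm))
  · unfold mem
    rw [dif_neg hs]
    apply finsum_mem_of_eqOn_zero
    intro z hz
    exfalso
    apply hs
    have h1 : i (a z) = slice p q t ht x := by
      have h2 : i (a z) = (a ≫ i) z := rfl
      rw [h2, hF.w]
      exact congrArg _ hz
    rw [← h1]
    exact (genericPoint_specializes _).map i.continuous

end bridge

section const

variable {k : Type u} [Field k] {X W : Scheme.{u}}
  (p : X ⟶ Spec (CommRingCat.of k)) (q : W ⟶ Spec (CommRingCat.of k))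
  (y : Spec (CommRingCat.of k) ⟶ X) (hy : y ≫ p = 𝟙 _)

/-- The constant section. -/
noncomputable def cst : W ⟶ pullback p q :=
  pullback.lift (q ≫ y) (𝟙 W) (by rw [Category.assoc, hy, Category.comp_id, Category.id_comp])

@[reassoc]
theorem cst_fst : cst p q y hy ≫ pullback.fst p q = q ≫ y := pullback.lift_fst _ _ _

@[reassoc]
theorem cst_snd : cst p q y hy ≫ pullback.snd p q = 𝟙 W := pullback.lift_snd _ _ _

theorem isClosedImmersion_cst [IsSeparated p] : IsClosedImmersion (cst p q y hy) := by
  have h1 : IsClosedImmersion (cst p q y hy ≫ pullback.snd p q) := by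
    rw [cst_snd]
    infer_instance
  exact IsClosedImmersion.of_comp (cst p q y hy) (pullback.snd p q)

theorem map_maximalIdeal_of_isIso {A B : Scheme.{u}} (f : A ⟶ B) [IsIso f] (a : A) :
    (maximalIdeal (B.presheaf.stalk (f a))).map (f.stalkMap a).hom =
      maximalIdeal (A.presheaf.stalk a) := by
  let e := (asIso (f.stalkMap a)).commRingCatIsoToRingEquiv
  have h1 : Function.Bijective (f.stalkMap a).hom := e.bijective
  have h2 : (maximalIdeal (B.presheaf.stalk (f a))) =
      (maximalIdeal (A.presheaf.stalk a)).comap (f.stalkMap a).hom :=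
    (IsLocalRing.maximalIdeal_comap (f.stalkMap a).hom).symm
  rw [h2, Ideal.map_comap_of_surjective _ h1.surjective]

theorem mem_cst [IsSeparated p] [IsIntegral W] (t : Spec (CommRingCat.of k) ⟶ W) (ht : t ≫ q = 𝟙 _)
    (x : X) : mem p q (cst p q y hy (genericPoint W)) t ht x =
      (Set.indicator {y (closedPoint k)} 1 : X → ℤ) x := by
  classical
  have hc := isClosedImmersion_cst p q y hy
  have hrange := range_eq_closure (cst p q y hy)
  by_cases hs : cst p q y hy (genericPoint W) ⤳ slice p q t ht x
  · obtain ⟨w, hw⟩ : slice p q t ht x ∈ Set.range (cst p q y hy) := by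
      rw [hrange]
      exact hs.mem_closure
    have h1 : x = y (closedPoint k) := by
      have h2 : pullback.fst p q (cst p q y hy w) = (cst p q y hy ≫ pullback.fst p q) w := rfl
      rw [hw, Slice.fst_slice, cst_fst] at h2
      rw [h2]
      change y (q w) = _
      have : Subsingleton (Spec (CommRingCat.of k)) :=
        inferInstanceAs (Subsingleton (PrimeSpectrum k))
      rw [Subsingleton.elim (q w) (closedPoint k)]
    have h0 : (Set.indicator {y (closedPoint k)} 1 : X → ℤ) x = 1 := by
      rw [h1]
      exact indicator_self _
    unfold mem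
    rw [dif_pos hs, h0, fibreMult_congr (pullback.snd p q) hw hs
      ((genericPoint_specializes _).map (cst p q y hy).continuous), fibreMult_eq_length]
    have hiso : IsIso (cst p q y hy ≫ pullback.snd p q) := by
      rw [cst_snd]
      infer_instance
    have h3 := map_maximalIdeal_of_isIso (cst p q y hy ≫ pullback.snd p q) w
    have h4 : Module.length (W.presheaf.stalk w ⧸ maximalIdeal (W.presheaf.stalk w))
        (W.presheaf.stalk w ⧸ maximalIdeal (W.presheaf.stalk w)) = 1 := by
      let _ : Field (W.presheaf.stalk w ⧸ maximalIdeal (W.presheaf.stalk w)) :=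
        Ideal.Quotient.field _
      exact Module.length_eq_one _ _
    rw [h3, h4]
    rfl
  · unfold mem
    rw [dif_neg hs]
    symm
    apply indicator_ne
    rintro rfl
    apply hs
    have h5 : slice p q t ht (y (closedPoint k)) = cst p q y hy (t (closedPoint k)) := by
      have h6 : y ≫ slice p q t ht = t ≫ cst p q y hy := by
        apply pullback.hom_ext
        · rw [Category.assoc, Slice.slice_fst, Category.assoc, cst_fst, reassoc_of% ht,
            Category.comp_id]
        · rw [Category.assoc, Slice.slice_snd, Category.assoc, cst_snd, reassoc_of% hy,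
            Category.comp_id]
      have h7 : (y ≫ slice p q t ht) (closedPoint k) = (t ≫ cst p q y hy) (closedPoint k) := by
        rw [h6]
      exact h7
    rw [h5]
    exact (genericPoint_specializes _).map (cst p q y hy).continuous

end const

end K952.P1Graph
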