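import Groth.Agent.S2354
import Groth.Agent.S0564
import Groth.Agent.S9361
import Groth.Agent.S7320
import Groth.Agent.Ega4dA.StalkUFD
import Groth.Agent.ZCorr.K952.Conn

/-!
# Elimination of indeterminacy on the spectrum of a regular two-dimensional local ring
-/

set_option autoImplicit false

universe u

open AlgebraicGeometry CategoryTheory CategoryTheory.Limits TopologicalSpace IsLocalRing

namespace K952.Resol

open K952.Link

section Stalk

variable (B : Type u) [CommRing B]

theorem isRegularLocalRing_stalk [IsRegularLocalRing B] (y : Spec (CommRingCat.of B)) :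
    IsRegularLocalRing ((Spec (CommRingCat.of B)).presheaf.stalk y) := by
  have h0 : (y : PrimeSpectrum B).asIdeal.IsPrime := (y : PrimeSpectrum B).isPrime
  have h1 : IsRegularLocalRing (Localization.AtPrime (y : PrimeSpectrum B).asIdeal) :=
    Groth.Agent.S0564.result B (y : PrimeSpectrum B).asIdeal
  obtain ⟨e⟩ := Groth.Agent.Ega4dA.StalkUFD.nonempty_stalk_equiv B y
  exact IsRegularLocalRing.of_ringEquiv e.symm

theorem ringKrullDim_stalk (y : Spec (CommRingCat.of B)) :
    ringKrullDim ((Spec (CommRingCat.of B)).presheaf.stalk y) =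
      (y : PrimeSpectrum B).asIdeal.height := by
  have h0 : (y : PrimeSpectrum B).asIdeal.IsPrime := (y : PrimeSpectrum B).isPrime
  obtain ⟨e⟩ := Groth.Agent.Ega4dA.StalkUFD.nonempty_stalk_equiv B y
  have h1 := ringKrullDim_eq_of_ringEquiv e
  exact h1.trans (IsLocalization.AtPrime.ringKrullDim_eq_height
    (y : PrimeSpectrum B).asIdeal _)

theorem ringKrullDim_stalk_le_one [IsLocalRing B] [IsNoetherianRing B]
    (hdim : ringKrullDim B = 2) (y : Spec (CommRingCat.of B)) (hy : y ≠ closedPoint B) :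
    ringKrullDim ((Spec (CommRingCat.of B)).presheaf.stalk y) ≤ 1 := by
  rw [ringKrullDim_stalk]
  have h0 : (y : PrimeSpectrum B).asIdeal.IsPrime := (y : PrimeSpectrum B).isPrime
  have h1 : (y : PrimeSpectrum B).asIdeal < maximalIdeal B := by
    refine lt_of_le_of_ne (le_maximalIdeal h0.ne_top) fun h => hy ?_
    exact PrimeSpectrum.ext h
  have h2 := Ideal.height_add_one_le_of_lt_of_isPrime h1
  have h3 : ((maximalIdeal B).height : WithBot ℕ∞) = ((2 : ℕ∞) : WithBot ℕ∞) := by
    rw [IsLocalRing.maximalIdeal_height_eq_ringKrullDim, hdim]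
    rfl
  rw [WithBot.coe_inj.1 h3] at h2
  have h6 : (y : PrimeSpectrum B).asIdeal.height + 1 ≤ 1 + 1 := by
    rw [one_add_one_eq_two]
    exact h2
  have h5 := (ENat.add_le_add_iff_right ENat.one_ne_top).1 h6
  exact_mod_cast h5

end Stalk

section Ext

variable (k : Type u) [Field k] (B : Type u) [CommRing B] [Algebra k B]

/-- The structure morphism. -/
noncomputable abbrev str : Spec (CommRingCat.of B) ⟶ Spec (CommRingCat.of k) :=
  Spec.map (CommRingCat.ofHom (algebraMap k B))

/-- The punctured spectrum. -/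
noncomputable abbrev D [IsLocalRing B] : (Spec (CommRingCat.of B)).Opens :=
  ⟨{closedPoint B}ᶜ, (isClosed_singleton_closedPoint B).isOpen_compl⟩

variable {k}

/-- Morphisms to proper schemes extend to the punctured spectrum. -/
theorem exists_ext [IsDomain B] [IsRegularLocalRing B] (hdim : ringKrullDim B = 2)
    {S : Scheme.{u}} (r : S ⟶ Spec (CommRingCat.of k)) [IsProper r]
    (V : (Spec (CommRingCat.of B)).Opens) (hV : (V : Set (Spec (CommRingCat.of B))).Nonempty)
    (F : (V : Scheme.{u}) ⟶ S) (hF : F ≫ r = V.ι ≫ str k B) :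
    ∃ F' : (D B : Scheme.{u}) ⟶ S, F' ≫ r = (D B).ι ≫ str k B ∧
      ∀ (T : Scheme.{u}) (β : T ⟶ (V : Scheme.{u})) (β' : T ⟶ (D B : Scheme.{u})),
        β ≫ V.ι = β' ≫ (D B).ι → β' ≫ F' = β ≫ F := by
  have hN : IsNoetherianRing (CommRingCat.of B) := inferInstanceAs (IsNoetherianRing B)
  have hint : IsIntegral (Spec (CommRingCat.of B)) := inferInstance
  obtain ⟨U, hVU, s', hs', hs'', hU⟩ := Groth.Agent.S2354.result
    (Y := Spec (CommRingCat.of B)) (fun y _ => isRegularLocalRing_stalk B y)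
    (pullback.fst (str k B) r) (pullback.fst (str k B) r).isClosedMap V
    (V.isOpen.dense hV) (pullback.lift V.ι F hF.symm) (pullback.lift_fst _ _ _)
  have hDU : D B ≤ U := fun y hy => hU y (ringKrullDim_stalk_le_one B hdim y hy)
  refine ⟨(Spec (CommRingCat.of B)).homOfLE hDU ≫ s' ≫ pullback.snd (str k B) r, ?_, ?_⟩
  · rw [Category.assoc, Category.assoc, ← pullback.condition, ← Category.assoc s', hs',
      ← Category.assoc, Scheme.homOfLE_ι]
  · intro T β β' h
    have h1 : β' ≫ (Spec (CommRingCat.of B)).homOfLE hDU =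
        β ≫ (Spec (CommRingCat.of B)).homOfLE hVU := by
      rw [← cancel_mono U.ι, Category.assoc, Category.assoc, Scheme.homOfLE_ι, Scheme.homOfLE_ι, h]
    rw [← Category.assoc, h1, Category.assoc, ← Category.assoc _ s', hs'', pullback.lift_snd]

end Ext

section Main

variable {k : Type u} [Field k] (B : Type u) [CommRing B] [Algebra k B]

theorem eq_closedPoint [IsLocalRing B] {x : Spec (CommRingCat.of B)}
    (hx : IsClosed ({x} : Set (Spec (CommRingCat.of B)))) : x = closedPoint B := by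
  have h1 : (x : PrimeSpectrum B).asIdeal.IsMaximal :=
    (PrimeSpectrum.isClosed_singleton_iff_isMaximal (x : PrimeSpectrum B)).1 hx
  exact PrimeSpectrum.ext (eq_maximalIdeal h1)

theorem apply_section [IsLocalRing B] (t : Spec (CommRingCat.of k) ⟶ Spec (CommRingCat.of B))
    (ht : t ≫ str k B = 𝟙 _) : t (closedPoint k) = closedPoint B := by
  have h1 := K952.Conn.isClosedImmersion_pt (str k B) t ht
  apply eq_closedPoint
  rw [← K952.Conn.range_eq]
  exact t.isClosedEmbedding.isClosed_range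

variable [IsAlgClosed k]

theorem conn_of_arcs [IsDomain B] [IsRegularLocalRing B] (hdim : ringKrullDim B = 2)
    {S : Scheme.{u}} (r : S ⟶ Spec (CommRingCat.of k)) [IsProper r]
    (V : (Spec (CommRingCat.of B)).Opens) (hV : (V : Set (Spec (CommRingCat.of B))).Nonempty)
    (F : (V : Scheme.{u}) ⟶ S) (hF : F ≫ r = V.ι ≫ str k B)
    (R : Type u) [CommRing R] [IsDomain R] [ValuationRing R] [Algebra k R]
    (o : Spec (CommRingCat.of k) ⟶ Spec (CommRingCat.of R)) (ho : o ≫ str k R = 𝟙 _)
    (γ₁ γ₂ : Spec (CommRingCat.of R) ⟶ Spec (CommRingCat.of B))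
    (hγ₁ : γ₁ ≫ str k B = str k R) (hγ₂ : γ₂ ≫ str k B = str k R)
    (a₁ a₂ : Spec (CommRingCat.of R) ⟶ S)
    (ha₁ : a₁ ≫ r = str k R) (ha₂ : a₂ ≫ r = str k R)
    (β₁ β₂ : Spec (CommRingCat.of (FractionRing R)) ⟶ (V : Scheme.{u}))
    (hβ₁ : β₁ ≫ V.ι = Spec.map (CommRingCat.ofHom (algebraMap R (FractionRing R))) ≫ γ₁)
    (hβ₂ : β₂ ≫ V.ι = Spec.map (CommRingCat.ofHom (algebraMap R (FractionRing R))) ≫ γ₂)
    (hβ₁' : β₁ ≫ F = Spec.map (CommRingCat.ofHom (algebraMap R (FractionRing R))) ≫ a₁)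
    (hβ₂' : β₂ ≫ F = Spec.map (CommRingCat.ofHom (algebraMap R (FractionRing R))) ≫ a₂)
    (hD₁ : Set.range (Spec.map (CommRingCat.ofHom (algebraMap R (FractionRing R))) ≫ γ₁) ⊆ D B)
    (hD₂ : Set.range (Spec.map (CommRingCat.ofHom (algebraMap R (FractionRing R))) ≫ γ₂) ⊆ D B) :
    Conn r (o ≫ a₁) (o ≫ a₂) := by
  have hN : IsNoetherianRing (CommRingCat.of B) := inferInstanceAs (IsNoetherianRing B)
  have hint : IsIntegral (Spec (CommRingCat.of B)) := inferInstance
  obtain ⟨F', hF', hF''⟩ := exists_ext B hdim r V hV F hF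
  let f := pullback.fst (str k B) r
  let s : (D B : Scheme.{u}) ⟶ pullback (str k B) r := pullback.lift (D B).ι F' hF'.symm
  have hs : s ≫ f = (D B).ι := pullback.lift_fst _ _ _
  have hs' : s ≫ pullback.snd (str k B) r = F' := pullback.lift_snd _ _ _
  let ψ : s.image ⟶ Spec (CommRingCat.of B) := s.imageι ≫ f
  have hψ : IsProper ψ := inferInstance
  have hψiso : IsIso (ψ ∣_ D B) := Groth.Agent.S9361.result f (D B) s hs
  obtain ⟨X', g, hg, hgiso, h, hh⟩ := Groth.Agent.S7320.result (Spec (CommRingCat.of B))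
    {closedPoint B} (Set.finite_singleton _) (isClosed_singleton_closedPoint B) (by
      rintro x rfl
      refine ⟨isClosed_singleton_closedPoint B, isRegularLocalRing_stalk B _, ?_⟩
      refine (ringKrullDim_stalk B _).trans ?_
      change ((maximalIdeal B).height : WithBot ℕ∞) = 2
      rw [IsLocalRing.maximalIdeal_height_eq_ringKrullDim, hdim]) ψ hψiso
  have hgp : IsProper g := K373.ContrBasic.contrSeq_isProper hg
  let F₁ : X' ⟶ S := h ≫ s.imageι ≫ pullback.snd (str k B) r
  have hF₁ : F₁ ≫ r = g ≫ str k B := by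
    change (_ ≫ _ ≫ _) ≫ _ = _
    rw [Category.assoc, Category.assoc, ← pullback.condition, ← hh]
    simp [ψ, f]
  have key : ∀ (γ : Spec (CommRingCat.of R) ⟶ Spec (CommRingCat.of B))
      (a : Spec (CommRingCat.of R) ⟶ S)
      (β : Spec (CommRingCat.of (FractionRing R)) ⟶ (V : Scheme.{u})),
      γ ≫ str k B = str k R → a ≫ r = str k R →
      β ≫ V.ι = Spec.map (CommRingCat.ofHom (algebraMap R (FractionRing R))) ≫ γ →
      β ≫ F = Spec.map (CommRingCat.ofHom (algebraMap R (FractionRing R))) ≫ a →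
      Set.range (Spec.map (CommRingCat.ofHom (algebraMap R (FractionRing R))) ≫ γ) ⊆ D B →
      ∃ γ' : Spec (CommRingCat.of R) ⟶ X', γ' ≫ g = γ ∧ γ' ≫ F₁ = a := by
    intro γ a β hγ ha hβ hβ' hD
    obtain ⟨l, hl⟩ := K952.Conn.exists_lift g (D B) _ hD
    have hD' : Set.range (Spec.map (CommRingCat.ofHom (algebraMap R (FractionRing R))) ≫ γ) ⊆
      Set.range (D B).ι := by rwa [Scheme.Opens.range_ι]
    let v := IsOpenImmersion.lift (D B).ι _ hD'
    have hv : v ≫ (D B).ι = _ := IsOpenImmersion.lift_fac (D B).ι _ hD'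
    have h1 : (l ≫ h) ≫ ψ = (v ≫ s.toImage) ≫ ψ := by
      rw [Category.assoc, hh, hl, Category.assoc]
      change _ = v ≫ s.toImage ≫ s.imageι ≫ f
      rw [← Category.assoc s.toImage, Scheme.Hom.toImage_imageι, hs, hv]
    have h2 : l ≫ h = v ≫ s.toImage := K952.Conn.lift_eq ψ (D B) h1 (by
      rw [Category.assoc, hh, hl]
      exact hD)
    have h3 : l ≫ F₁ = Spec.map (CommRingCat.ofHom (algebraMap R (FractionRing R))) ≫ a := by
      change l ≫ h ≫ s.imageι ≫ pullback.snd (str k B) r = _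
      rw [← Category.assoc, h2, Category.assoc, ← Category.assoc s.toImage,
        Scheme.Hom.toImage_imageι, hs', hF'' _ β v (hβ.trans hv.symm), hβ']
    have hval : ValuativeCriterion.Existence g := by
      have h : IsProper g := inferInstance
      rw [IsProper.eq_valuativeCriterion] at h
      exact h.1.1.1.existence
    obtain ⟨⟨γ'⟩⟩ := hval
      { R := R
        commRing := inferInstance
        domain := inferInstance
        valuationRing := inferInstance
        K := FractionRing R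
        field := inferInstance
        algebra := inferInstance
        isFractionRing := inferInstance
        i₁ := l
        i₂ := γ
        commSq := ⟨hl⟩ }
    refine ⟨γ'.l, γ'.fac_right, ?_⟩
    have hdom : IsDominant (Spec.map (CommRingCat.ofHom (algebraMap R (FractionRing R)))) := by
      refine ⟨?_⟩
      have h4 : DenseRange (PrimeSpectrum.comap (algebraMap R (FractionRing R))) := by
        rw [PrimeSpectrum.denseRange_comap_iff_ker_le_nilRadical,
          (RingHom.injective_iff_ker_eq_bot _).1 (IsFractionRing.injective R (FractionRing R))]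
        exact bot_le
      exact h4
    refine ext_of_isDominant_of_isSeparated r ?_
      (Spec.map (CommRingCat.ofHom (algebraMap R (FractionRing R)))) ?_
    · rw [Category.assoc, hF₁, ← Category.assoc, γ'.fac_right, ha, hγ]
    · rw [← Category.assoc, γ'.fac_left, h3]
  obtain ⟨γ₁', hγ₁', hγ₁''⟩ := key γ₁ a₁ β₁ hγ₁ ha₁ hβ₁ hβ₁' hD₁
  obtain ⟨γ₂', hγ₂', hγ₂''⟩ := key γ₂ a₂ β₂ hγ₂ ha₂ hβ₂ hβ₂' hD₂
  have h1 : (o ≫ γ₁) ≫ str k B = 𝟙 _ := by rw [Category.assoc, hγ₁, ho]
  have h2 : (o ≫ γ₂) ≫ str k B = 𝟙 _ := by rw [Category.assoc, hγ₂, ho]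
  have h3 : o ≫ γ₁ = o ≫ γ₂ := K952.Conn.eq_of_apply (str k B) h1 h2 (by
    rw [apply_section B _ h1, apply_section B _ h2])
  have h4 := K952.Conn.conn_lift hg (str k B) (fun x hx => ⟨o ≫ γ₁, h1, by
    rw [apply_section B _ h1, eq_closedPoint B hx]⟩) (o ≫ γ₁') (o ≫ γ₂')
    (by rw [Category.assoc, ← Category.assoc γ₁', hγ₁', ← Category.assoc, h1])
    (by rw [Category.assoc, ← Category.assoc γ₂', hγ₂', ← Category.assoc, h2])
    (by
      rw [Category.assoc, Category.assoc, hγ₁', hγ₂', h3]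
      exact Conn.refl _ _)
  have h5 := h4.comp F₁ hF₁
  rwa [Category.assoc, Category.assoc, hγ₁'', hγ₂''] at h5

end Main

end K952.Resol
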